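import Mathlib
import Cfsg.Agent.Lib.Forms.Max.SL3.SympType.Pairs

/-!
# Subgroups of `GL₂` of order prime to `p` over an arbitrary finite field, and pairs of homologies

The statements of the prime field case with the extension of degree two of the given field in place of the quadratic
extension of the prime field.
-/

set_option autoImplicit false
set_option linter.unusedSectionVars false
set_option linter.style.haveILetI false

namespace Cfsg.Agent.Forms.Max.SU3.SympType

open Matrix Cfsg.Agent.Forms.Max.SL3.Singer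
open scoped MatrixGroups
open Cfsg.Agent.Forms.Max.SL3.SympType hiding exists_proj shapes planeGroup_pow_eq_one pair_val pair_tau

variable {F : Type*} [Field F] [Fintype F] {H : Subgroup (GL (Fin 3) F)}

local notation "M3" => Matrix (Fin 3) (Fin 3) F
local notation "GL3" => GL (Fin 3) F
local notation "M2" => Matrix (Fin 2) (Fin 2) F
local notation "GL2" => GL (Fin 2) F
local notation "Vec" => (Fin 3 → F)

/-- the characteristic does not divide the order of the multiplicative group -/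
theorem not_dvd_card_sub_one (p : ℕ) [hp : Fact p.Prime] [CharP F p] : ¬ p ∣ Fintype.card F - 1 := fun h => by
  have h1 : p ∣ Fintype.card F := (CharP.cast_eq_zero_iff F p _).1 (Nat.cast_card_eq_zero F)
  have := Nat.dvd_sub h1 h
  rw [Nat.sub_sub_self Fintype.card_pos] at this
  exact hp.out.one_lt.ne' (Nat.dvd_one.1 this)

/-- the projective special linear group over the quadratic extension receives the group modulo scalars -/
theorem exists_proj (p : ℕ) [Fact p.Prime] [CharP F p] (hp2 : p ≠ 2) :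
    ∃ ψ : GL2 →* Matrix.ProjectiveSpecialLinearGroup (Fin 2) (FiniteField.Extension F p 2),
      ∀ g, ψ g = 1 ↔ Scal (g : M2) := by
  classical
  let E := FiniteField.Extension F p 2
  haveI : CharP E p := charP_of_injective_algebraMap' F p
  haveI : Fintype E := Fintype.ofFinite E
  set n := Fintype.card F with hc
  have hE : Fintype.card E = n ^ 2 := by
    rw [← Nat.card_eq_fintype_card, FiniteField.natCard_extension, Nat.card_eq_fintype_card]
  let φ : F →+* E := algebraMap F E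
  have hE2 : ringChar E ≠ 2 := by rw [ringChar.eq E p]; exact hp2
  have hsq : ∀ d : F, ∃ s : E, s * s = φ d := by
    intro d
    rcases eq_or_ne d 0 with rfl | hd
    · exact ⟨0, by simp⟩
    have hφ : φ d ≠ 0 := (map_ne_zero φ).2 hd
    obtain ⟨s, hs⟩ : IsSquare (φ d) := by
      rw [FiniteField.isSquare_iff hE2 hφ, hE, ← map_pow, ← map_one φ]
      congr 1
      obtain ⟨k, hk⟩ : Odd n := Nat.odd_iff.2 (FiniteField.odd_card_of_char_ne_two (by rwa [ringChar.eq F p]))
      have h1 : d ^ (n - 1) = 1 := FiniteField.pow_card_sub_one_eq_one d hd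
      have h2 : n ^ 2 / 2 = (n - 1) * (k + 1) := by
        rw [hk]
        rw [Nat.add_sub_cancel, show (2 * k + 1) ^ 2 = 1 + 2 * (2 * k * (k + 1)) by ring]
        omega
      rw [h2, pow_mul, h1, one_pow]
    exact ⟨s, hs.symm⟩
  choose sq hsq using hsq
  let s : GL2 → E := fun g => sq (g : M2).det
  have hs : ∀ g, s g * s g = φ (g : M2).det := fun g => hsq _
  have hs0 : ∀ g, s g ≠ 0 := by
    intro g e
    have := hs g
    rw [e, mul_zero] at this
    exact Matrix.GeneralLinearGroup.det_ne_zero g ((map_eq_zero φ).1 this.symm)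
  let mp : GL2 → SL(2, E) := fun g => ⟨(s g)⁻¹ • (g : M2).map φ, by
    rw [Matrix.det_smul, Fintype.card_fin,
      show ((g : M2).map φ) = φ.mapMatrix (g : M2) from rfl, ← RingHom.map_det, ← hs g, pow_two, mul_mul_mul_comm,
      inv_mul_cancel₀ (hs0 g), one_mul]⟩
  have hmul : ∀ g h : GL2, KleinPSL.pi E (mp (g * h)) = KleinPSL.pi E (mp g) * KleinPSL.pi E (mp h) := by
    intro g h
    rw [← map_mul]
    apply KleinPSL.pi_eq_iff.2
    have h1 : s (g * h) * s (g * h) = (s g * s h) * (s g * s h) := by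
      rw [hs, mul_mul_mul_comm, hs, hs, Units.val_mul, Matrix.det_mul, map_mul]
    have hm : ((g * h : GL2) : M2).map φ = (g : M2).map φ * (h : M2).map φ := by
      rw [Units.val_mul, Matrix.map_mul]
    rcases mul_self_eq_mul_self_iff.1 h1 with e | e
    · left
      refine Subtype.ext ?_
      show (s (g * h))⁻¹ • ((g * h : GL2) : M2).map φ = ((s g)⁻¹ • (g : M2).map φ) * ((s h)⁻¹ • (h : M2).map φ)
      rw [hm, e, Matrix.smul_mul, Matrix.mul_smul, smul_smul, mul_inv]
    · right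
      refine Subtype.ext ?_
      rw [Matrix.SpecialLinearGroup.coe_neg, Matrix.SpecialLinearGroup.coe_mul]
      show (s (g * h))⁻¹ • ((g * h : GL2) : M2).map φ = -(((s g)⁻¹ • (g : M2).map φ) * ((s h)⁻¹ • (h : M2).map φ))
      rw [hm, e, Matrix.smul_mul, Matrix.mul_smul, smul_smul, inv_neg, neg_smul, mul_inv]
  refine ⟨MonoidHom.mk' (fun g => KleinPSL.pi E (mp g)) hmul, fun g => ?_⟩
  show KleinPSL.pi E (mp g) = 1 ↔ _
  rw [KleinPSL.pi_eq_one]
  constructor
  · intro h
    obtain ⟨e, he⟩ : ∃ e : E, (g : M2).map φ = e • 1 := by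
      rcases h with h | h
      · refine ⟨s g, ?_⟩
        have := congrArg (fun M : SL(2, E) => s g • (M : Matrix (Fin 2) (Fin 2) E)) h
        simpa [mp, smul_smul, mul_inv_cancel₀ (hs0 g)] using this
      · refine ⟨-s g, ?_⟩
        have := congrArg (fun M : SL(2, E) => s g • (M : Matrix (Fin 2) (Fin 2) E)) h
        simpa [mp, smul_smul, mul_inv_cancel₀ (hs0 g)] using this
    refine ⟨(g : M2) 0 0, ?_⟩
    have e00 := congrFun (congrFun he 0) 0
    have e01 := congrFun (congrFun he 0) 1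
    have e10 := congrFun (congrFun he 1) 0
    have e11 := congrFun (congrFun he 1) 1
    simp only [Matrix.map_apply, Matrix.smul_apply, smul_eq_mul, Matrix.one_apply_eq,
      Matrix.one_apply_ne (zero_ne_one : (0 : Fin 2) ≠ 1), Matrix.one_apply_ne (one_ne_zero : (1 : Fin 2) ≠ 0),
      mul_zero, mul_one] at e00 e01 e10 e11
    have i01 := (map_eq_zero φ).1 e01
    have i10 := (map_eq_zero φ).1 e10
    have i11 := φ.injective (e11.trans e00.symm)
    ext i j
    fin_cases i <;> fin_cases j <;> simp [i01, i10, i11]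
  · rintro ⟨c, hgc⟩
    have h1 : s g * s g = φ c * φ c := by
      rw [hs, hgc, Matrix.det_smul, Fintype.card_fin, Matrix.det_one, mul_one, map_pow, pow_two]
    have hm : (g : M2).map φ = φ c • 1 := by
      rw [hgc]
      ext i j
      simp [Matrix.one_apply, apply_ite φ]
    rcases mul_self_eq_mul_self_iff.1 h1 with e | e
    · left
      refine Subtype.ext ?_
      show (s g)⁻¹ • (g : M2).map φ = _
      rw [hm, ← e, smul_smul, inv_mul_cancel₀ (hs0 g), one_smul, Matrix.SpecialLinearGroup.coe_one]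
    · right
      refine Subtype.ext ?_
      show (s g)⁻¹ • (g : M2).map φ = _
      rw [hm, show φ c = -s g by rw [e, neg_neg], smul_smul, mul_neg, inv_mul_cancel₀ (hs0 g), neg_smul, one_smul,
        Matrix.SpecialLinearGroup.coe_neg, Matrix.SpecialLinearGroup.coe_one]

/-- Dickson's list for a group of order prime to the characteristic -/
theorem shapes (p : ℕ) [Fact p.Prime] [CharP F p] (hp2 : p ≠ 2) (G : Subgroup GL2)
    (hG : ∀ g ∈ G, g ^ p = 1 → g = 1) :
    Dihedralish G ∨ (SmallThree G ∧ TwoThree G) ∨ (SmallFive G ∧ TwoThree G) := by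
  classical
  obtain ⟨ψ, hψ⟩ := exists_proj (F := F) p hp2
  haveI : Fintype (FiniteField.Extension F p 2) := Fintype.ofFinite _
  haveI : CharP (FiniteField.Extension F p 2) p := charP_of_injective_algebraMap' F p
  set P := G.map ψ with hP
  have hT := (DicksonAction.twoPt (F := FiniteField.Extension F p 2) p).subgroup P
  have hN : ∀ x : P, orderOf x ≠ p := by
    rintro ⟨x, g, hg, rfl⟩ ho
    rw [← Subgroup.orderOf_coe] at ho
    dsimp only at ho
    obtain ⟨c, hgc⟩ := (hψ (g ^ p)).1 (by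
      rw [map_pow]; exact orderOf_dvd_iff_pow_eq_one.1 (dvd_of_eq ho))
    have hc0 : c ≠ 0 := by
      intro e
      have := Matrix.GeneralLinearGroup.det_ne_zero (g ^ p)
      rw [hgc, e, zero_smul] at this
      simp at this
    have h1 : (g ^ (Fintype.card F - 1)) ^ p = 1 := by
      refine Units.ext ?_
      rw [← pow_mul, mul_comm, pow_mul, Units.val_pow_eq_pow_val, hgc, smul_pow, one_pow, Units.val_one,
        FiniteField.pow_card_sub_one_eq_one c hc0, one_smul]
    have h2 : ψ g ^ (Fintype.card F - 1) = 1 := by rw [← map_pow, hG _ (pow_mem hg _) h1, map_one]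
    have h3 := orderOf_dvd_of_pow_eq_one h2
    rw [ho] at h3
    exact not_dvd_card_sub_one p h3
  have key : ∀ g, ∀ hg : g ∈ G, ∀ n : ℕ, (⟨ψ g, g, hg, rfl⟩ : P) ^ n = 1 ↔ Scal ((g ^ n : GL2) : M2) := by
    intro g hg n
    rw [← hψ, map_pow]
    exact ⟨fun h => by simpa using congrArg Subtype.val h, fun h => Subtype.ext (by simpa using h)⟩
  have key2 : ∀ g h, ∀ hg : g ∈ G, ∀ hh : h ∈ G,
      Commute (⟨ψ g, g, hg, rfl⟩ : P) ⟨ψ h, h, hh, rfl⟩ ↔ PC g h := by
    intro g h hg hh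
    rw [← scal_comm_iff, ← hψ, map_mul, map_inv, mul_inv_eq_one, map_mul, map_mul]
    exact ⟨fun e => congrArg Subtype.val e, fun e => Subtype.ext e⟩
  have key1 : ∀ g, ∀ hg : g ∈ G, (⟨ψ g, g, hg, rfl⟩ : P) = 1 ↔ Scal (g : M2) := fun g hg => by
    have := key g hg 1
    rwa [pow_one, pow_one] at this
  have key3 : ∀ g h, ∀ hg : g ∈ G, ∀ hh : h ∈ G,
      (⟨ψ g, g, hg, rfl⟩ : P) * ⟨ψ h, h, hh, rfl⟩ = ⟨ψ (g * h), g * h, mul_mem hg hh, rfl⟩ := fun g h hg hh =>
    Subtype.ext (map_mul ψ g h).symm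
  have two : HasTwoThree P → TwoThree G := by
    rintro ⟨⟨⟨-, g, hg, rfl⟩, ha, ha'⟩, ⟨-, h, hh, rfl⟩, hb, hb'⟩
    exact ⟨⟨g, hg, fun e => ha ((key1 g hg).2 e), (key g hg 3).1 ha'⟩,
      h, hh, fun e => hb ((key1 h hh).2 e), (key h hh 2).1 hb'⟩
  rcases shape_of_coprime (DicksonCount.classify_coprime hT hN) with h | ⟨h, h'⟩ | ⟨h, h'⟩
  · refine Or.inl ⟨fun x hx y hy hx2 hy2 => (key2 x y hx hy).1 (h.1 _ _ ?_ ?_), ?_⟩
    · rw [key3 x x hx hx]; exact fun e => hx2 ((key1 _ (mul_mem hx hx)).1 e)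
    · rw [key3 y y hy hy]; exact fun e => hy2 ((key1 _ (mul_mem hy hy)).1 e)
    intro a ha b hb ha2 hb2 ha1 hb1 hab hab1
    rcases h.2 ⟨ψ a, a, ha, rfl⟩ ⟨ψ b, b, hb, rfl⟩ (by rw [key3 a a ha ha]; exact (key1 _ (mul_mem ha ha)).2 ha2)
        (by rw [key3 b b hb hb]; exact (key1 _ (mul_mem hb hb)).2 hb2) (fun e => ha1 ((key1 _ ha).1 e))
        (fun e => hb1 ((key1 _ hb).1 e)) ((key2 a b ha hb).2 hab)
        (by rw [key3 a b ha hb]; exact fun e => hab1 ((key1 _ (mul_mem ha hb)).1 e)) with h | h | h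
    · exact Or.inl fun g hg => (key2 g a hg ha).1 (h _)
    · exact Or.inr (Or.inl fun g hg => (key2 g b hg hb).1 (h _))
    · refine Or.inr (Or.inr fun g hg => (key2 g (a * b) hg (mul_mem ha hb)).1 ?_)
      rw [← key3 a b ha hb]; exact h _
  · exact Or.inr (Or.inl ⟨fun z hz => (h ⟨ψ z, z, hz, rfl⟩).imp (key z hz 3).1 (key z hz 4).1, two h'⟩)
  · exact Or.inr (Or.inr ⟨fun z hz => (h ⟨ψ z, z, hz, rfl⟩).imp (key z hz 2).1
      (Or.imp (key z hz 3).1 (key z hz 5).1), two h'⟩)

/-- Without transvections the plane group has order prime to `p`. -/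
theorem planeGroup_pow_eq_one (p : ℕ) [hp : Fact p.Prime] [CharP F p] (hH : NoTr H) {B : M3}
    (hB : B.det ≠ 0) : ∀ g ∈ planeGroup H B, g ^ p = 1 → g = 1 := by
  intro g₁ hg₁ hgp₁
  suffices h : ∀ g ∈ planeGroup H B, g ^ p = 1 → g ^ (Fintype.card F - 1) = 1 by
    have h1 := h g₁ hg₁ hgp₁
    have hcop : Nat.Coprime p (Fintype.card F - 1) := hp.out.coprime_iff_not_dvd.2 (not_dvd_card_sub_one p)
    rw [← orderOf_eq_one_iff, ← Nat.dvd_one, ← hcop]
    exact Nat.dvd_gcd (orderOf_dvd_of_pow_eq_one hgp₁) (orderOf_dvd_of_pow_eq_one h1)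
  rintro g ⟨a, ha, h, hh, e⟩ hgp
  have e' : ((h ^ (Fintype.card F - 1) : GL3) : M3) * B = B * blk 1 (((g : M2)) ^ (Fintype.card F - 1)) := by
    rw [← FiniteField.pow_card_sub_one_eq_one a ha, ← blk_pow, Units.val_pow_eq_pow_val]
    exact ((SemiconjBy.pow_right (show SemiconjBy B (blk a (g : M2)) (h : M3) from e.symm) (Fintype.card F - 1))).eq.symm
  set N : M2 := (g : M2) ^ (Fintype.card F - 1) - 1 with hN
  have hNp : N ^ p = 0 := by
    rw [hN, sub_pow_char_of_commute (p := p) (Commute.one_right _), one_pow, ← pow_mul, mul_comm, pow_mul,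
      ← Units.val_pow_eq_pow_val, hgp, Units.val_one, one_pow, sub_self]
  have hd : N.det = 0 := by
    have := congrArg Matrix.det hNp
    rw [Matrix.det_pow, Matrix.det_zero] at this
    exact pow_eq_zero_iff hp.out.ne_zero |>.1 this
  have hN2 : N * N = N.trace • N := by rw [sq_trace, hd, zero_smul, sub_zero]
  have hpow : ∀ n : ℕ, N ^ (n + 1) = N.trace ^ n • N := by
    intro n
    induction n with
    | zero => simp
    | succ n ih => rw [pow_succ, ih, Matrix.smul_mul, hN2, smul_smul, pow_succ]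
  have hsq : N * N = 0 := by
    obtain ⟨k, hk⟩ := Nat.exists_eq_succ_of_ne_zero hp.out.ne_zero
    rw [hk, hpow] at hNp
    rcases smul_eq_zero.1 hNp with ht | ht
    · rw [hN2, eq_zero_of_pow_eq_zero ht, zero_smul]
    · rw [ht, mul_zero]
  obtain ⟨u, φ, hNuv⟩ : ∃ u φ : Fin 2 → F, N = vecMulVec u φ := by
    have e00 := congrFun (congrFun hsq 0) 0
    have e11 := congrFun (congrFun hsq 1) 1
    simp only [Matrix.mul_apply, Fin.sum_univ_two, Matrix.zero_apply] at e00 e11
    have h10 := congrFun (congrFun hsq 1) 0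
    simp only [Matrix.mul_apply, Fin.sum_univ_two, Matrix.zero_apply] at h10
    by_cases hc0 : N 1 0 = 0
    · have a0 : N 0 0 = 0 := mul_self_eq_zero.1 (by linear_combination e00 - N 0 1 * hc0)
      have d0 : N 1 1 = 0 := mul_self_eq_zero.1 (by linear_combination e11 - N 0 1 * hc0)
      exact ⟨![N 0 1, 0], ![0, 1], by ext i j; fin_cases i <;> fin_cases j <;> simp [Matrix.vecMulVec_apply, a0, d0, hc0]⟩
    · have hda : N 1 1 = -N 0 0 := by
        have : N 1 0 * (N 0 0 + N 1 1) = 0 := by linear_combination h10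
        linear_combination (mul_eq_zero.1 this).resolve_left hc0
      refine ⟨![N 0 0, N 1 0], ![1, N 1 1 / N 1 0], ?_⟩
      ext i j
      fin_cases i <;> fin_cases j <;> simp [Matrix.vecMulVec_apply]
      · field_simp
        linear_combination e00 - N 0 0 * hda
      · field_simp
  set u3 : Vec := B *ᵥ ![0, u 0, u 1] with hu3
  set φ3 : Vec := ![0, φ 0, φ 1] ᵥ* B⁻¹ with hφ3
  have hBu : IsUnit B.det := isUnit_iff_ne_zero.2 hB
  have hblk : blk 1 ((g : M2) ^ (Fintype.card F - 1)) = 1 + vecMulVec ![0, u 0, u 1] ![0, φ 0, φ 1] := by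
    have : (g : M2) ^ (Fintype.card F - 1) = 1 + vecMulVec u φ := by rw [← hNuv, hN, add_sub_cancel]
    rw [this]
    ext i j
    fin_cases i <;> fin_cases j <;> simp [blk, Matrix.vecMulVec_apply]
  have hM : Mem H (1 + vecMulVec u3 φ3) := by
    refine ⟨h ^ (Fintype.card F - 1), pow_mem hh _, ?_⟩
    calc ((h ^ (Fintype.card F - 1) : GL3) : M3) = ((h ^ (Fintype.card F - 1) : GL3) : M3) * B * B⁻¹ := by
          rw [mul_assoc, Matrix.mul_nonsing_inv _ hBu, mul_one]
      _ = 1 + vecMulVec u3 φ3 := by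
          rw [e', hblk, mul_add, mul_one, add_mul, Matrix.mul_nonsing_inv _ hBu, Matrix.mul_vecMulVec,
            Matrix.vecMulVec_mul]
  have h0 : φ3 ⬝ᵥ u3 = 0 := by
    rw [hu3, hφ3, ← Matrix.dotProduct_mulVec, Matrix.mulVec_mulVec, Matrix.nonsing_inv_mul _ hBu, Matrix.one_mulVec]
    have ht : N.trace = 0 := by
      rcases eq_or_ne N 0 with h0 | h0
      · simp [h0]
      · rw [hN2] at hsq
        exact (smul_eq_zero.1 hsq).resolve_right h0
    rw [hNuv] at ht
    simp [Matrix.trace_fin_two, Matrix.vecMulVec_apply] at ht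
    simp [dotProduct, Fin.sum_univ_three]
    linear_combination ht
  refine Units.ext ?_
  rw [Units.val_pow_eq_pow_val, Units.val_one, ← sub_eq_zero, ← hN, hNuv]
  rcases hH.eq_zero hM h0 with hz | hz
  · have : (![0, u 0, u 1] : Vec) = 0 := by
      rw [← Matrix.one_mulVec (![0, u 0, u 1] : Vec), ← Matrix.nonsing_inv_mul _ hBu, ← Matrix.mulVec_mulVec,
        ← hu3, hz, Matrix.mulVec_zero]
    ext i j
    fin_cases i
    · simp [Matrix.vecMulVec_apply, show u 0 = 0 from congrFun this 1]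
    · simp [Matrix.vecMulVec_apply, show u 1 = 0 from congrFun this 2]
  · have : (![0, φ 0, φ 1] : Vec) = 0 := by
      rw [← Matrix.vecMul_one (![0, φ 0, φ 1] : Vec), ← Matrix.nonsing_inv_mul _ hBu, ← Matrix.vecMul_vecMul,
        ← hφ3, hz, Matrix.zero_vecMul]
    ext i j
    fin_cases j
    · simp [Matrix.vecMulVec_apply, show φ 0 = 0 from congrFun this 1]
    · simp [Matrix.vecMulVec_apply, show φ 1 = 0 from congrFun this 2]

theorem pair_val (p : ℕ) [Fact p.Prime] [CharP F p] (hp2 : p ≠ 2) {G : Subgroup GL2}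
    (hG : ∀ g ∈ G, g ^ p = 1 → g = 1) {x y : GL2} (hx : x ∈ G) (hy : y ∈ G) {c c' v α β : F} (hc0 : c ≠ 0)
    (hc0' : c' ≠ 0) (hv : v * v ≠ 1) (hv0 : v ≠ 0) (hβ : β ≠ 0) (ex : (x : M2) = c • pvm v α)
    (ey : (y : M2) = c' • qvm v β) : PairConcl v (α * β) := by
  have hv1 : v ≠ 1 := fun e => hv (by rw [e, mul_one])
  have hx2 : ¬ Scal ((x * x : GL2) : M2) := by
    rintro ⟨s, hs⟩
    rw [Units.val_mul, ex, Matrix.smul_mul, Matrix.mul_smul, smul_smul, pvm_mul] at hs
    have h00 := congrFun (congrFun hs 0) 0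
    have h11 := congrFun (congrFun hs 1) 1
    simp [pvm] at h00 h11
    rw [← h11] at h00
    exact hv (mul_left_cancel₀ (mul_ne_zero hc0 hc0) (by rw [h00, mul_one]))
  have hy2 : ¬ Scal ((y * y : GL2) : M2) := by
    rintro ⟨s, hs⟩
    rw [Units.val_mul, ey, Matrix.smul_mul, Matrix.mul_smul, smul_smul, qvm_mul] at hs
    have h00 := congrFun (congrFun hs 0) 0
    have h11 := congrFun (congrFun hs 1) 1
    simp [qvm] at h00 h11
    rw [← h00] at h11
    exact hv (mul_left_cancel₀ (mul_ne_zero hc0' hc0') (by rw [h11, mul_one]))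
  have hnc : ¬ PC x y := by
    rintro ⟨d, hd⟩
    rw [ex, ey, Matrix.smul_mul, Matrix.mul_smul, Matrix.smul_mul, Matrix.mul_smul, smul_smul, smul_smul, smul_smul,
      show d * c' * c = c * c' * d by ring, ← smul_smul (c * c') d] at hd
    have hd' := smul_right_injective _ (mul_ne_zero hc0 hc0') hd
    have e10 := congrFun (congrFun hd' 1) 0
    have e01 := congrFun (congrFun hd' 0) 1
    have e11 := congrFun (congrFun hd' 1) 1
    simp [pvm, qvm, Matrix.mul_apply, Fin.sum_univ_two] at e10 e01 e11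
    have hb : (v - 1) * β ≠ 0 := mul_ne_zero (sub_ne_zero.2 hv1) hβ
    have h1 : d * v = 1 := mul_left_cancel₀ hb (by linear_combination -e10)
    by_cases hα : α = 0
    · subst hα
      simp at e11
      have hd1 : d = 1 := mul_right_cancel₀ hv0 (by linear_combination -e11)
      exact hv1 (by rw [hd1, one_mul] at h1; exact h1)
    · have h2 : d = v := mul_left_cancel₀ (mul_ne_zero (sub_ne_zero.2 hv1) hα) (by linear_combination -e01)
      exact hv (by rw [← h1, h2])
  -- the two elements of determinant one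
  have e1 : ((x * y⁻¹ : GL2) : M2) = (c * c'⁻¹) • (pvm v α * qvm v⁻¹ β) := by
    have hy' : ((y⁻¹ : GL2) : M2) = c'⁻¹ • qvm v⁻¹ β := by
      have : (y : M2) * (c'⁻¹ • qvm v⁻¹ β) = 1 := by
        rw [ey, Matrix.smul_mul, Matrix.mul_smul, smul_smul, qvm_mul, mul_inv_cancel₀ hc0', mul_inv_cancel₀ hv0,
          qvm_one, one_smul]
      calc ((y⁻¹ : GL2) : M2) = ((y⁻¹ : GL2) : M2) * ((y : M2) * (c'⁻¹ • qvm v⁻¹ β)) := by rw [this, mul_one]
        _ = _ := by rw [← mul_assoc, ← Units.val_mul, inv_mul_cancel, Units.val_one, one_mul]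
    rw [Units.val_mul, ex, hy', Matrix.smul_mul, Matrix.mul_smul, smul_smul]
  have e2 : ((x * y : GL2) : M2) = (c * c' * v) • (v⁻¹ • (pvm v α * qvm v β)) := by
    rw [Units.val_mul, ex, ey, Matrix.smul_mul, Matrix.mul_smul, smul_smul, smul_smul, mul_assoc (c * c'),
      mul_inv_cancel₀ hv0, mul_one]
  have d1 : (pvm v α * qvm v⁻¹ β).det = 1 := by
    rw [Matrix.det_mul, Matrix.det_fin_two, Matrix.det_fin_two]
    simp [pvm, qvm, hv0]
  have d2 : (v⁻¹ • (pvm v α * qvm v β)).det = 1 := by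
    rw [Matrix.det_smul, Fintype.card_fin, Matrix.det_mul, Matrix.det_fin_two, Matrix.det_fin_two]
    simp [pvm, qvm]
    field_simp
  have n1 : ¬ Scal (pvm v α * qvm v⁻¹ β) := by
    rintro ⟨s, hs⟩
    have := congrFun (congrFun hs 1) 0
    simp [pvm, qvm, Matrix.mul_apply, Fin.sum_univ_two, hβ, sub_eq_zero, inv_eq_one, hv1] at this
  have n2 : ¬ Scal (v⁻¹ • (pvm v α * qvm v β)) := by
    rintro ⟨s, hs⟩
    have := congrFun (congrFun hs 1) 0
    simp [pvm, qvm, Matrix.mul_apply, Fin.sum_univ_two, hβ, sub_eq_zero, hv0, hv1] at this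
  have t1 : (pvm v α * qvm v⁻¹ β).trace = v + v⁻¹ + (2 - (v + v⁻¹)) * (α * β) := by
    rw [Matrix.trace_fin_two]
    simp [pvm, qvm, Matrix.mul_apply, Fin.sum_univ_two]
    field_simp
    ring
  have t2 : (v⁻¹ • (pvm v α * qvm v β)).trace = 2 + (v + v⁻¹ - 2) * (α * β) := by
    rw [Matrix.trace_smul, Matrix.trace_fin_two]
    simp [pvm, qvm, Matrix.mul_apply, Fin.sum_univ_two]
    field_simp
    ring
  have v1 := val_of (mul_ne_zero hc0 (inv_ne_zero hc0')) e1 d1 n1
  have v2 := val_of (mul_ne_zero (mul_ne_zero hc0 hc0') hv0) e2 d2 n2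
  rw [t1] at v1
  rw [t2] at v2
  have hpow : ∀ n, Scal ((x ^ n : GL2) : M2) → v ^ n = 1 := by
    rintro n ⟨s, hs⟩
    rw [Units.val_pow_eq_pow_val, ex, smul_pow, pvm_pow] at hs
    have h00 := congrFun (congrFun hs 0) 0
    have h11 := congrFun (congrFun hs 1) 1
    simp [pvm] at h00 h11
    rw [← h11] at h00
    exact mul_left_cancel₀ (pow_ne_zero n hc0) (by rw [h00, mul_one])
  rcases shapes p hp2 G hG with h | ⟨h, -⟩ | ⟨h, -⟩
  · exact absurd (h.1 x hx y hy hx2 hy2) hnc
  · exact Or.inl ⟨(h x hx).imp (hpow 3) (hpow 4), v1.1 (h _ (mul_mem hx (inv_mem hy))),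
      v2.1 (h _ (mul_mem hx hy))⟩
  · refine Or.inr ⟨?_, v1.2 (h _ (mul_mem hx (inv_mem hy))), v2.2 (h _ (mul_mem hx hy))⟩
    rcases h x hx with h2 | h3 | h5
    · exact absurd (by rw [← pow_two]; exact hpow 2 h2) hv
    · exact Or.inl (hpow 3 h3)
    · exact Or.inr (hpow 5 h5)

/-- **Two homologies of the same ratio in a group without transvections.** -/
theorem pair_tau (p : ℕ) [Fact p.Prime] [CharP F p] (hp2 : p ≠ 2) (hH : NoTr H)
    {c c' v : F} {P φ P' φ' : Vec} (hx : Mem H (hom c v P φ)) (hy : Mem H (hom c' v P' φ')) (hc0 : c ≠ 0)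
    (hc0' : c' ≠ 0) (hv : v * v ≠ 1) (hv0 : v ≠ 0) (hP : φ ⬝ᵥ P = 1) (hP' : φ' ⬝ᵥ P' = 1)
    (h0 : (φ ⬝ᵥ P') * (φ' ⬝ᵥ P) ≠ 0) (h1 : (φ ⬝ᵥ P') * (φ' ⬝ᵥ P) ≠ 1) :
    PairConcl v ((φ ⬝ᵥ P') * (φ' ⬝ᵥ P)) := by
  set O : Vec := crossProduct φ φ' with hO
  have hO1 : φ ⬝ᵥ O = 0 := dot_self_cross φ φ'
  have hO2 : φ' ⬝ᵥ O = 0 := dot_cross_self φ φ'
  set B : M3 := Matrix.of fun i j => (![O, P, P'] : Fin 3 → Vec) j i with hBdef
  have hcol : ∀ j, B *ᵥ Pi.single j 1 = (![O, P, P'] : Fin 3 → Vec) j := fun j => by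
    funext i; simp [hBdef, Matrix.mulVec_single]
  have hB : B.det ≠ 0 := by
    have : B.det = (φ ⬝ᵥ P) * (φ' ⬝ᵥ P') - (φ ⬝ᵥ P') * (φ' ⬝ᵥ P) := by
      rw [Matrix.det_fin_three]
      simp [hBdef, hO, cross_apply, dotProduct, Fin.sum_univ_three]
      ring
    rw [this, hP, hP', one_mul, sub_ne_zero]
    exact fun e => h1 e.symm
  have col : ∀ {M : M3} {N : M3}, (∀ j, M *ᵥ (![O, P, P'] : Fin 3 → Vec) j = B *ᵥ (N *ᵥ Pi.single j 1)) →
      M * B = B * N := fun {M N} h => by
    refine Matrix.ext_of_mulVec_single fun j => ?_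
    rw [← Matrix.mulVec_mulVec, ← Matrix.mulVec_mulVec, hcol, h j]
  have exB : hom c v P φ * B = B * blk c (c • pvm v (φ ⬝ᵥ P')) := by
    refine col fun j => ?_
    rw [hom_mulVec]
    fin_cases j <;> simp [hO1, hP, blk, pvm] <;> funext i <;>
      simp [hBdef, Matrix.mulVec, Fin.sum_univ_three, dotProduct] <;> ring
  have eyB : hom c' v P' φ' * B = B * blk c' (c' • qvm v (φ' ⬝ᵥ P)) := by
    refine col fun j => ?_
    rw [hom_mulVec]
    fin_cases j <;> simp [hO2, hP', blk, qvm] <;> funext i <;>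
      simp [hBdef, Matrix.mulVec, Fin.sum_univ_three, dotProduct] <;> ring
  obtain ⟨x, hxm, hx'⟩ := mem_planeGroup_of_mem hB hx exB
  obtain ⟨y, hym, hy'⟩ := mem_planeGroup_of_mem hB hy eyB
  exact pair_val p hp2 (planeGroup_pow_eq_one p hH hB) hxm hym hc0 hc0' hv hv0
    (right_ne_zero_of_mul h0) hx' hy'

end Cfsg.Agent.Forms.Max.SU3.SympType
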