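import Mathlib
import Cfsg.Prelude.Def_GeometricClasses
import Cfsg.Agent.Lib.Forms.Max.SL3.SympType.Grp
import Cfsg.Agent.Lib.Forms.Max.UnitaryBase
import Cfsg.Agent.Lib.Forms.Max.SU3.SympType.Proj

/-!
# A subgroup of `SU(3, p)` containing the normaliser of the extraspecial group of order 27

The ambient structure for `p ≡ 2 mod 3` over the field of order `p ^ 2`, and the elementary facts on the standard
generators (as in the linear case).
-/

set_option autoImplicit false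
set_option linter.unusedSectionVars false
set_option linter.style.haveILetI false

namespace Cfsg.Agent.Forms.Max.SU3.SympType

open Matrix
open Cfsg.Agent.Forms.Max.SL3.SympType hiding Amb r0Grp zGrp exists_proj shapes planeGroup_pow_eq_one pair_val
  pair_tau

variable {F : Type*} [Field F] [Fintype F] {H : Subgroup (GL (Fin 3) F)} {p : ℕ} {ω : F}

local notation "M3" => Matrix (Fin 3) (Fin 3) F
local notation "M2" => Matrix (Fin 2) (Fin 2) F
local notation "GL3" => GL (Fin 3) F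

/-- a subgroup of `SU(3, p)` containing the normaliser, without transvections -/
structure Amb (H : Subgroup (GL (Fin 3) F)) (p : ℕ) (ω : F) : Prop where
  prime : p.Prime
  card : Fintype.card F = p ^ 2
  mod3 : p % 3 = 2
  ge : 11 ≤ p
  root : ω ^ 2 + ω + 1 = 0
  le : H ≤ Cfsg.GU 3 F p ⊓ Cfsg.Geo.specialLinear (Fin 3) F
  memX : Mem H (xM ω)
  memY : Mem H (yM (F := F))
  memF : Mem H (fM ω)
  memQ : Mem H (qM ω)
  noTr : NoTr H

namespace Amb

variable (h : Amb H p ω)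
include h

theorem two_ne : p ≠ 2 := fun e => by have := h.ge; omega

theorem fact : Fact p.Prime := ⟨h.prime⟩

theorem charP : CharP F p := haveI := h.fact; charP_of_card_eq_prime_pow h.card

/-- small integers are invertible unless some prime divisor is a possible characteristic -/
theorem nat_ne (n : ℕ) (hn : n ≠ 0) (hd : ∀ q ∈ n.divisors, q < 11 ∨ q % 3 ≠ 2 ∨ ¬ q.Prime) : (n : F) ≠ 0 := by
  haveI := h.charP
  intro e
  rw [CharP.cast_eq_zero_iff F p] at e
  have := h.ge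
  have := h.mod3
  rcases hd p (Nat.mem_divisors.2 ⟨e, hn⟩) with h' | h' | h'
  · omega
  · omega
  · exact h' h.prime

theorem two : (2 : F) ≠ 0 := by exact_mod_cast h.nat_ne 2 (by norm_num) (by decide +kernel)

theorem three : (3 : F) ≠ 0 := by exact_mod_cast h.nat_ne 3 (by norm_num) (by decide +kernel)

theorem cube : ω ^ 3 = 1 := by linear_combination (ω - 1) * h.root

theorem root_ne_zero : ω ≠ 0 := fun e => by simpa [e] using h.cube

theorem root_ne_one : ω ≠ 1 := fun e => h.three (by linear_combination h.root - (ω + 2) * e)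

theorem sub_sq : ω - ω ^ 2 ≠ 0 := fun e =>
  mul_ne_zero h.root_ne_zero (sub_ne_zero.2 h.root_ne_one.symm) (by linear_combination e)

theorem sr_sq : sr ω * sr ω * 3 = -1 := by
  have key : (ω - ω ^ 2) * (ω - ω ^ 2) = -3 := by linear_combination (ω ^ 2 - 3 * ω + 3) * h.root
  rw [sr, ← mul_inv, key, inv_neg, neg_mul, inv_mul_cancel₀ h.three]

theorem sr_ne : sr ω ≠ 0 := inv_ne_zero h.sub_sq

theorem det_eq {M : M3} (hM : Mem H M) : M.det = 1 := by
  obtain ⟨g, hg, rfl⟩ := hM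
  exact Cfsg.Agent.Aschbacher.mem_specialLinear.1 (h.le hg).2

theorem fM_sq : fM ω * fM ω = tM := by
  have hs := h.sr_sq
  ext i j
  fin_cases i <;> fin_cases j <;> simp [fM, tM, Matrix.mul_apply, Fin.sum_univ_three]
  all_goals
    have hr := h.root
    grind

theorem memT : Mem H (tM (F := F)) := h.fM_sq ▸ h.memF.mul h.memF

theorem yM_cube : (yM : M3) * (yM * yM) = 1 := by
  ext i j
  fin_cases i <;> fin_cases j <;> simp [yM, Matrix.mul_apply, Fin.sum_univ_three]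

theorem xM_pow_three : xM ω ^ 3 = 1 := by
  rw [xM_pow, h.cube, ← pow_mul, show 2 * 3 = 3 * 2 from rfl, pow_mul, h.cube, one_pow, dg_one]

theorem yM_xM : yM * xM ω = ω ^ 2 • (xM ω * yM) := by
  have hr := h.root
  ext i j
  fin_cases i <;> fin_cases j <;> simp [xM, dg, yM, Matrix.mul_apply, Fin.sum_univ_three]
  all_goals grind

theorem yM_pow_xM_pow (k j : ℕ) : yM ^ k * xM ω ^ j = ω ^ (2 * (k * j)) • (xM ω ^ j * yM ^ k) := by
  have h1 : ∀ k : ℕ, yM ^ k * xM ω = ω ^ (2 * k) • (xM ω * yM ^ k) := by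
    intro k
    induction k with
    | zero => simp
    | succ k ih =>
      rw [pow_succ, Matrix.mul_assoc, h.yM_xM, Matrix.mul_smul, ← Matrix.mul_assoc, ih, Matrix.smul_mul,
        smul_smul, Matrix.mul_assoc, ← pow_add]
      congr 2
      omega
  induction j with
  | zero => simp
  | succ j ih =>
    rw [pow_succ, ← Matrix.mul_assoc, ih, Matrix.smul_mul, Matrix.mul_assoc, h1, Matrix.mul_smul, smul_smul,
      ← pow_add, ← Matrix.mul_assoc, ← pow_succ]
    congr 2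
    ring

theorem isR0_of (i j k : ℕ) : IsR0 ω (ω ^ i • (xM ω ^ j * yM ^ k)) :=
  ⟨⟨i % 3, Nat.mod_lt _ (by norm_num)⟩, ⟨j % 3, Nat.mod_lt _ (by norm_num)⟩, ⟨k % 3, Nat.mod_lt _ (by norm_num)⟩, by
    rw [pow_eq_pow_mod i h.cube, pow_eq_pow_mod j h.xM_pow_three, pow_eq_pow_mod k yM_pow_three]⟩

theorem isR0_one : IsR0 ω (1 : M3) := by simpa using h.isR0_of 0 0 0

theorem isR0_mul {M N : M3} (hM : IsR0 ω M) (hN : IsR0 ω N) : IsR0 ω (M * N) := by
  obtain ⟨i, j, k, rfl⟩ := hM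
  obtain ⟨i', j', k', rfl⟩ := hN
  have e : ω ^ (i : ℕ) • (xM ω ^ (j : ℕ) * yM ^ (k : ℕ)) * (ω ^ (i' : ℕ) • (xM ω ^ (j' : ℕ) * yM ^ (k' : ℕ))) =
      ω ^ ((i : ℕ) + i' + 2 * ((k : ℕ) * j')) • (xM ω ^ ((j : ℕ) + j') * yM ^ ((k : ℕ) + k')) := by
    rw [Matrix.smul_mul, Matrix.mul_smul, smul_smul, ← pow_add, Matrix.mul_assoc,
      ← Matrix.mul_assoc (yM ^ (k : ℕ)), h.yM_pow_xM_pow, Matrix.smul_mul, Matrix.mul_smul, smul_smul, ← pow_add]
    simp only [pow_add, Matrix.mul_assoc]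
  rw [e]
  exact h.isR0_of _ _ _

theorem isR0_pow {M : M3} (hM : IsR0 ω M) (n : ℕ) : IsR0 ω (M ^ n) := by
  induction n with
  | zero => exact pow_zero M ▸ h.isR0_one
  | succ n ih => exact pow_succ M n ▸ h.isR0_mul ih hM

theorem isR0_xM : IsR0 ω (xM ω) := by simpa using h.isR0_of 0 1 0

theorem isR0_yM : IsR0 ω (yM : M3) := by simpa using h.isR0_of 0 0 1

theorem mem_omega : Mem H (ω • (1 : M3)) := by
  have hm : Mem H (ω ^ 2 • (1 : M3)) := by
    have h1 := (h.memY.mul h.memX).mul ((h.memY.mul h.memY).mul (h.memX.mul h.memX))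
    convert h1 using 1
    rw [h.yM_xM, Matrix.smul_mul]
    congr 1
    rw [Matrix.mul_assoc, ← Matrix.mul_assoc (yM : M3) (yM * yM) (xM ω * xM ω), h.yM_cube, one_mul, ← pow_two,
      ← pow_succ', h.xM_pow_three]
  have h2 := hm.mul hm
  rwa [Matrix.smul_mul, Matrix.mul_smul, smul_smul, one_mul, ← pow_add, pow_succ, h.cube, one_mul] at h2

theorem mem_of_isR0 {M : M3} (hM : IsR0 ω M) : Mem H M := by
  obtain ⟨i, j, k, rfl⟩ := hM
  have := (h.mem_omega.pow (i : ℕ)).mul ((h.memX.pow (j : ℕ)).mul (h.memY.pow (k : ℕ)))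
  rwa [smul_pow, one_pow, Matrix.smul_mul, one_mul] at this

/-- cube roots of unity are powers of the root -/
theorem eq_pow_of_cube {x : F} (hx : x ^ 3 = 1) : ∃ i : ℕ, i < 3 ∧ x = ω ^ i := by
  have : (x - 1) * ((x - ω) * (x - ω ^ 2)) = 0 := by
    linear_combination hx + (x - x ^ 2 + (ω - 1) * (x - 1)) * h.root
  rcases mul_eq_zero.1 this with e | e
  · exact ⟨0, by norm_num, by rw [sub_eq_zero.1 e, pow_zero]⟩
  · rcases mul_eq_zero.1 e with e | e
    · exact ⟨1, by norm_num, by rw [sub_eq_zero.1 e, pow_one]⟩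
    · exact ⟨2, by norm_num, sub_eq_zero.1 e⟩

theorem pow_card_sub {v : F} (hv : v ≠ 0) : v ^ (p ^ 2 - 1) = 1 := by
  rw [← h.card]; exact FiniteField.pow_card_sub_one_eq_one v hv

theorem cube_of_ninth (h9 : p % 9 ≠ 8) {a : F} (ha : a ^ 9 = 1) : a ^ 3 = 1 := by
  have ha0 : a ≠ 0 := fun e => by simp [e] at ha
  have h3 : orderOf a ∣ Nat.gcd 9 (p ^ 2 - 1) :=
    Nat.dvd_gcd (orderOf_dvd_of_pow_eq_one ha) (orderOf_dvd_of_pow_eq_one (h.pow_card_sub ha0))
  have h4 : Nat.gcd 9 (p ^ 2 - 1) ∣ 3 := by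
    rcases (Nat.dvd_prime_pow Nat.prime_three).1 (show Nat.gcd 9 (p ^ 2 - 1) ∣ 3 ^ 2 from Nat.gcd_dvd_left _ _)
      with ⟨k, hk, e⟩
    interval_cases k
    · rw [e]; norm_num
    · rw [e]; norm_num
    · exfalso
      have hd := Nat.gcd_dvd_right 9 (p ^ 2 - 1)
      rw [e] at hd
      have hm : p % 9 = 2 ∨ p % 9 = 5 := by have := h.mod3; omega
      have hp : p ^ 2 % 9 = (p % 9) ^ 2 % 9 := Nat.pow_mod p 2 9
      rcases hm with hm | hm <;> rw [hm] at hp <;> norm_num at hp hd <;> omega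
  exact orderOf_dvd_iff_pow_eq_one.1 (h3.trans h4)

theorem isR0_of_diag (h9 : p % 9 ≠ 8) {a b c : F} (hM : Mem H (dg a b c)) (hab : a ^ 3 = b ^ 3)
    (hbc : b ^ 3 = c ^ 3) : IsR0 ω (dg a b c) := by
  have hd := h.det_eq hM
  rw [det_dg] at hd
  have ha : a ^ 3 = 1 := h.cube_of_ninth h9 (by
    linear_combination (a * b * c) ^ 2 * hd + (a * b * c) * hd + hd + (a ^ 6 + a ^ 3 * c ^ 3) * hab +
      a ^ 6 * hbc)
  obtain ⟨i, hi, rfl⟩ := h.eq_pow_of_cube ha
  obtain ⟨i', hi', rfl⟩ := h.eq_pow_of_cube (show b ^ 3 = 1 from hab ▸ ha)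
  obtain ⟨i'', hi'', rfl⟩ := h.eq_pow_of_cube (show c ^ 3 = 1 from hbc ▸ hab ▸ ha)
  have hr := h.root
  have h3 := h.cube
  have hne := h.root_ne_one
  have hne' : ω ^ 2 ≠ 1 := fun e => hne (by linear_combination h3 - ω * e)
  convert h.isR0_of i (i' + 2 * i) 0 using 1
  rw [xM_pow, pow_zero, mul_one, smul_dg, mul_one]
  have h2i : ω ^ i * ω ^ (i' + 2 * i) = ω ^ i' := by
    rw [← pow_add, show i + (i' + 2 * i) = i' + 3 * i by ring, pow_add, pow_mul, h3, one_pow, mul_one]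
  have h2c : ω ^ i * (ω ^ 2) ^ (i' + 2 * i) = ω ^ i'' := by
    interval_cases i <;> interval_cases i' <;> interval_cases i'' <;>
      (try simp only [pow_zero, pow_one, one_mul, mul_one] at hd ⊢) <;> grind
  rw [h2i, h2c]

/-- commuting with the diagonal generator up to a scalar: diagonal times a power of the cyclic generator -/
theorem monomial_of_comm_xM {M : M3} (hM : Mem H M) {ν : F} (e : M * xM ω = ν • (xM ω * M)) :
    ∃ (n : ℕ) (a b c : F), M = dg a b c * yM ^ n ∧ Mem H (dg a b c) := by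
  have hd := h.det_eq hM
  have hν0 : ν ≠ 0 := by
    intro e0
    rw [e0, zero_smul] at e
    have := congrArg Matrix.det e
    rw [Matrix.det_mul, hd, h.det_eq h.memX, Matrix.det_zero] at this
    norm_num at this
  have hν : ν ^ 3 = 1 := by
    have e' := congrArg Matrix.det e
    rwa [Matrix.det_smul, Fintype.card_fin, Matrix.det_mul, Matrix.det_mul, hd, h.det_eq h.memX, mul_one, mul_one,
      eq_comm] at e'
  obtain ⟨k, hk, rfl⟩ := h.eq_pow_of_cube hν
  have hne := h.root_ne_one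
  have h3 := h.cube
  have hw : ω ^ 2 ≠ 1 := fun e => hne (by linear_combination h3 - ω * e)
  have hw2 : ω ≠ ω ^ 2 := sub_ne_zero.1 h.sub_sq
  have e00 := congrFun (congrFun e 0) 0
  have e01 := congrFun (congrFun e 0) 1
  have e02 := congrFun (congrFun e 0) 2
  have e10 := congrFun (congrFun e 1) 0
  have e11 := congrFun (congrFun e 1) 1
  have e12 := congrFun (congrFun e 1) 2
  have e20 := congrFun (congrFun e 2) 0
  have e21 := congrFun (congrFun e 2) 1
  have e22 := congrFun (congrFun e 2) 2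
  simp [xM, dg, Matrix.mul_apply, Fin.sum_univ_three, Matrix.vecMul, dotProduct] at e00 e01 e02 e10 e11 e12 e20 e21 e22
  -- the diagonal factor
  obtain ⟨n, a, b, c, hn⟩ : ∃ (n : ℕ) (a b c : F), M = dg a b c * yM ^ n := by
    have hy : (yM : M3) * yM = !![0, 1, 0; 0, 0, 1; 1, 0, 0] := by
      ext i j
      fin_cases i <;> fin_cases j <;> simp [yM, Matrix.mul_apply, Fin.sum_univ_three]
    interval_cases k
    · refine ⟨0, M 0 0, M 1 1, M 2 2, ?_⟩
      ext i j
      fin_cases i <;> fin_cases j <;> simp [dg]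
      all_goals grind
    · refine ⟨2, M 0 1, M 1 2, M 2 0, ?_⟩
      rw [pow_two, hy]
      ext i j
      fin_cases i <;> fin_cases j <;> simp [dg, Matrix.mul_apply, Fin.sum_univ_three]
      all_goals grind
    · refine ⟨1, M 0 2, M 1 0, M 2 1, ?_⟩
      ext i j
      fin_cases i <;> fin_cases j <;> simp [dg, yM, Matrix.mul_apply, Fin.sum_univ_three]
      all_goals grind
  have hD : Mem H (dg a b c) := by
    have h1 := hM.mul (h.memY.pow (2 * n))
    rwa [hn, Matrix.mul_assoc, ← pow_add, show n + 2 * n = 3 * n by ring, pow_mul, yM_pow_three, one_pow,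
      mul_one] at h1
  exact ⟨n, a, b, c, hn, hD⟩

/-- scalar elements of the extraspecial group -/
theorem isR0_scalar_iff {i j k : Fin 3} {c : F}
    (e : ω ^ (i : ℕ) • (xM ω ^ (j : ℕ) * yM ^ (k : ℕ)) = c • (1 : M3)) :
    j = 0 ∧ k = 0 ∧ c = ω ^ (i : ℕ) := by
  have h0 : ω ^ (i : ℕ) ≠ 0 := pow_ne_zero _ h.root_ne_zero
  have hne := h.root_ne_one
  have h3 := h.cube
  have hw : ω ^ 2 ≠ 1 := fun e => hne (by linear_combination h3 - ω * e)
  rw [xM_pow] at e
  have e00 := congrFun (congrFun e 0) 0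
  have e11 := congrFun (congrFun e 1) 1
  have e01 := congrFun (congrFun e 0) 1
  have e02 := congrFun (congrFun e 0) 2
  fin_cases j <;> fin_cases k <;>
    simp [dg, yM, pow_succ, Matrix.mul_apply, Fin.sum_univ_three, h0] at e00 e11 e01 e02 ⊢
  all_goals grind

set_option maxHeartbeats 2000000 in
/-- `q` carries `X` to a multiple of `X ^ j * Y ^ k` -/
theorem exists_to_xM : ∀ j k : Fin 3, ¬ (j = 0 ∧ k = 0) → ∃ q : GL3, q ∈ H ∧ Nrm0 ω q ∧
    ∃ c : F, (q : M3) * xM ω = c • (xM ω ^ (j : ℕ) * yM ^ (k : ℕ) * (q : M3)) := by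
  have hr := h.root
  have hs := h.sr_sq
  have fx : fM ω * xM ω = yM ^ 2 * fM ω := by
    ext i j
    fin_cases i <;> fin_cases j <;>
      simp [fM, xM, dg, yM, pow_two, Matrix.mul_apply, Fin.sum_univ_three]
    all_goals grind
  have fy : fM ω * yM = xM ω * fM ω := by
    ext i j
    fin_cases i <;> fin_cases j <;> simp [fM, xM, dg, yM, Matrix.mul_apply, Fin.sum_univ_three]
    all_goals grind
  have qx : qM ω * xM ω = ω • (xM ω ^ 2 * yM ^ 2) * qM ω := by
    ext i j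
    fin_cases i <;> fin_cases j <;>
      simp [qM, xM, dg, yM, pow_two, Matrix.mul_apply, Fin.sum_univ_three]
    all_goals grind
  have qy : qM ω * yM = ω ^ 2 • (xM ω ^ 2 * yM) * qM ω := by
    ext i j
    fin_cases i <;> fin_cases j <;>
      simp [qM, xM, dg, yM, pow_two, Matrix.mul_apply, Fin.sum_univ_three]
    all_goals grind
  have tx : tM * xM ω = xM ω ^ 2 * tM := by
    ext i j
    fin_cases i <;> fin_cases j <;> simp [tM, xM, dg, pow_two, Matrix.mul_apply, Fin.sum_univ_three]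
    all_goals grind
  have ty : (tM : M3) * yM = yM ^ 2 * tM := by
    ext i j
    fin_cases i <;> fin_cases j <;> simp [tM, yM, pow_two, Matrix.mul_apply, Fin.sum_univ_three]
  obtain ⟨f, hf, ef⟩ := h.memF
  obtain ⟨q, hq, eq⟩ := h.memQ
  obtain ⟨t, ht, et⟩ := h.memT
  have nf : Nrm0 ω f := ⟨⟨_, h.isR0_pow h.isR0_yM 2, by rw [ef, fx]⟩, ⟨_, h.isR0_xM, by rw [ef, fy]⟩⟩
  have nq : Nrm0 ω q := ⟨⟨_, h.isR0_of 1 2 2, by rw [eq, qx, pow_one]⟩,
    ⟨_, by simpa using h.isR0_of 2 2 1, by rw [eq, qy]⟩⟩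
  have nt : Nrm0 ω t := ⟨⟨_, h.isR0_pow h.isR0_xM 2, by rw [et, tx]⟩, ⟨_, h.isR0_pow h.isR0_yM 2, by rw [et, ty]⟩⟩
  have comp : ∀ {g : GL3}, g ∈ H → Nrm0 ω g → ∀ {g' : GL3}, g' ∈ H → Nrm0 ω g' → Nrm0 ω (g * g') := by
    intro g _ ⟨⟨x, hx, ex⟩, ⟨y, hy, ey⟩⟩ g' _ ⟨⟨x', hx', ex'⟩, ⟨y', hy', ey'⟩⟩
    have key : ∀ M : M3, IsR0 ω M → ∃ N, IsR0 ω N ∧ (g : M3) * M = N * (g : M3) := by
      rintro M ⟨i, j, k, rfl⟩
      have e1 : SemiconjBy (g : M3) (xM ω ^ (j : ℕ) * yM ^ (k : ℕ)) (x ^ (j : ℕ) * y ^ (k : ℕ)) :=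
        (SemiconjBy.pow_right (show SemiconjBy (g : M3) (xM ω) x from ex) _).mul_right
          (SemiconjBy.pow_right (show SemiconjBy (g : M3) yM y from ey) _)
      refine ⟨ω ^ (i : ℕ) • (x ^ (j : ℕ) * y ^ (k : ℕ)), ?_, ?_⟩
      · have := h.isR0_mul (h.isR0_of i 0 0) (h.isR0_mul (h.isR0_pow hx (j : ℕ)) (h.isR0_pow hy (k : ℕ)))
        simpa [Matrix.smul_mul] using this
      · rw [Matrix.mul_smul, e1.eq, Matrix.smul_mul]
    obtain ⟨a, ha, ea⟩ := key x' hx'
    obtain ⟨b, hb, eb⟩ := key y' hy'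
    refine ⟨⟨a, ha, ?_⟩, b, hb, ?_⟩
    · rw [Units.val_mul, mul_assoc, ex', ← mul_assoc, ea, mul_assoc]
    · rw [Units.val_mul, mul_assoc, ey', ← mul_assoc, eb, mul_assoc]
  have step : ∀ {g : GL3} {c : F} {N N' : M3}, (g : M3) * xM ω = c • (N * (g : M3)) → ∀ g' : GL3,
      ∀ {d : F}, (g' : M3) * N = d • (N' * (g' : M3)) →
      ((g' * g : GL3) : M3) * xM ω = (c * d) • (N' * ((g' * g : GL3) : M3)) := by
    intro g c N N' e g' d e'
    rw [Units.val_mul, mul_assoc, e, Matrix.mul_smul, ← mul_assoc, e', Matrix.smul_mul, smul_smul, mul_assoc]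
  -- the images of `X` under the three generators
  have eQ : (q : M3) * xM ω = ω • (xM ω ^ 2 * yM ^ 2 * (q : M3)) := by rw [eq, qx, Matrix.smul_mul]
  have eF : (f : M3) * xM ω = (1 : F) • (yM ^ 2 * (f : M3)) := by rw [ef, fx, one_smul]
  have eFQ : ((f * q : GL3) : M3) * xM ω = (ω * ω) • (xM ω ^ 2 * yM * ((f * q : GL3) : M3)) := by
    refine step eQ f ?_
    rw [ef]
    ext i j
    fin_cases i <;> fin_cases j <;>
      simp [fM, xM, dg, yM, pow_two, Matrix.mul_apply, Fin.sum_univ_three]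
    all_goals grind
  have pre : ∀ {g : GL3} {c : F} {N : M3}, (g : M3) * xM ω = c • (N * (g : M3)) →
      ((g * t : GL3) : M3) * xM ω = (c * c) • (N * N * ((g * t : GL3) : M3)) := by
    intro g c N e
    rw [Units.val_mul, et, mul_assoc, tx, ← mul_assoc, pow_two, ← mul_assoc, e, Matrix.smul_mul, mul_assoc N, e,
      Matrix.mul_smul, smul_smul, Matrix.smul_mul, mul_assoc, mul_assoc, mul_assoc]
  intro j k hjk
  fin_cases j <;> fin_cases k
  · simp at hjk
  · refine ⟨f * t, mul_mem hf ht, comp hf nf ht nt, 1, ?_⟩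
    have := pre eF
    rw [mul_one, ← pow_two, ← pow_mul, show (yM : M3) ^ (2 * 2) = yM by
      rw [show 2 * 2 = 3 + 1 from rfl, pow_add, yM_pow_three, one_mul, pow_one]] at this
    simpa using this
  · exact ⟨f, hf, nf, 1, by simpa using eF⟩
  · refine ⟨1, one_mem H, ?_, 1, by simp⟩
    exact ⟨⟨_, h.isR0_xM, by simp⟩, ⟨_, h.isR0_yM, by simp⟩⟩
  · obtain ⟨c, hc⟩ : ∃ c : F, xM ω ^ 2 * yM ^ 2 * (xM ω ^ 2 * yM ^ 2) = c • (xM ω * yM) := by
      refine ⟨ω ^ (2 * (2 * 2)), ?_⟩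
      rw [Matrix.mul_assoc, ← Matrix.mul_assoc (yM ^ 2), h.yM_pow_xM_pow, Matrix.smul_mul, Matrix.mul_smul,
        Matrix.mul_assoc, ← pow_add, ← Matrix.mul_assoc, ← pow_add, pow_eq_pow_mod (2 + 2) h.xM_pow_three,
        pow_eq_pow_mod (2 + 2) yM_pow_three]
      norm_num
    refine ⟨q * t, mul_mem hq ht, comp hq nq ht nt, ω * ω * c, ?_⟩
    rw [pre eQ, hc, Matrix.smul_mul, smul_smul]
    simp
  · obtain ⟨c, hc⟩ : ∃ c : F, xM ω ^ 2 * yM * (xM ω ^ 2 * yM) = c • (xM ω * yM ^ 2) := by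
      refine ⟨ω ^ (2 * (1 * 2)), ?_⟩
      have e := h.yM_pow_xM_pow 1 2
      rw [pow_one] at e
      rw [Matrix.mul_assoc, ← Matrix.mul_assoc yM, e, Matrix.smul_mul, Matrix.mul_smul, Matrix.mul_assoc,
        ← pow_two, ← Matrix.mul_assoc, ← pow_add, pow_eq_pow_mod (2 + 2) h.xM_pow_three]
      norm_num [pow_two]
    refine ⟨f * q * t, mul_mem (mul_mem hf hq) ht, comp (mul_mem hf hq) (comp hf nf hq nq) ht nt,
      ω * ω * (ω * ω) * c, ?_⟩
    rw [pre eFQ, hc, Matrix.smul_mul, smul_smul]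
    simp
  · exact ⟨t, ht, nt, 1, by rw [et, tx]; simp⟩
  · exact ⟨f * q, mul_mem hf hq, comp hf nf hq nq, ω * ω, by simpa using eFQ⟩
  · exact ⟨q, hq, nq, ω, by simpa using eQ⟩

end Amb

end Cfsg.Agent.Forms.Max.SU3.SympType
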