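import Mathlib
import Cfsg.Agent.Lib.Forms.Max.SL3.SympType.Torus
import Cfsg.Agent.Lib.Forms.Max.SU3.SympType.Basic

/-!
# The diagonal sign change is outside the group

In characteristic eleven, where the plane group could be icosahedral, a short word is a transvection.
-/

set_option autoImplicit false
set_option linter.unusedSectionVars false
set_option linter.style.haveILetI false

namespace Cfsg.Agent.Forms.Max.SU3.SympType

open Matrix
open Cfsg.Agent.Forms.Max.SL3.SympType hiding Amb r0Grp zGrp exists_proj shapes planeGroup_pow_eq_one pair_val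
  pair_tau

variable {F : Type*} [Field F] [Fintype F] {H : Subgroup (GL (Fin 3) F)} {p : ℕ} {ω : F}

local notation "M3" => Matrix (Fin 3) (Fin 3) F
local notation "M2" => Matrix (Fin 2) (Fin 2) F
local notation "P11" => Matrix (Fin 3) (Fin 3) (ZMod 11) × Matrix (Fin 3) (Fin 3) (ZMod 11)

/-- multiplication of formal sums `A + ω B` with `ω ^ 2 = -1 - ω` -/
def pmul (X Y : P11) : P11 := (X.1 * Y.1 - X.2 * Y.2, X.1 * Y.2 + X.2 * Y.1 - X.2 * Y.2)

/-- the value of a formal sum -/
def pval (f : ZMod 11 →+* F) (ω : F) (X : P11) : Matrix (Fin 3) (Fin 3) F :=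
  f.mapMatrix X.1 + ω • f.mapMatrix X.2

theorem pval_pmul (f : ZMod 11 →+* F) (hω : ω ^ 2 + ω + 1 = 0) (X Y : P11) :
    pval f ω (pmul X Y) = pval f ω X * pval f ω Y := by
  have e : ω * ω = -1 - ω := by linear_combination hω
  simp only [pval, pmul, map_sub, map_add, map_mul, add_mul, mul_add, Matrix.smul_mul, Matrix.mul_smul, smul_smul, e]
  module

/-- the Fourier element, formally -/
def f11 : P11 := (!![7, 7, 7; 7, 8, 7; 7, 7, 8], !![3, 3, 3; 3, 4, 4; 3, 4, 4])

/-- its conjugate, formally -/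
def q11 : P11 := (!![7, 8, 8; 7, 8, 7; 7, 7, 8], !![3, 4, 4; 4, 4, 4; 4, 4, 4])

/-- the sign change, formally -/
def s11 : P11 := (!![1, 0, 0; 0, -1, 0; 0, 0, -1], 0)

/-- the short word that is a transvection in characteristic eleven -/
def wordEleven : P11 :=
  pmul (pmul (pmul (pmul (pmul (pmul (pmul (pmul f11 q11) s11) f11) s11) f11) s11) q11) s11

theorem wordEleven_eq :
    wordEleven = (!![9, 6, 6; 5, 8, 7; 5, 7, 8], !![5, 0, 0; 0, 3, 3; 0, 3, 3]) := by decide +kernel

namespace Amb

variable (h : Amb H p ω)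
include h

theorem eq_eleven (e : (11 : F) = 0) : p = 11 := by
  haveI := h.charP
  have h11 : ((11 : ℕ) : F) = 0 := by exact_mod_cast e
  rw [CharP.cast_eq_zero_iff F p] at h11
  exact (Nat.prime_dvd_prime_iff_eq h.prime (by norm_num)).1 h11

/-- `p = 11`: the sign change and the normaliser give a transvection -/
theorem no_sign_eleven (h11 : p = 11) (hS : Mem H (dg 1 (-1) (-1))) : False := by
  haveI := h.charP
  subst h11
  have h0 : (11 : F) = 0 := by exact_mod_cast CharP.cast_eq_zero F 11
  have hr := h.root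
  have hsr : sr ω = 7 + 3 * ω :=
    (eq_inv_of_mul_eq_one_left (by linear_combination (-(3 * ω) - 1) * hr + ω * h0)).symm
  let f : ZMod 11 →+* F := ZMod.castHom (dvd_refl 11) F
  have eF : pval f ω f11 = fM ω := by
    ext i j
    fin_cases i <;> fin_cases j <;> simp [pval, f11, fM, hsr, map_ofNat] <;> grind
  have eQ : pval f ω q11 = qM ω := by
    ext i j
    fin_cases i <;> fin_cases j <;> simp [pval, q11, qM, hsr, map_ofNat] <;> grind
  have eS : pval f ω s11 = dg 1 (-1) (-1) := by
    ext i j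
    fin_cases i <;> fin_cases j <;> simp [pval, s11, dg]
  set u : Fin 3 → F := ![6, 7 + 3 * ω, 7 + 3 * ω] with hu
  set φ : Fin 3 → F := ![5 + 10 * ω, 1, 1] with hφ
  have eW : pval f ω (!![9, 6, 6; 5, 8, 7; 5, 7, 8], !![5, 0, 0; 0, 3, 3; 0, 3, 3]) = 1 + vecMulVec u φ := by
    ext i j
    fin_cases i <;> fin_cases j <;> simp [pval, u, φ, Matrix.vecMulVec_apply, map_ofNat] <;> grind
  have hM : Mem H (1 + vecMulVec u φ) := by
    rw [← eW, ← wordEleven_eq, wordEleven]
    simp only [pval_pmul f hr, eF, eQ, eS]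
    exact (((((((h.memF.mul h.memQ).mul hS).mul h.memF).mul hS).mul h.memF).mul hS).mul h.memQ).mul hS
  rcases h.noTr.eq_zero hM (by simp [u, φ, dotProduct, Fin.sum_univ_three]; grind) with e | e
  · have h6 : (6 : F) ≠ 0 := by exact_mod_cast h.nat_ne 6 (by norm_num) (by decide +kernel)
    exact h6 (by simpa [u] using congrFun e 0)
  · exact one_ne_zero (α := F) (by simpa [φ] using congrFun e 1)

/-- the diagonal sign change is not in the group -/
theorem no_sign (hS : Mem H (dg 1 (-1) (-1))) : False := by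
  haveI := h.fact
  haveI := h.charP
  have hdet : (bL : M3).det ≠ 0 := by rw [det_bL]; exact neg_ne_zero.2 h.two
  have hG := planeGroup_pow_eq_one p h.noTr hdet
  have eS : dg 1 (-1) (-1) * (bL : M3) = bL * blk (-1) !![1, 0; 0, -1] := by
    ext i j
    fin_cases i <;> fin_cases j <;> simp [dg, bL, blk, Matrix.mul_apply, Fin.sum_univ_three]
  obtain ⟨s, hs, es⟩ := mem_planeGroup_of_mem hdet hS eS
  obtain ⟨a, ha, ea⟩ := mem_planeGroup_of_mem hdet h.memF (fM_bL h.root h.sub_sq)
  obtain ⟨b, hb, eb⟩ := mem_planeGroup_of_mem hdet h.memQ (qM_bL h.root h.sub_sq)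
  have hsr := h.sr_ne
  have hsq := h.sr_sq
  have h2 := h.two
  have h3 := h.three
  have hr := h.root
  have ea2 : (a : M2) * a = (-1 : F) • 1 := by
    rw [ea]; ext i j; fin_cases i <;> fin_cases j <;> simp [fW, Matrix.mul_apply, Fin.sum_univ_two]
    all_goals grind
  have eb2 : (b : M2) * b = (-1 : F) • 1 := by
    rw [eb]; ext i j; fin_cases i <;> fin_cases j <;> simp [qW, Matrix.mul_apply, Fin.sum_univ_two]
    all_goals grind
  have eab : (a : M2) * b = (-1 : F) • ((b : M2) * a) := by
    rw [ea, eb]; ext i j; fin_cases i <;> fin_cases j <;> simp [fW, qW, Matrix.mul_apply, Fin.sum_univ_two]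
    all_goals grind
  have notPC : ∀ N : M2, ∀ g : GL (Fin 2) F, (g : M2) = N → N 0 0 ≠ 0 → N 0 1 ≠ 0 → ¬ PC s g := by
    rintro N g rfl h00 h01 ⟨c, hc⟩
    rw [es] at hc
    have e00 := congrFun (congrFun hc 0) 0
    have e01 := congrFun (congrFun hc 0) 1
    simp [Matrix.mul_apply, Fin.sum_univ_two] at e00 e01
    have hc1 : c = 1 := mul_right_cancel₀ h00 (by linear_combination -e00)
    exact h01 (mul_left_cancel₀ h2 (by rw [hc1] at e01; linear_combination e01))
  set N : M2 := fW ω * !![1, 0; 0, -1] * (fW ω * !![1, 0; 0, -1]) with hN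
  have hg : ((a * s * (a * s) : GL (Fin 2) F) : M2) = (1 : F) • N := by
    rw [Units.val_mul, Units.val_mul, ea, es, one_smul]
  have hNd : N.det = 1 := by
    rw [hN, Matrix.det_fin_two]; simp [fW, Matrix.mul_apply, Fin.sum_univ_two]; grind
  have hNt : N.trace = 2 / 3 := by
    rw [hN, Matrix.trace_fin_two]; simp [fW, Matrix.mul_apply, Fin.sum_univ_two]; grind
  have hNs : ¬ Scal N := by
    rintro ⟨c, hc⟩
    have := congrFun (congrFun hc 1) 0
    simp [hN, fW, Matrix.mul_apply, Fin.sum_univ_two] at this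
    grind
  have hv := val_of one_ne_zero hg hNd hNs
  rw [hNt] at hv
  have hgm : a * s * (a * s) ∈ planeGroup H (bL : M3) := mul_mem (mul_mem ha hs) (mul_mem ha hs)
  rcases shapes p h.two_ne _ hG with hD | ⟨hsm, -⟩ | ⟨hsm, -⟩
  · have na : ¬ Scal (a : M2) := by
      rintro ⟨c, hc⟩
      have := congrFun (congrFun hc 1) 0
      rw [ea] at this
      simp [fW, hsr] at this
    have nb : ¬ Scal (b : M2) := by
      rintro ⟨c, hc⟩
      have := congrFun (congrFun hc 0) 1
      rw [eb] at this
      simp [qW, hsr, h2, h.root_ne_zero] at this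
    have nab : ¬ Scal ((a * b : GL (Fin 2) F) : M2) := by
      rintro ⟨c, hc⟩
      have := congrFun (congrFun hc 0) 1
      rw [Units.val_mul, ea, eb] at this
      simp [fW, qW, Matrix.mul_apply, Fin.sum_univ_two] at this
      grind
    rcases hD.2 a ha b hb ⟨-1, by rw [Units.val_mul, ea2]⟩ ⟨-1, by rw [Units.val_mul, eb2]⟩ na nb ⟨-1, eab⟩ nab
        with hc | hc | hc
    · exact notPC _ a rfl (by rw [ea]; simp [fW, hsr]) (by rw [ea]; simp [fW, hsr, h2]) (hc s hs)
    · exact notPC _ b rfl (by rw [eb]; simp [qW, hsr]) (by rw [eb]; simp [qW, hsr, h2, h.root_ne_zero]) (hc s hs)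
    · refine notPC _ (a * b) rfl ?_ ?_ (hc s hs)
      · rw [Units.val_mul, ea, eb]; simp [fW, qW, Matrix.mul_apply, Fin.sum_univ_two]; grind
      · rw [Units.val_mul, ea, eb]; simp [fW, qW, Matrix.mul_apply, Fin.sum_univ_two]; grind
  · rcases hv.1 (hsm _ hgm) with e | e | e
    · exact div_ne_zero h2 h3 e
    · field_simp at e
      have h5 : (5 : F) ≠ 0 := by exact_mod_cast h.nat_ne 5 (by norm_num) (by decide +kernel)
      exact h5 (by linear_combination -e)
    · field_simp at e
      have h14 : (14 : F) ≠ 0 := by exact_mod_cast h.nat_ne 14 (by norm_num) (by decide +kernel)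
      exact h14 (by linear_combination -(2 : F) * e)
  · rcases hv.2 (hsm _ hgm) with e | e | e
    · exact div_ne_zero h2 h3 e
    · field_simp at e
      have h5 : (5 : F) ≠ 0 := by exact_mod_cast h.nat_ne 5 (by norm_num) (by decide +kernel)
      exact h5 (by linear_combination -e)
    · field_simp at e
      exact h.no_sign_eleven (h.eq_eleven (by linear_combination -e)) hS

end Amb

end Cfsg.Agent.Forms.Max.SU3.SympType
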