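import Mathlib
import Cfsg.Agent.Lib.Forms.Max.SU3.SympType.NoSign

/-!
# The extraspecial subgroup: its normaliser has order 216, and no involution centralises a non-central element
-/

set_option autoImplicit false
set_option linter.unusedSectionVars false
set_option linter.style.haveILetI false

namespace Cfsg.Agent.Forms.Max.SU3.SympType

open Matrix
open Cfsg.Agent.Forms.Max.SL3.SympType hiding Amb r0Grp zGrp exists_proj shapes planeGroup_pow_eq_one pair_val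
  pair_tau

variable {F : Type*} [Field F] [Fintype F] {H : Subgroup (GL (Fin 3) F)} {p : ℕ} {ω : F}

local notation "M3" => Matrix (Fin 3) (Fin 3) F
local notation "GL3" => GL (Fin 3) F
local notation "mt" => Cfsg.Agent.Forms.Max.SL3.SympType.mt

namespace Amb

variable (h : Amb H p ω)
include h

theorem card_ne : (p : ℕ) ≠ 0 := h.prime.ne_zero

/-- normalising is a property of the whole group -/
theorem nrm0_map {g : GL3} (hg : Nrm0 ω g) {M : M3} (hM : IsR0 ω M) :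
    ∃ N, IsR0 ω N ∧ (g : M3) * M = N * (g : M3) := by
  obtain ⟨⟨x, hx, ex⟩, ⟨y, hy, ey⟩⟩ := hg
  obtain ⟨i, j, k, rfl⟩ := hM
  have e1 : SemiconjBy (g : M3) (xM ω ^ (j : ℕ) * yM ^ (k : ℕ)) (x ^ (j : ℕ) * y ^ (k : ℕ)) :=
    (SemiconjBy.pow_right (show SemiconjBy (g : M3) (xM ω) x from ex) _).mul_right
      (SemiconjBy.pow_right (show SemiconjBy (g : M3) yM y from ey) _)
  refine ⟨ω ^ (i : ℕ) • (x ^ (j : ℕ) * y ^ (k : ℕ)), ?_, ?_⟩
  · have := h.isR0_mul (h.isR0_of i 0 0) (h.isR0_mul (h.isR0_pow hx (j : ℕ)) (h.isR0_pow hy (k : ℕ)))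
    simpa [Matrix.smul_mul] using this
  · rw [Matrix.mul_smul, e1.eq, Matrix.smul_mul]

theorem isR0_root (i : ℕ) : IsR0 ω (ω ^ i • (1 : M3)) := by simpa using h.isR0_of i 0 0

theorem scalar_eq {c : F} {M : M3} (hM : Mem H M) (e : M = c • 1) : ∃ i : ℕ, i < 3 ∧ c = ω ^ i := by
  have := h.det_eq hM
  rw [e, Matrix.det_smul, Fintype.card_fin, Matrix.det_one, mul_one] at this
  exact h.eq_pow_of_cube this

theorem root_pow_inj {i i' : Fin 3} (e : ω ^ (i : ℕ) = ω ^ (i' : ℕ)) : i = i' := by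
  have hr := h.root
  have hne := h.root_ne_one
  have h0 := h.root_ne_zero
  have hw : ω ^ 2 ≠ 1 := fun e => hne (by linear_combination h.cube - ω * e)
  have hw2 : ω ≠ ω ^ 2 := sub_ne_zero.1 h.sub_sq
  fin_cases i <;> fin_cases i' <;> simp_all <;> grind

/-- the exponents are determined, the scalar apart -/
theorem param_eq {c c' : F} (hc : c ≠ 0) {j k j' k' : Fin 3}
    (e : c • (xM ω ^ (j : ℕ) * yM ^ (k : ℕ)) = c' • (xM ω ^ (j' : ℕ) * yM ^ (k' : ℕ))) : j = j' ∧ k = k' := by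
  have e2 := congrArg (fun M => xM ω ^ (3 - (j' : ℕ)) * M * yM ^ (3 - (k' : ℕ))) e
  simp only [Matrix.mul_smul, Matrix.smul_mul, ← Matrix.mul_assoc, ← pow_add] at e2
  rw [show 3 - (j' : ℕ) + j' = 3 by omega, h.xM_pow_three, one_mul, ← pow_add,
    show (k' : ℕ) + (3 - (k' : ℕ)) = 3 by omega, yM_pow_three, Matrix.mul_assoc, ← pow_add] at e2
  rw [pow_eq_pow_mod _ h.xM_pow_three, pow_eq_pow_mod ((k : ℕ) + _) yM_pow_three] at e2
  have e3 : ω ^ ((0 : Fin 3) : ℕ) • (xM ω ^ ((⟨(3 - (j' : ℕ) + j) % 3, Nat.mod_lt _ (by norm_num)⟩ : Fin 3) : ℕ) *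
      yM ^ ((⟨((k : ℕ) + (3 - (k' : ℕ))) % 3, Nat.mod_lt _ (by norm_num)⟩ : Fin 3) : ℕ)) = (c⁻¹ * c') • (1 : M3) := by
    rw [Fin.val_zero, pow_zero, one_smul, ← smul_smul, ← e2, smul_smul, inv_mul_cancel₀ hc, one_smul]
  obtain ⟨hj, hk, -⟩ := h.isR0_scalar_iff e3
  simp [Fin.ext_iff] at hj hk
  exact ⟨Fin.ext (by omega), Fin.ext (by omega)⟩

end Amb

/-- the extraspecial subgroup -/
def r0Grp (h : Amb H p ω) : Subgroup H where
  carrier := {g | IsR0 ω (mt g)}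
  one_mem' := by
    show IsR0 ω (mt (1 : H))
    rw [mt_one]; exact h.isR0_one
  mul_mem' {g g'} hg hg' := by
    show IsR0 ω (mt (g * g'))
    rw [mt_mul]; exact h.isR0_mul hg hg'
  inv_mem' {g} hg := by
    show IsR0 ω (mt g⁻¹)
    obtain ⟨i, j, k, e⟩ := hg
    obtain ⟨m, hm⟩ : ∃ m, g ^ (m + 1) = 1 :=
      ⟨orderOf g - 1, by rw [Nat.sub_add_cancel (orderOf_pos g), pow_orderOf_eq_one]⟩
    rw [show g⁻¹ = g ^ m from inv_eq_of_mul_eq_one_left (by rw [← pow_succ]; exact hm), mt_pow]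
    exact h.isR0_pow ⟨i, j, k, e⟩ m

/-- the scalars -/
def zGrp (h : Amb H p ω) : Subgroup H where
  carrier := {g | ∃ i : ℕ, mt g = ω ^ i • 1}
  one_mem' := ⟨0, by rw [mt_one, pow_zero, one_smul]⟩
  mul_mem' := by
    rintro g g' ⟨i, hi⟩ ⟨j, hj⟩
    exact ⟨i + j, by rw [mt_mul, hi, hj, Matrix.smul_mul, one_mul, smul_smul, pow_add]⟩
  inv_mem' := by
    rintro g ⟨i, hi⟩
    refine ⟨2 * i, ?_⟩
    calc mt g⁻¹ = mt g⁻¹ * (mt g * ω ^ (2 * i) • (1 : M3)) := by
          rw [hi, Matrix.smul_mul, one_mul, smul_smul, ← pow_add, show i + 2 * i = 3 * i by ring, pow_mul, h.cube,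
            one_pow, one_smul, mul_one]
      _ = _ := by rw [← mul_assoc, mt_inv_mul, one_mul]

namespace Amb

variable (h : Amb H p ω)
include h

theorem mem_r0Grp {g : H} : g ∈ r0Grp h ↔ IsR0 ω (mt g) := Iff.rfl

theorem mem_zGrp {g : H} : g ∈ zGrp h ↔ ∃ i : ℕ, mt g = ω ^ i • 1 := Iff.rfl

theorem mem_zGrp_of_scalar {g : H} {c : F} (e : mt g = c • 1) : g ∈ zGrp h := by
  obtain ⟨i, -, rfl⟩ := h.scalar_eq (mem_mt g) e
  exact ⟨i, e⟩

theorem zGrp_le_center : zGrp h ≤ Subgroup.center H := by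
  rintro g ⟨i, hi⟩
  exact Subgroup.mem_center_iff.2 fun x => mt_inj (by
    rw [mt_mul, mt_mul, hi, Matrix.smul_mul, Matrix.mul_smul, one_mul, mul_one])

theorem zGrp_le : zGrp h ≤ r0Grp h := by
  rintro g ⟨i, hi⟩
  exact h.mem_r0Grp.2 (hi ▸ h.isR0_root i)

theorem card_r0Grp : Nat.card (r0Grp h) = 27 := by
  classical
  have hmem : ∀ a : Fin 3 × Fin 3 × Fin 3, ∃ g : r0Grp h,
      mt (g : H) = ω ^ (a.1 : ℕ) • (xM ω ^ (a.2.1 : ℕ) * yM ^ (a.2.2 : ℕ)) := fun a => by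
    obtain ⟨g, hg⟩ := (h.mem_of_isR0 ⟨a.1, a.2.1, a.2.2, rfl⟩).exists_mt
    exact ⟨⟨g, h.mem_r0Grp.2 ⟨a.1, a.2.1, a.2.2, hg⟩⟩, hg⟩
  choose f hf using hmem
  have hbij : Function.Bijective f := by
    refine ⟨fun a b e => ?_, fun g => ?_⟩
    · have e' : mt (f a : H) = mt (f b : H) := by rw [e]
      rw [hf, hf] at e'
      obtain ⟨hj, hk⟩ := h.param_eq (pow_ne_zero _ h.root_ne_zero) e'
      rw [← hj, ← hk] at e'
      have hd : (xM ω ^ (a.2.1 : ℕ) * yM ^ (a.2.2 : ℕ)).det ≠ 0 := by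
        rw [h.det_eq ((h.memX.pow _).mul (h.memY.pow _))]; exact one_ne_zero
      have hne : xM ω ^ (a.2.1 : ℕ) * yM ^ (a.2.2 : ℕ) ≠ 0 := fun e0 => hd (by rw [e0, Matrix.det_zero])
      exact Prod.ext (h.root_pow_inj (smul_left_injective F hne e')) (Prod.ext hj hk)
    · obtain ⟨i, j, k, e⟩ := h.mem_r0Grp.1 g.2
      exact ⟨(i, j, k), Subtype.ext (mt_inj (by rw [hf, e]))⟩
  rw [← Nat.card_eq_of_bijective f hbij]
  simp

theorem card_zGrp : Nat.card (zGrp h) = 3 := by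
  classical
  have hmem : ∀ a : Fin 3, ∃ g : zGrp h, mt (g : H) = ω ^ (a : ℕ) • 1 := fun a => by
    obtain ⟨g, hg⟩ := (h.mem_of_isR0 (h.isR0_root a)).exists_mt
    exact ⟨⟨g, ⟨a, hg⟩⟩, hg⟩
  choose f hf using hmem
  have hbij : Function.Bijective f := by
    refine ⟨fun a b e => ?_, fun g => ?_⟩
    · have e' : mt (f a : H) = mt (f b : H) := by rw [e]
      rw [hf, hf] at e'
      exact h.root_pow_inj (smul_left_injective F one_ne_zero e')
    · obtain ⟨i, e⟩ := h.mem_zGrp.1 g.2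
      refine ⟨⟨i % 3, Nat.mod_lt _ (by norm_num)⟩, Subtype.ext (mt_inj ?_)⟩
      rw [hf, e]
      exact congrArg (· • (1 : M3)) (pow_eq_pow_mod i h.cube).symm
  rw [← Nat.card_eq_of_bijective f hbij]
  simp

theorem mem_normalizer_iff_nrm0 {g : H} :
    g ∈ Subgroup.normalizer (r0Grp h : Set H) ↔ Nrm0 ω (g : GL3) := by
  constructor
  · intro hg
    obtain ⟨x, hx⟩ := h.memX.exists_mt
    obtain ⟨y, hy⟩ := h.memY.exists_mt
    refine ⟨⟨mt (g * x * g⁻¹), ?_, ?_⟩, mt (g * y * g⁻¹), ?_, ?_⟩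
    · exact (Subgroup.mem_normalizer_iff.1 hg x).1 (h.mem_r0Grp.2 (hx ▸ h.isR0_xM))
    · show mt g * xM ω = _
      rw [← hx]; exact (mt_conj g x).symm
    · exact (Subgroup.mem_normalizer_iff.1 hg y).1 (h.mem_r0Grp.2 (hy ▸ h.isR0_yM))
    · show mt g * yM = _
      rw [← hy]; exact (mt_conj g y).symm
  · intro hg
    refine Subgroup.mem_normalizer_fintype fun x hx => ?_
    obtain ⟨N, hN, e⟩ := h.nrm0_map hg (h.mem_r0Grp.1 hx)
    exact h.mem_r0Grp.2 (eq_conj_of_mt (g := g) (x := x) e ▸ hN)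

/-- a normalising element carrying `X` to a multiple of `X ^ j * Y ^ k` -/
theorem exists_to_xM_grp {j k : Fin 3} (hjk : ¬ (j = 0 ∧ k = 0)) :
    ∃ a : H, a ∈ Subgroup.normalizer (r0Grp h : Set H) ∧
      ∃ c : F, c ≠ 0 ∧ mt a * xM ω = c • (xM ω ^ (j : ℕ) * yM ^ (k : ℕ) * mt a) := by
  obtain ⟨q, hq, hn, c, hc⟩ := h.exists_to_xM j k hjk
  refine ⟨⟨q, hq⟩, h.mem_normalizer_iff_nrm0.2 hn, c, ?_, hc⟩
  rintro rfl
  rw [zero_smul] at hc
  have := congrArg Matrix.det hc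
  rw [Matrix.det_mul, h.det_eq ⟨q, hq, rfl⟩, h.det_eq h.memX, Matrix.det_zero, one_mul] at this
  exact one_ne_zero this

theorem exists_param {x : H} (hx : x ∈ r0Grp h) (hxZ : x ∉ zGrp h) :
    ∃ (j k : Fin 3) (c : F), ¬ (j = 0 ∧ k = 0) ∧ c ≠ 0 ∧ mt x = c • (xM ω ^ (j : ℕ) * yM ^ (k : ℕ)) := by
  obtain ⟨i, j, k, e⟩ := h.mem_r0Grp.1 hx
  refine ⟨j, k, _, ?_, pow_ne_zero _ h.root_ne_zero, e⟩
  rintro ⟨rfl, rfl⟩
  exact hxZ ⟨i, by simpa using e⟩

/-- a diagonal element normalising the extraspecial group has equal cubes -/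
theorem diag_of_nrm {a b c : F} {N : M3} (hN : IsR0 ω N) (e : dg a b c * yM = N * dg a b c) (ha : a ≠ 0) :
    a ^ 3 = b ^ 3 ∧ b ^ 3 = c ^ 3 := by
  obtain ⟨i, j, k, rfl⟩ := hN
  have h3 : ∀ n : ℕ, (ω ^ n) ^ 3 = 1 := fun n => by rw [← pow_mul, mul_comm, pow_mul, h.cube, one_pow]
  rw [xM_pow] at e
  have e02 := congrFun (congrFun e 0) 2
  have e10 := congrFun (congrFun e 1) 0
  fin_cases k <;>
    simp [dg, yM, pow_succ, Matrix.mul_apply, Fin.sum_univ_three, ha] at e02 e10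
  have hi := h3 (i : ℕ)
  have hj := h3 (j : ℕ)
  have hab : a ^ 3 = b ^ 3 := by grind
  exact ⟨hab, by grind⟩

/-- a normalising element commuting with `X` up to a scalar belongs to the group -/
theorem mem_r0Grp_of_normalizer (h9 : p % 9 ≠ 8) {g : H} (hg : g ∈ Subgroup.normalizer (r0Grp h : Set H)) {ν : F}
    (e : mt g * xM ω = ν • (xM ω * mt g)) : g ∈ r0Grp h := by
  obtain ⟨n, a, b, c, hn, hD⟩ := h.monomial_of_comm_xM (mem_mt g) e
  obtain ⟨-, N, hN, eN⟩ := h.mem_normalizer_iff_nrm0.1 hg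
  have hd := h.det_eq hD
  rw [det_dg] at hd
  have e' : dg a b c * yM = N * dg a b c := by
    have e1 : mt g * yM = N * mt g := eN
    rw [hn, Matrix.mul_assoc, ← pow_succ, pow_succ', ← Matrix.mul_assoc, ← Matrix.mul_assoc] at e1
    have e2 := congrArg (fun M => M * yM ^ (2 * n)) e1
    simp only [Matrix.mul_assoc, ← pow_add] at e2
    rw [show n + 2 * n = 3 * n by ring, pow_mul, yM_pow_three, one_pow, mul_one, mul_one] at e2
    exact e2
  obtain ⟨hab, hbc⟩ := h.diag_of_nrm hN e' (left_ne_zero_of_mul (left_ne_zero_of_mul_eq_one hd))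
  exact h.mem_r0Grp.2 (hn ▸ h.isR0_mul (h.isR0_of_diag h9 hD hab hbc) (h.isR0_pow h.isR0_yM n))

theorem card_normalizer (h9 : p % 9 ≠ 8) : Nat.card (Subgroup.normalizer (r0Grp h : Set H)) = 216 := by
  classical
  set N : Subgroup H := Subgroup.normalizer (r0Grp h : Set H) with hN
  choose q hq c hc0 hc using fun a : {a : Fin 3 × Fin 3 // ¬ (a.1 = 0 ∧ a.2 = 0)} => h.exists_to_xM_grp a.2
  let f : {a : Fin 3 × Fin 3 // ¬ (a.1 = 0 ∧ a.2 = 0)} × r0Grp h → N :=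
    fun a => ⟨q a.1 * a.2, mul_mem (hq a.1) (Subgroup.le_normalizer a.2.2)⟩
  have himg : ∀ a, ∀ r : H, r ∈ r0Grp h → ∃ d : F, d ≠ 0 ∧ mt (q a * r) * xM ω =
      d • (xM ω ^ (a.1.1 : ℕ) * yM ^ (a.1.2 : ℕ) * mt (q a * r)) := by
    intro a r hr
    obtain ⟨i, j, k, e⟩ := h.mem_r0Grp.1 hr
    have hk : yM ^ (k : ℕ) * xM ω = ω ^ (2 * (k : ℕ)) • (xM ω * yM ^ (k : ℕ)) := by
      simpa using h.yM_pow_xM_pow (k : ℕ) 1
    have hr' : mt r * xM ω = ω ^ (2 * (k : ℕ)) • (xM ω * mt r) := by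
      rw [e, Matrix.smul_mul, Matrix.mul_assoc, hk, Matrix.mul_smul, ← Matrix.mul_assoc, ← pow_succ,
        Matrix.mul_smul, smul_smul, smul_smul, ← Matrix.mul_assoc (xM ω), ← pow_succ', mul_comm]
    refine ⟨ω ^ (2 * (k : ℕ)) * c a, mul_ne_zero (pow_ne_zero _ h.root_ne_zero) (hc0 a), ?_⟩
    rw [mt_mul, Matrix.mul_assoc, hr', Matrix.mul_smul, ← Matrix.mul_assoc, hc, Matrix.smul_mul, smul_smul,
      Matrix.mul_assoc]
  have hbij : Function.Bijective f := by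
    refine ⟨?_, ?_⟩
    · rintro ⟨a, r⟩ ⟨b, s⟩ e
      have e' : q a * (r : H) = q b * (s : H) := congrArg Subtype.val e
      obtain ⟨d, hd, e1⟩ := himg a r r.2
      obtain ⟨d', hd', e2⟩ := himg b s s.2
      rw [e'] at e1
      have e3 := e1.symm.trans e2
      have e4 := congrArg (· * mt (q b * (s : H))⁻¹) e3
      simp only [Matrix.smul_mul, Matrix.mul_assoc, mt_mul_inv, mul_one] at e4
      obtain ⟨hj, hk⟩ := h.param_eq hd e4
      have hab : a = b := Subtype.ext (Prod.ext hj hk)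
      subst hab
      exact Prod.ext rfl (Subtype.ext (mul_left_cancel e'))
    · rintro ⟨g, hg⟩
      obtain ⟨x, hx⟩ := h.memX.exists_mt
      have hxR : x ∈ r0Grp h := h.mem_r0Grp.2 (hx ▸ h.isR0_xM)
      have hxZ : x ∉ zGrp h := by
        rintro ⟨i, hi⟩
        have h00 := congrFun (congrFun (hx.symm.trans hi) 0) 0
        have h11 := congrFun (congrFun (hx.symm.trans hi) 1) 1
        simp [xM, dg] at h00 h11
        exact h.root_ne_one (h11.trans h00.symm)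
      have hyR : g * x * g⁻¹ ∈ r0Grp h := (Subgroup.mem_normalizer_iff.1 hg x).1 hxR
      have hyZ : g * x * g⁻¹ ∉ zGrp h := fun hz => hxZ (by
        have := Subgroup.mem_center_iff.1 (h.zGrp_le_center hz) g
        rw [inv_mul_cancel_right, mul_right_inj] at this
        rwa [this] at hz)
      obtain ⟨j, k, c', hjk, hc', ey⟩ := h.exists_param hyR hyZ
      have e : mt g * xM ω = c' • (xM ω ^ (j : ℕ) * yM ^ (k : ℕ) * mt g) := by
        rw [← Matrix.smul_mul, ← ey, mt_conj, hx]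
      set a : {a : Fin 3 × Fin 3 // ¬ (a.1 = 0 ∧ a.2 = 0)} := ⟨(j, k), hjk⟩
      have hs : xM ω ^ (j : ℕ) * yM ^ (k : ℕ) = (c a)⁻¹ • (mt (q a) * xM ω * mt (q a)⁻¹) := by
        rw [← Matrix.smul_mul, hc a, smul_smul, inv_mul_cancel₀ (hc0 a), one_smul, Matrix.mul_assoc, mt_mul_inv,
          mul_one]
      have key : mt ((q a)⁻¹ * g) * xM ω = (c' * (c a)⁻¹) • (xM ω * mt ((q a)⁻¹ * g)) := by
        rw [mt_mul, Matrix.mul_assoc, e, hs, Matrix.mul_smul, Matrix.smul_mul, Matrix.mul_smul, smul_smul]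
        simp only [← Matrix.mul_assoc]
        rw [mt_inv_mul, one_mul]
      exact ⟨(a, ⟨(q a)⁻¹ * g, h.mem_r0Grp_of_normalizer h9 (mul_mem (inv_mem (hq a)) hg) key⟩),
        Subtype.ext (mul_inv_cancel_left _ _)⟩
  rw [← Nat.card_eq_of_bijective f hbij, Nat.card_prod, h.card_r0Grp, Nat.card_eq_fintype_card]
  rfl

theorem not_eightyone (h9 : p % 9 ≠ 8) : ¬ 81 ∣ Nat.card H := by
  intro h81
  have : Fact (Nat.Prime 3) := ⟨Nat.prime_three⟩
  have := Sylow.prime_pow_dvd_card_normalizer (p := 3) (n := 3) (H := r0Grp h)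
    (by norm_num; exact h81) (by rw [h.card_r0Grp]; norm_num)
  rw [h.card_normalizer h9] at this
  norm_num at this

/-- no involution centralises a non-central element of the extraspecial group -/
theorem invol_comm {x u : H} (hx : x ∈ r0Grp h) (hxZ : x ∉ zGrp h) (hu : Commute u x) (h2 : u * u = 1) : u = 1 := by
  obtain ⟨j, k, c, hjk, hc, ex⟩ := h.exists_param hx hxZ
  obtain ⟨a, -, d, hd, ha⟩ := h.exists_to_xM_grp hjk
  have ew : xM ω ^ (j : ℕ) * yM ^ (k : ℕ) = c⁻¹ • mt x := by rw [ex, smul_smul, inv_mul_cancel₀ hc, one_smul]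
  set w : H := a⁻¹ * u * a with hw
  have hcomm : mt w * xM ω = xM ω * mt w := by
    have hxa : xM ω = (d * c⁻¹) • (mt a⁻¹ * mt x * mt a) := by
      calc xM ω = mt a⁻¹ * (mt a * xM ω) := by rw [← Matrix.mul_assoc, mt_inv_mul, one_mul]
        _ = mt a⁻¹ * (d • (c⁻¹ • mt x * mt a)) := by rw [ha, ew]
        _ = _ := by rw [Matrix.smul_mul, Matrix.mul_smul, Matrix.mul_smul, smul_smul, Matrix.mul_assoc]
    rw [hxa, Matrix.mul_smul, Matrix.smul_mul, ← mt_mul, ← mt_mul, ← mt_mul, ← mt_mul, hw]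
    congr 2
    rw [show a⁻¹ * u * a * (a⁻¹ * x * a) = a⁻¹ * (u * x) * a by group,
      show a⁻¹ * x * a * (a⁻¹ * u * a) = a⁻¹ * (x * u) * a by group, hu.eq]
  have e01 := congrFun (congrFun hcomm 0) 1
  have e02 := congrFun (congrFun hcomm 0) 2
  have e10 := congrFun (congrFun hcomm 1) 0
  have e12 := congrFun (congrFun hcomm 1) 2
  have e20 := congrFun (congrFun hcomm 2) 0
  have e21 := congrFun (congrFun hcomm 2) 1
  simp [xM, dg, Matrix.mul_apply, Fin.sum_univ_three, Matrix.vecMul, dotProduct] at e01 e02 e10 e12 e20 e21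
  have hne := h.root_ne_one
  have hsub := h.sub_sq
  have hw1 : ω ^ 2 ≠ 1 := fun e => hne (by linear_combination h.cube - ω * e)
  have eD : mt w = dg (mt w 0 0) (mt w 1 1) (mt w 2 2) := by
    ext i j
    fin_cases i <;> fin_cases j <;> simp [dg]
    all_goals grind
  generalize mt w 0 0 = A at eD
  generalize mt w 1 1 = B at eD
  generalize mt w 2 2 = C at eD
  have hsq : w * w = 1 := by
    rw [hw, show a⁻¹ * u * a * (a⁻¹ * u * a) = a⁻¹ * (u * u) * a by group, h2]; group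
  have hD : dg A B C * dg A B C = 1 := by rw [← eD, ← mt_mul, hsq, mt_one]
  rw [dg_mul, ← dg_one] at hD
  have hA := congrFun (congrFun hD 0) 0
  have hB := congrFun (congrFun hD 1) 1
  have hC := congrFun (congrFun hD 2) 2
  have hdet := h.det_eq (mem_mt w)
  rw [eD, det_dg] at hdet
  simp [dg] at hA hB hC
  have hM : Mem H (dg A B C) := eD ▸ mem_mt w
  have key : w = 1 := by
    have conjY : ∀ {a b c : F}, Mem H (dg a b c) → Mem H (dg c a b) := fun {a b c} hd =>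
      yM_conj a b c ▸ (h.memY.mul hd).mul (h.memY.mul h.memY)
    have two := h.two
    rcases mul_self_eq_one_iff.1 hA with rfl | rfl <;> rcases mul_self_eq_one_iff.1 hB with rfl | rfl <;>
      rcases mul_self_eq_one_iff.1 hC with rfl | rfl
    all_goals
      first
      | exact mt_inj (by rw [eD, dg_one, mt_one])
      | exact (h.no_sign hM).elim
      | exact (h.no_sign (conjY hM)).elim
      | exact (h.no_sign (conjY (conjY hM))).elim
      | exact absurd hdet (by intro e; apply two; linear_combination -e)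
  calc u = a * w * a⁻¹ := by rw [hw]; group
    _ = 1 := by rw [key]; group

end Amb

end Cfsg.Agent.Forms.Max.SU3.SympType
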