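import Mathlib
import Cfsg.Agent.Lib.Forms.Max.SL3.SympType.Invol
import Cfsg.Agent.Lib.Forms.Max.SU3.SympType.Grp

/-!
# The centraliser of the involution

It has no element of projective order three on the axis, so it is projectively dihedral there; this bounds the
diagonal elements and the homologies at the point of the involution.
-/

set_option autoImplicit false
set_option linter.unusedSectionVars false
set_option linter.style.haveILetI false

namespace Cfsg.Agent.Forms.Max.SU3.SympType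

open Matrix
open Cfsg.Agent.Forms.Max.SL3.SympType hiding Amb r0Grp zGrp exists_proj shapes planeGroup_pow_eq_one pair_val
  pair_tau Setup

variable {F : Type*} [Field F] [Fintype F] {H : Subgroup (GL (Fin 3) F)} {p : ℕ} {ω : F}

local notation "M3" => Matrix (Fin 3) (Fin 3) F
local notation "M2" => Matrix (Fin 2) (Fin 2) F
local notation "GL3" => GL (Fin 3) F
local notation "mt" => Cfsg.Agent.Forms.Max.SL3.SympType.mt

namespace Amb

variable (h : Amb H p ω)
include h

theorem det_bL_ne : (bL : M3).det ≠ 0 := by rw [det_bL]; exact neg_ne_zero.2 h.two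

theorem bL_unit : IsUnit (bL : M3).det := isUnit_iff_ne_zero.2 h.det_bL_ne

theorem bL_nMat (M : M3) : bL * nMat M = M * bL := by
  rw [nMat, ← Matrix.mul_assoc, ← Matrix.mul_assoc, Matrix.mul_nonsing_inv _ h.bL_unit, one_mul]

theorem nMat_of_blk {M : M3} {a : F} {W : M2} (e : M * bL = bL * blk a W) : nMat M = blk a W := by
  rw [nMat, Matrix.mul_assoc, e, ← Matrix.mul_assoc, Matrix.nonsing_inv_mul _ h.bL_unit, one_mul]

theorem of_blk {g : H} {a : F} {W : M2} (e : mt g * bL = bL * blk a W) : aM g = a ∧ wM g = W := by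
  refine ⟨by simp [aM, h.nMat_of_blk e, blk], ?_⟩
  rw [wM, h.nMat_of_blk e]
  ext i j
  fin_cases i <;> fin_cases j <;> simp [blk]

theorem eq_of_blk {g g' : H} {a : F} {W : M2} (e : mt g * bL = bL * blk a W) (e' : mt g' * bL = bL * blk a W) :
    g = g' := mt_inj (by
  have := congrArg (fun M => M * (bL : M3)⁻¹) (e.trans e'.symm)
  simpa [Matrix.mul_assoc, Matrix.mul_nonsing_inv _ h.bL_unit] using this)

theorem exists_t : ∃ t : H, mt t = tM := h.memT.exists_mt

theorem comm_of_blk {g t : H} (ht : mt t = tM) {a : F} {W : M2} (e : mt g * bL = bL * blk a W) : Commute g t := by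
  refine mt_inj ?_
  rw [mt_mul, mt_mul, ht]
  have e1 : mt g * tM * bL = tM * mt g * bL := by
    rw [Matrix.mul_assoc, tM_bL, ← Matrix.mul_assoc, e, Matrix.mul_assoc tM, e, ← Matrix.mul_assoc tM, tM_bL,
      Matrix.mul_assoc, Matrix.mul_assoc, blk_mul, blk_mul, mul_one, one_mul, mul_neg_one, neg_one_mul]
  have := congrArg (fun M => M * (bL : M3)⁻¹) e1
  simpa [Matrix.mul_assoc, Matrix.mul_nonsing_inv _ h.bL_unit] using this

theorem blk_of_comm {g t : H} (ht : mt t = tM) (hg : Commute g t) : mt g * bL = bL * blk (aM g) (wM g) := by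
  have e := congrArg mt hg.eq
  rw [mt_mul, mt_mul, ht] at e
  have e1 : nMat (mt g) * blk 1 (-1) = blk 1 (-1) * nMat (mt g) := by
    have := congrArg (fun M => (bL : M3)⁻¹ * M) (congrArg (· * (bL : M3)) e)
    have h1 : (bL : M3)⁻¹ * (mt g * tM * bL) = nMat (mt g) * blk 1 (-1) := by
      rw [nMat, Matrix.mul_assoc (mt g), tM_bL]; simp only [Matrix.mul_assoc]
    have h2 : (bL : M3)⁻¹ * (tM * mt g * bL) = blk 1 (-1) * nMat (mt g) := by
      rw [Matrix.mul_assoc tM, ← h.bL_nMat, ← Matrix.mul_assoc tM, tM_bL, Matrix.mul_assoc,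
        ← Matrix.mul_assoc (bL : M3)⁻¹, Matrix.nonsing_inv_mul _ h.bL_unit, one_mul]
    rwa [h1, h2] at this
  have h2 := h.two
  have key : nMat (mt g) = blk (aM g) (wM g) := by
    have z01 := congrFun (congrFun e1 0) 1
    have z02 := congrFun (congrFun e1 0) 2
    have z10 := congrFun (congrFun e1 1) 0
    have z20 := congrFun (congrFun e1 2) 0
    simp [blk, Matrix.mul_apply, Fin.sum_univ_three] at z01 z02 z10 z20
    ext i j
    fin_cases i <;> fin_cases j <;> simp [blk, aM, wM]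
    all_goals grind
  rw [← h.bL_nMat, key]

theorem aM_wM_mul {g g' t : H} (ht : mt t = tM) (hg : Commute g t) (hg' : Commute g' t) :
    aM (g * g') = aM g * aM g' ∧ wM (g * g') = wM g * wM g' :=
  h.of_blk (by
    rw [mt_mul, Matrix.mul_assoc, h.blk_of_comm ht hg', ← Matrix.mul_assoc, h.blk_of_comm ht hg, Matrix.mul_assoc,
      blk_mul])

theorem det_wM {g t : H} (ht : mt t = tM) (hg : Commute g t) : aM g * (wM g).det = 1 := by
  have := congrArg Matrix.det (h.blk_of_comm ht hg)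
  rw [Matrix.det_mul, Matrix.det_mul, det_blk, h.det_eq (mem_mt g), one_mul] at this
  exact mul_left_cancel₀ h.det_bL_ne (by rw [mul_one]; exact this.symm)

theorem eq_of_wM {g g' t : H} (ht : mt t = tM) (hg : Commute g t) (hg' : Commute g' t) (e : wM g = wM g') :
    g = g' := by
  have ea : aM g = aM g' := by
    have h1 := h.det_wM ht hg
    have h2 := h.det_wM ht hg'
    rw [e] at h1
    exact mul_right_cancel₀ (right_ne_zero_of_mul_eq_one h2) (h1.trans h2.symm)
  exact h.eq_of_blk (h.blk_of_comm ht hg) (by rw [ea, e]; exact h.blk_of_comm ht hg')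

theorem blk_smul_one (a c : F) (hc : c ≠ 0) :
    (bL : M3) * blk a (c • (1 : M2)) = hom c (a / c) ![0, 1, -1] ![0, 1 / 2, -(1 / 2)] * bL := by
  have h2 := h.two
  ext i j
  fin_cases i <;> fin_cases j <;>
    simp [hom, bL, blk, Matrix.vecMulVec_apply, Matrix.mul_apply, Fin.sum_univ_three] <;> field_simp <;> ring

theorem eq_smul_one_of_blk {g : H} {c : F} (e : mt g * bL = bL * blk c (c • (1 : M2))) : mt g = c • 1 := by
  have e1 : blk c (c • (1 : M2)) = c • (1 : M3) := by
    ext i j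
    fin_cases i <;> fin_cases j <;> simp [blk]
  rw [e1, Matrix.mul_smul, mul_one] at e
  have := congrArg (fun M => M * (bL : M3)⁻¹) e
  simpa [Matrix.mul_assoc, Matrix.mul_nonsing_inv _ h.bL_unit, Matrix.smul_mul] using this

theorem mem_Z_iff {g t : H} (ht : mt t = tM) (hg : Commute g t) : g ∈ zGrp h ↔ wM g = aM g • 1 := by
  constructor
  · rintro ⟨i, hi⟩
    have e : mt g * bL = bL * blk (ω ^ i) (ω ^ i • (1 : M2)) := by
      rw [hi, Matrix.smul_mul, one_mul]
      ext a b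
      fin_cases a <;> fin_cases b <;> simp [bL, blk, Matrix.mul_apply, Fin.sum_univ_three]
    obtain ⟨ea, ew⟩ := h.of_blk e
    rw [ea, ew]
  · intro e
    exact h.mem_zGrp_of_scalar (h.eq_smul_one_of_blk (by rw [← e]; exact h.blk_of_comm ht hg))

theorem t_blk {t : H} (ht : mt t = tM) : mt t * bL = bL * blk 1 (-1 : M2) := by rw [ht, tM_bL]

theorem z_cube {g : H} (hg : g ∈ zGrp h) : g ^ 3 = 1 := by
  obtain ⟨i, hi⟩ := hg
  exact mt_inj (by rw [mt_pow, hi, smul_pow, one_pow, ← pow_mul, mul_comm, pow_mul, h.cube, one_pow, one_smul, mt_one])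

theorem t_sq {t : H} (ht : mt t = tM) : t * t = 1 := mt_inj (by
  rw [mt_mul, mt_one, ht]
  ext i j
  fin_cases i <;> fin_cases j <;> simp [tM, Matrix.mul_apply, Fin.sum_univ_three])

theorem t_ne {t : H} (ht : mt t = tM) : t ≠ 1 := by
  rintro rfl
  rw [mt_one] at ht
  have := congrFun (congrFun ht 0) 0
  simp [tM] at this
  exact h.two (by linear_combination this)

theorem t_order {t : H} (ht : mt t = tM) : orderOf t = 2 :=
  orderOf_eq_prime (by rw [pow_two, h.t_sq ht]) (h.t_ne ht)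

theorem exists_conj_mem_r0 (h9 : p % 9 ≠ 8) {x : H} {n : ℕ} (hx : x ^ 3 ^ n = 1) :
    ∃ k : H, k * x * k⁻¹ ∈ r0Grp h := by
  have : Fact (Nat.Prime 3) := ⟨Nat.prime_three⟩
  obtain ⟨Q, hQ⟩ := (IsPGroup.of_card (G := r0Grp h) (p := 3) (n := 3)
    (by rw [h.card_r0Grp]; norm_num)).exists_le_sylow
  have hQ' : (Q : Subgroup H) = r0Grp h := by
    obtain ⟨k, hk⟩ := IsPGroup.iff_card.1 Q.2
    have hk3 : k ≤ 3 := by
      by_contra hc
      exact h.not_eightyone h9 (dvd_trans (by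
        rw [hk]
        exact (pow_dvd_pow 3 (show 4 ≤ k by omega))) (Subgroup.card_subgroup_dvd_card _))
    refine (Subgroup.eq_of_le_of_card_ge hQ ?_).symm
    rw [hk, h.card_r0Grp]
    calc 3 ^ k ≤ 3 ^ 3 := Nat.pow_le_pow_right (by norm_num) hk3
      _ = 27 := by norm_num
  obtain ⟨k, -, hk⟩ := (Nat.dvd_prime_pow Nat.prime_three).1 (orderOf_dvd_of_pow_eq_one hx)
  obtain ⟨P, hP⟩ := (IsPGroup.of_card (G := Subgroup.zpowers x) (p := 3) (n := k)
    (by rw [Nat.card_zpowers, hk])).exists_le_sylow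
  obtain ⟨c, hc⟩ := MulAction.exists_smul_eq H P Q
  refine ⟨c, hQ' ▸ hc ▸ ?_⟩
  rw [Sylow.coe_subgroup_smul]
  exact Subgroup.smul_mem_pointwise_smul x (MulAut.conj c) (P : Subgroup H) (hP (Subgroup.mem_zpowers x))

theorem odd_r0 {x : H} (hx : x ∈ r0Grp h) (h2 : x * x = 1) : x = 1 := by
  have h27 := congrArg Subtype.val (pow_card_eq_one' (x := (⟨x, hx⟩ : r0Grp h)))
  simp only [h.card_r0Grp, SubmonoidClass.coe_pow, OneMemClass.coe_one] at h27
  rw [show (27 : ℕ) = 2 * 13 + 1 from rfl, pow_succ, pow_mul, pow_two, h2, one_pow, one_mul] at h27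
  exact h27

theorem aM_wM_pow {g t : H} (ht : mt t = tM) (hg : Commute g t) (n : ℕ) :
    aM (g ^ n) = aM g ^ n ∧ wM (g ^ n) = wM g ^ n :=
  h.of_blk (by
    have := SemiconjBy.pow_right (show SemiconjBy (bL : M3) (blk (aM g) (wM g)) (mt g) from (h.blk_of_comm ht hg).symm) n
    rw [mt_pow, ← blk_pow]
    exact this.eq.symm)

/-- no element of the centraliser has projective order three on the axis -/
theorem no_three (h9 : p % 9 ≠ 8) {g t : H} (ht : mt t = tM) (hg : Commute g t) (hW : ¬ Scal (wM g))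
    {s : F} (h3 : wM g ^ 3 = s • 1) : False := by
  obtain ⟨k, m, hm, ho⟩ := Nat.exists_eq_pow_mul_and_not_dvd (orderOf_pos g).ne' 3 (by norm_num)
  have hx : (g ^ m) ^ 3 ^ k = 1 := by rw [← pow_mul, mul_comm, ← ho, pow_orderOf_eq_one]
  have hgm := hg.pow_left m
  have hdW : (wM g).det ≠ 0 := right_ne_zero_of_mul_eq_one (h.det_wM ht hg)
  have hs : s ≠ 0 := by
    intro e
    rw [e, zero_smul] at h3
    exact hdW (eq_zero_of_pow_eq_zero (n := 3) (by rw [← Matrix.det_pow, h3, Matrix.det_zero]))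
  have hns : ∀ c : F, wM g ^ m ≠ c • 1 := by
    intro c hc
    obtain ⟨j, r, hr, rfl⟩ : ∃ j r, (r = 1 ∨ r = 2) ∧ m = 3 * j + r := ⟨m / 3, m % 3, by omega, by omega⟩
    rw [pow_add, pow_mul, h3, smul_pow, one_pow, Matrix.smul_mul, one_mul] at hc
    have hc' : wM g ^ r = ((s ^ j)⁻¹ * c) • 1 := by
      rw [← smul_smul, ← hc, smul_smul, inv_mul_cancel₀ (pow_ne_zero _ hs), one_smul]
    rcases hr with rfl | rfl
    · exact hW ⟨_, by rw [pow_one] at hc'; exact hc'⟩
    · set e := (s ^ j)⁻¹ * c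
      have he : e • wM g = s • 1 := by rw [← h3, pow_succ, hc', Matrix.smul_mul, one_mul]
      have he0 : e ≠ 0 := by
        intro e0
        rw [e0, zero_smul] at hc'
        exact hdW (eq_zero_of_pow_eq_zero (n := 2) (by rw [← Matrix.det_pow, hc', Matrix.det_zero]))
      exact hW ⟨e⁻¹ * s, by rw [← smul_smul, ← he, smul_smul, inv_mul_cancel₀ he0, one_smul]⟩
  obtain ⟨u, hu⟩ := h.exists_conj_mem_r0 h9 hx
  have huZ : u * g ^ m * u⁻¹ ∉ zGrp h := by
    intro hz
    have e := Subgroup.mem_center_iff.1 (h.zGrp_le_center hz) u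
    rw [inv_mul_cancel_right, mul_right_inj] at e
    rw [e] at hz
    have e2 := (h.mem_Z_iff ht hgm).1 hz
    rw [(h.aM_wM_pow ht hg m).2] at e2
    exact hns _ e2
  have h1 := h.invol_comm hu huZ (u := u * t * u⁻¹) (Commute.map hgm.symm (MulAut.conj u).toMonoidHom)
    (by rw [show u * t * u⁻¹ * (u * t * u⁻¹) = u * (t * t) * u⁻¹ by group, h.t_sq ht]; group)
  exact h.t_ne ht (conj_eq_one_iff.1 h1)

end Amb

/-- the central element of the centraliser modulo scalars on the axis -/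
structure Setup (h : Amb H p ω) where
  t : H
  q : H
  f : H
  E : Matrix (Fin 2) (Fin 2) F
  ht : mt t = tM
  hq : mt q * bL = bL * blk 1 E
  hf : Commute f t
  fa : aM f = 1
  fanti : wM f * E = -(E * wM f)
  E01 : E 0 1 ≠ 0
  EE : E * E = -1
  Etr : E.trace = 0
  pc : ∀ g : H, Commute g t → ∃ c : F, wM g * E = c • (E * wM g)

namespace Amb

variable (h : Amb H p ω)
include h

theorem exists_setup (h9 : p % 9 ≠ 8) : Nonempty (Setup h) := by
  have : Fact p.Prime := h.fact
  have : CharP F p := h.charP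
  have hG := planeGroup_pow_eq_one p h.noTr h.det_bL_ne
  obtain ⟨t, ht⟩ := h.exists_t
  obtain ⟨f, hf⟩ := h.memF.exists_mt
  obtain ⟨q, hq⟩ := h.memQ.exists_mt
  have ef : mt f * bL = bL * blk 1 (fW ω) := hf ▸ fM_bL h.root h.sub_sq
  have eq : mt q * bL = bL * blk 1 (qW ω) := hq ▸ qM_bL h.root h.sub_sq
  have eP : mt (f * q) * bL = bL * blk 1 (fW ω * qW ω) := by
    rw [mt_mul, Matrix.mul_assoc, eq, ← Matrix.mul_assoc, ef, Matrix.mul_assoc, blk_mul, one_mul]
  have hft := h.comm_of_blk ht ef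
  have hqt := h.comm_of_blk ht eq
  obtain ⟨a, ha, ea⟩ := mem_planeGroup_of_mem h.det_bL_ne h.memF (fM_bL h.root h.sub_sq)
  obtain ⟨b, hb, eb⟩ := mem_planeGroup_of_mem h.det_bL_ne h.memQ (qM_bL h.root h.sub_sq)
  have hsr := h.sr_ne
  have hsq := h.sr_sq
  have h2 := h.two
  have h3 := h.three
  have hr := h.root
  have hne := h.root_ne_one
  have ea2 : fW ω * fW ω = (-1 : M2) := by
    ext i j; fin_cases i <;> fin_cases j <;> simp [fW, Matrix.mul_apply, Fin.sum_univ_two]
    all_goals grind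
  have eb2 : qW ω * qW ω = (-1 : M2) := by
    ext i j; fin_cases i <;> fin_cases j <;> simp [qW, Matrix.mul_apply, Fin.sum_univ_two]
    all_goals grind
  have eab : fW ω * qW ω = -(qW ω * fW ω) := by
    ext i j; fin_cases i <;> fin_cases j <;> simp [fW, qW, Matrix.mul_apply, Fin.sum_univ_two]
    all_goals grind
  have a01 : fW ω 0 1 ≠ 0 := by simp [fW, hsr, h2]
  have b01 : qW ω 0 1 ≠ 0 := by simp [qW, hsr, h2, h.root_ne_zero]
  have ab01 : (fW ω * qW ω) 0 1 ≠ 0 := by
    simp [fW, qW, Matrix.mul_apply, Fin.sum_univ_two]; grind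
  have ab2 : fW ω * qW ω * (fW ω * qW ω) = (-1 : M2) := by
    rw [Matrix.mul_assoc, ← Matrix.mul_assoc (qW ω), ← neg_neg (qW ω * fW ω), ← eab, neg_mul, mul_neg,
      Matrix.mul_assoc (fW ω), eb2, ← Matrix.mul_assoc, ea2]
    simp
  have ns : ∀ {M : M2}, M 0 1 ≠ 0 → ¬ Scal M := by
    rintro M hM ⟨c, rfl⟩
    simp at hM
  have lift : ∀ g : H, Commute g t → ∃ z : GL (Fin 2) F, z ∈ planeGroup H (bL : M3) ∧ (z : M2) = wM g := fun g hg =>
    mem_planeGroup_of_mem h.det_bL_ne (mem_mt g) (h.blk_of_comm ht hg)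
  have hD : Dihedralish (planeGroup H (bL : M3)) := by
    rcases shapes p h.two_ne _ hG with hD | ⟨-, ⟨z, hz, hz1, s, hz3⟩, -⟩ | ⟨-, ⟨z, hz, hz1, s, hz3⟩, -⟩
    · exact hD
    all_goals
      exfalso
      obtain ⟨c, -, u, hu, eu⟩ := mem_planeGroup.1 hz
      have eu' : mt (⟨u, hu⟩ : H) * bL = bL * blk c (z : M2) := eu
      obtain ⟨-, ew⟩ := h.of_blk eu'
      rw [← ew] at hz1
      rw [Units.val_pow_eq_pow_val, ← ew] at hz3
      exact h.no_three h9 ht (h.comm_of_blk ht eu') hz1 hz3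
  have pcs : ∀ z : GL (Fin 2) F, (∀ y ∈ planeGroup H (bL : M3), PC y z) → ∀ g : H, Commute g t →
      ∃ c : F, wM g * (z : M2) = c • ((z : M2) * wM g) := fun z hz g hg => by
    obtain ⟨y, hy, ey⟩ := lift g hg
    exact ey ▸ hz y hy
  rcases hD.2 a ha b hb ⟨-1, by rw [Units.val_mul, ea, ea2]; simp⟩ ⟨-1, by rw [Units.val_mul, eb, eb2]; simp⟩
      (by rw [ea]; exact ns a01) (by rw [eb]; exact ns b01) ⟨-1, by rw [ea, eb, eab]; simp⟩
      (by rw [Units.val_mul, ea, eb]; exact ns ab01) with hc | hc | hc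
  · refine ⟨⟨t, f, q, fW ω, ht, ef, hqt, (h.of_blk eq).1, ?_, a01, ea2, ?_, ea ▸ pcs a hc⟩⟩
    · rw [(h.of_blk eq).2, eab, neg_neg]
    · simp [fW, Matrix.trace_fin_two]
  · refine ⟨⟨t, q, f, qW ω, ht, eq, hft, (h.of_blk ef).1, ?_, b01, eb2, ?_, eb ▸ pcs b hc⟩⟩
    · rw [(h.of_blk ef).2, eab]
    · simp [qW, Matrix.trace_fin_two]
  · refine ⟨⟨t, f * q, f, fW ω * qW ω, ht, eP, hft, (h.of_blk ef).1, ?_, ab01, ab2, ?_, ?_⟩⟩
    · rw [(h.of_blk ef).2, Matrix.mul_assoc, ← neg_neg (qW ω * fW ω), ← eab, mul_neg, neg_neg]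
    · simp [fW, qW, Matrix.trace_fin_two, Matrix.mul_apply, Fin.sum_univ_two]; grind
    · have := pcs (a * b) hc
      rwa [Units.val_mul, ea, eb] at this

/-- **The cubes of the entries of a diagonal element are trivial.** -/
theorem diag_cube (h9 : p % 9 ≠ 8) {a b c : F} (hM : Mem H (dg a b c)) : a ^ 3 = b ^ 3 ∧ b ^ 3 = c ^ 3 := by
  obtain ⟨S⟩ := h.exists_setup h9
  have conjY : ∀ {a b c : F}, Mem H (dg a b c) → Mem H (dg c a b) := fun {a b c} hd =>
    yM_conj a b c ▸ (h.memY.mul hd).mul (h.memY.mul h.memY)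
  have main : ∀ a b c : F, Mem H (dg a b c) → a ^ 3 = 1 := by
    intro a b c hM
    have hd := h.det_eq hM
    rw [det_dg] at hd
    have hK : Mem H (dg (a * a) (b * c) (b * c)) := by
      have := hM.mul (tM_conj a b c ▸ (h.memT.mul hM).mul h.memT)
      rwa [dg_mul, mul_comm c b] at this
    set u := a * a with hu
    set v := b * c with hv
    have huv : u * v * v = 1 := by rw [hu, hv]; linear_combination (a * b * c + 1) * hd
    obtain ⟨k, hk⟩ := hK.exists_mt
    have ek : mt k * bL = bL * blk v !![u, 0; 0, v] := by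
      rw [hk]
      ext i j
      fin_cases i <;> fin_cases j <;> simp [dg, bL, blk, Matrix.mul_apply, Fin.sum_univ_three]
    have hkt := h.comm_of_blk S.ht ek
    obtain ⟨ν, hν⟩ := S.pc k hkt
    rw [(h.of_blk ek).2] at hν
    have e01 := congrFun (congrFun hν 0) 1
    have e10 := congrFun (congrFun hν 1) 0
    have e00 := congrFun (congrFun hν 0) 0
    have eE := congrFun (congrFun S.EE 0) 0
    simp [Matrix.mul_apply, Fin.sum_univ_two] at e01 e10 e00 eE
    have hu0 : u ≠ 0 := left_ne_zero_of_mul (left_ne_zero_of_mul_eq_one huv)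
    have hv0 : v ≠ 0 := right_ne_zero_of_mul_eq_one huv
    have hνv : u = ν * v := mul_right_cancel₀ S.E01 (by linear_combination e01)
    have huu : (u - v) * (u + v) = 0 := by
      by_cases h10 : S.E 1 0 = 0
      · have hE0 : S.E 0 0 ≠ 0 := fun e0 => by rw [e0, h10] at eE; simp at eE
        have : ν = 1 := mul_right_cancel₀ (mul_ne_zero hu0 hE0) (by linear_combination -e00)
        rw [hνv, this, one_mul, sub_self, zero_mul]
      · have : v = ν * u := mul_right_cancel₀ h10 (by linear_combination e10)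
        linear_combination u * hνv - v * this
    have hv3 : v ^ 3 = 1 := by
      rcases mul_eq_zero.1 huu with e | e
      · linear_combination huv - v * v * e
      · exfalso
        refine h.no_sign ?_
        have h3 := (hK.mul hK).mul hK
        rw [dg_mul, dg_mul] at h3
        convert h3 using 2
        all_goals grind
    linear_combination -hv3 * a ^ 3 + ((a * b * c) ^ 2 + a * b * c + 1) * hd
  have ha := main a b c hM
  have hb := main b c a (conjY (conjY hM))
  have hc := main c a b (conjY hM)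
  exact ⟨by rw [ha, hb], by rw [hb, hc]⟩

/-- commuting with the diagonal generator up to a scalar -/
theorem isR0_of_comm_xM (h9 : p % 9 ≠ 8) {M : M3} (hM : Mem H M) {ν : F} (e : M * xM ω = ν • (xM ω * M)) :
    IsR0 ω M := by
  obtain ⟨n, a, b, c, rfl, hD⟩ := h.monomial_of_comm_xM hM e
  obtain ⟨hab, hbc⟩ := h.diag_cube h9 hD
  exact h.isR0_mul (h.isR0_of_diag h9 hD hab hbc) (h.isR0_pow h.isR0_yM n)

/-- the comparison of two conjugates of `X` -/
theorem mem_normalizer_of_semiconj (h9 : p % 9 ≠ 8) {g : H} {j k j' k' : Fin 3} (hjk : ¬ (j = 0 ∧ k = 0))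
    (hjk' : ¬ (j' = 0 ∧ k' = 0)) {d : F}
    (e : mt g * (xM ω ^ (j : ℕ) * yM ^ (k : ℕ)) = d • (xM ω ^ (j' : ℕ) * yM ^ (k' : ℕ) * mt g)) :
    ∃ a b r : H, a ∈ Subgroup.normalizer (r0Grp h : Set H) ∧ b ∈ Subgroup.normalizer (r0Grp h : Set H) ∧
      r ∈ r0Grp h ∧ g = b * r * a⁻¹ ∧ (j = j' → k = k' → a = b) := by
  obtain ⟨a, ha, c, hc0, hc⟩ := h.exists_to_xM_grp hjk
  obtain ⟨b, hb, hbj, c', hc0', hc'⟩ : ∃ b : H, b ∈ Subgroup.normalizer (r0Grp h : Set H) ∧
      (j = j' → k = k' → a = b) ∧ ∃ c' : F, c' ≠ 0 ∧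
        mt b * xM ω = c' • (xM ω ^ (j' : ℕ) * yM ^ (k' : ℕ) * mt b) := by
    by_cases hh : j = j' ∧ k = k'
    · exact ⟨a, ha, fun _ _ => rfl, c, hc0, by rw [← hh.1, ← hh.2]; exact hc⟩
    · obtain ⟨b, hb, r⟩ := h.exists_to_xM_grp hjk'
      exact ⟨b, hb, fun e1 e2 => absurd ⟨e1, e2⟩ hh, r⟩
  have hd' : c'⁻¹ • (mt b * xM ω) = xM ω ^ (j' : ℕ) * yM ^ (k' : ℕ) * mt b := by
    rw [hc', smul_smul, inv_mul_cancel₀ hc0', one_smul]
  have hsplit : xM ω ^ (j' : ℕ) * yM ^ (k' : ℕ) = c'⁻¹ • (mt b * xM ω * mt b⁻¹) := by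
    rw [← Matrix.smul_mul, hd', Matrix.mul_assoc, mt_mul_inv, mul_one]
  have key : mt (b⁻¹ * g * a) * xM ω = (c * d * c'⁻¹) • (xM ω * mt (b⁻¹ * g * a)) := by
    calc mt (b⁻¹ * g * a) * xM ω
        = c • (mt b⁻¹ * (mt g * (xM ω ^ (j : ℕ) * yM ^ (k : ℕ))) * mt a) := by
          rw [mt_mul, mt_mul, Matrix.mul_assoc, hc, Matrix.mul_smul]
          simp only [Matrix.mul_assoc]
      _ = (c * d) • (mt b⁻¹ * (xM ω ^ (j' : ℕ) * yM ^ (k' : ℕ)) * (mt g * mt a)) := by
          rw [e, Matrix.mul_smul, Matrix.smul_mul, smul_smul]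
          simp only [Matrix.mul_assoc]
      _ = (c * d * c'⁻¹) • (xM ω * mt (b⁻¹ * g * a)) := by
          rw [hsplit, Matrix.mul_smul, Matrix.smul_mul, smul_smul, mt_mul, mt_mul]
          simp only [← Matrix.mul_assoc]
          rw [mt_inv_mul, one_mul]
  refine ⟨a, b, b⁻¹ * g * a, ha, hb, h.mem_r0Grp.2 (h.isR0_of_comm_xM h9 (mem_mt _) key), by group, hbj⟩

theorem ti (h9 : p % 9 ≠ 8) : ∀ g : H, ∀ x ∈ r0Grp h, x ∉ zGrp h → g * x * g⁻¹ ∈ r0Grp h →
    g ∈ Subgroup.normalizer (r0Grp h : Set H) := by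
  intro g x hx hxZ hy
  have hyZ : g * x * g⁻¹ ∉ zGrp h := fun hz => hxZ (by
    have := Subgroup.mem_center_iff.1 (h.zGrp_le_center hz) g
    rw [inv_mul_cancel_right, mul_right_inj] at this
    rwa [this] at hz)
  obtain ⟨j, k, c, hjk, hc, ex⟩ := h.exists_param hx hxZ
  obtain ⟨j', k', c', hjk', -, ey⟩ := h.exists_param hy hyZ
  have e : mt g * (xM ω ^ (j : ℕ) * yM ^ (k : ℕ)) =
      (c⁻¹ * c') • (xM ω ^ (j' : ℕ) * yM ^ (k' : ℕ) * mt g) := by
    rw [← smul_smul, ← Matrix.smul_mul c', ← ey, mt_conj, ex, Matrix.mul_smul, smul_smul, inv_mul_cancel₀ hc,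
      one_smul]
  obtain ⟨a, b, r, ha, hb, hr, rfl, -⟩ := h.mem_normalizer_of_semiconj h9 hjk hjk' e
  exact mul_mem (mul_mem hb (Subgroup.le_normalizer hr)) (inv_mem ha)

theorem centR (h9 : p % 9 ≠ 8) : ∀ x ∈ r0Grp h, x ∉ zGrp h → ∀ g : H, Commute g x → g ∈ r0Grp h := by
  intro x hx hxZ g hg
  obtain ⟨j, k, c, hjk, hc, ex⟩ := h.exists_param hx hxZ
  have e : mt g * (xM ω ^ (j : ℕ) * yM ^ (k : ℕ)) = (1 : F) • (xM ω ^ (j : ℕ) * yM ^ (k : ℕ) * mt g) := by
    have e := congrArg mt hg.eq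
    rw [mt_mul, mt_mul, ex, Matrix.mul_smul, Matrix.smul_mul] at e
    rw [one_smul]
    exact smul_right_injective M3 hc e
  obtain ⟨a, b, r, ha, hb, hr, rfl, hab⟩ := h.mem_normalizer_of_semiconj h9 hjk hjk e
  rw [← hab rfl rfl] at *
  exact (Subgroup.mem_normalizer_iff.1 ha r).1 hr

/-- **The ratio at the point of the involution is a sign.** -/
theorem scalarW (h9 : p % 9 ≠ 8) {g t : H} (ht : mt t = tM) (hg : Commute g t) {c : F} (hW : wM g = c • 1) :
    aM g * aM g = c * c := by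
  haveI := h.fact
  haveI := h.charP
  have hd := h.det_wM ht hg
  rw [hW, Matrix.det_smul, Fintype.card_fin, Matrix.det_one, mul_one] at hd
  have hc0 : c ≠ 0 := by rintro rfl; simp at hd
  have ha0 : aM g ≠ 0 := left_ne_zero_of_mul_eq_one hd
  set v : F := aM g / c with hv
  have hv0 : v ≠ 0 := div_ne_zero ha0 hc0
  suffices hvv : v * v = 1 by
    rw [hv, div_mul_div_comm, div_eq_one_iff_eq (mul_ne_zero hc0 hc0)] at hvv
    exact hvv
  by_contra hvv
  have hv3 : v ^ 3 ≠ 1 := by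
    intro e
    have hvc : v * c ^ 3 = 1 := by rw [hv]; field_simp; linear_combination hd
    have h3 : c ^ 3 = 1 := h.cube_of_ninth h9 (by linear_combination (-(c ^ 9)) * e + ((v * c ^ 3) ^ 2 + v * c ^ 3 + 1) * hvc)
    rw [h3, mul_one] at hvc
    exact hvv (by rw [hvc, mul_one])
  set P : Fin 3 → F := ![0, 1, -1] with hP
  set φ : Fin 3 → F := ![0, 1 / 2, -(1 / 2)] with hφ
  have hM : Mem H (hom c v P φ) := by
    have e := h.blk_of_comm ht hg
    rw [hW, h.blk_smul_one _ _ hc0] at e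
    have := congrArg (fun M => M * (bL : M3)⁻¹) e
    simp only [Matrix.mul_assoc, Matrix.mul_nonsing_inv _ h.bL_unit, mul_one] at this
    exact this ▸ mem_mt g
  set P' : Fin 3 → F := ![0, ω, -ω ^ 2] with hP'
  set φ' : Fin 3 → F := ![0, ω ^ 2 / 2, -(ω / 2)] with hφ'
  have hM' : Mem H (hom c v P' φ') := by
    have h1 := (h.memX.mul hM).mul (h.memX.pow 2)
    convert h1 using 1
    rw [xM_pow, hom, hom, Matrix.mul_smul, Matrix.smul_mul]
    congr 1
    have hcube := h.cube
    rw [mul_add, mul_one, add_mul, Matrix.mul_smul, Matrix.smul_mul, Matrix.mul_vecMulVec, Matrix.vecMulVec_mul]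
    congr 1
    · rw [xM, dg_mul, ← dg_one]
      congr 1
      · rw [one_mul]
      · linear_combination -hcube
      · linear_combination -(ω ^ 3 + 1) * hcube
    · congr 2 <;> funext i <;> fin_cases i <;>
        simp [P, φ, P', φ', xM, dg, Matrix.mulVec, Matrix.vecMul, dotProduct, Fin.sum_univ_three] <;> grind
  have h2 := h.two
  have h3 := h.three
  have hτ : (φ ⬝ᵥ P') * (φ' ⬝ᵥ P) = 1 / 4 := by
    have hr := h.root
    simp [P, φ, P', φ', dotProduct, Fin.sum_univ_three]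
    grind
  have h4 : (4 : F) ≠ 0 := by exact_mod_cast h.nat_ne 4 (by norm_num) (by decide +kernel)
  have hc := pair_tau p h.two_ne h.noTr hM hM' hc0 hc0 hvv hv0
    (by simp [P, φ, dotProduct, Fin.sum_univ_three]; field_simp; ring)
    (by have hcube := h.cube
        simp [P', φ', dotProduct, Fin.sum_univ_three]; field_simp; linear_combination 2 * hcube)
    (by rw [hτ]; exact div_ne_zero one_ne_zero h4)
    (by rw [hτ]; intro e; rw [div_eq_one_iff_eq h4] at e; exact h3 (by linear_combination -e))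
  rw [hτ] at hc
  rcases hc with ⟨hk, ht', -⟩ | ⟨hk, ht', ht''⟩
  · have hv4 : v ^ 4 = 1 := hk.resolve_left hv3
    have hw : v + v⁻¹ = 0 := by
      have : (v * v - 1) * (v ^ 2 + 1) = 0 := by linear_combination hv4
      have hv2 := (mul_eq_zero.1 this).resolve_left (sub_ne_zero.2 hvv)
      field_simp
      linear_combination hv2
    rw [hw, zero_add, sub_zero, mul_one_div] at ht'
    rcases ht' with e | e | e
    · exact div_ne_zero h2 h4 e
    · field_simp at e
      exact h.nat_ne 12 (by norm_num) (by decide +kernel) (by push_cast; linear_combination -e)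
    · field_simp at e
      have h28 : (28 : F) ≠ 0 := by exact_mod_cast h.nat_ne 28 (by norm_num) (by decide +kernel)
      exact h28 (by grind)
  · have hv5 : v ^ 5 = 1 := hk.resolve_left hv3
    have hv1 : v ≠ 1 := fun e => hvv (by rw [e, mul_one])
    set w : F := v + v⁻¹ with hwdef
    have hw : w ^ 2 + w - 1 = 0 := by
      have : (v - 1) * (v ^ 4 + v ^ 3 + v ^ 2 + v + 1) = 0 := by linear_combination hv5
      have := (mul_eq_zero.1 this).resolve_left (sub_ne_zero.2 hv1)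
      rw [hwdef]
      field_simp
      linear_combination this
    rw [show w + (2 - w) * (1 / 4) = (3 * w + 2) / 4 by field_simp; ring] at ht'
    rw [show 2 + (w - 2) * (1 / 4) = (w + 6) / 4 by field_simp; ring] at ht''
    obtain ⟨T, hT, hTdef⟩ : ∃ T, 4 * T = w + 6 ∧ T = (w + 6) / 4 := ⟨_, mul_div_cancel₀ _ h4, rfl⟩
    rw [← hTdef] at ht''
    have h5 : (5 : F) ≠ 0 := by exact_mod_cast h.nat_ne 5 (by norm_num) (by decide +kernel)
    have h7 : (7 : F) ≠ 0 := by exact_mod_cast h.nat_ne 7 (by norm_num) (by decide +kernel)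
    rcases ht' with e | e | e
    · have k : 3 * w + 2 = 0 := (div_eq_zero_iff.1 e).resolve_right h4
      have k0 : (11 : F) = 0 := by linear_combination -9 * hw + (3 * w + 1) * k
      have hT5 : T = 5 := by linear_combination 3 * hT + 3 * (4 * k - (w + 1) * k0) - (T - 2) * k0
      rw [hT5] at ht''
      rcases ht'' with e' | e' | e'
      · exact h5 e'
      · exact h2 (by linear_combination e' - 2 * k0)
      · exact one_ne_zero (α := F) (by linear_combination e' - 50 * k0)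
    · field_simp at e
      have k : (3 : F) * (w - 1) = 0 := by linear_combination e - 9 * hw
      have k1 := (mul_eq_zero.1 k).resolve_left h3
      exact one_ne_zero (α := F) (by linear_combination hw - (w + 2) * k1)
    · have e1 : (3 * w + 2) ^ 4 - 48 * (3 * w + 2) ^ 2 + 256 = 0 := by
        field_simp at e
        linear_combination e
      have k : (5 : F) * (15 * w + 38) = 0 := by
        linear_combination -e1 + (54 * w - 189 + 81 * (w ^ 2 + w - 1)) * hw
      have k1 := (mul_eq_zero.1 k).resolve_left h5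
      have k0 : (649 : F) = 0 := by linear_combination 225 * hw - (15 * w - 23) * k1
      have hT15 : 15 * T = 13 := mul_left_cancel₀ h4 (by linear_combination 15 * hT + k1)
      rcases ht'' with e' | e' | e'
      · exact one_ne_zero (α := F) (by linear_combination 50 * (15 * e' - hT15) - k0)
      · exact one_ne_zero (α := F) (by linear_combination -197 * (-225 * e' + (15 * T + 13) * hT15) + 17 * k0)
      · exact one_ne_zero (α := F) (by linear_combination 62 * (-50625 * e' + ((15 * T) ^ 2 - 506) * (15 * T + 13) * hT15) - 3333 * k0)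

theorem mem_Z_or {g t : H} (h9 : p % 9 ≠ 8) (ht : mt t = tM) (hg : Commute g t) {c : F} (hW : wM g = c • 1) :
    g ∈ zGrp h ∨ t * g ∈ zGrp h := by
  rcases mul_self_eq_mul_self_iff.1 (h.scalarW h9 ht hg hW) with e | e
  · exact Or.inl ((h.mem_Z_iff ht hg).2 (by rw [hW, e]))
  · refine Or.inr ((h.mem_Z_iff ht ((Commute.refl t).mul_left hg)).2 ?_)
    obtain ⟨ea, ew⟩ := h.of_blk (h.t_blk ht)
    obtain ⟨ea', ew'⟩ := h.aM_wM_mul ht (Commute.refl t) hg
    rw [ea', ew', ea, ew, hW, e, one_mul, neg_one_mul, neg_smul]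

end Amb

namespace Setup

variable {h : Amb H p ω} (S : Setup h)

theorem detE : S.E.det = 1 := by
  have := congrFun (congrFun ((sq_trace S.E).symm.trans S.EE) 0) 0
  simp [S.Etr] at this
  exact this

theorem q_a : aM S.q = 1 := (h.of_blk S.hq).1

theorem q_w : wM S.q = S.E := (h.of_blk S.hq).2

theorem qq : S.q * S.q = S.t := h.eq_of_blk
  (by rw [mt_mul, Matrix.mul_assoc, S.hq, ← Matrix.mul_assoc, S.hq, Matrix.mul_assoc, blk_mul, one_mul, S.EE])
  (h.t_blk S.ht)

theorem qt : Commute S.q S.t := h.comm_of_blk S.ht S.hq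

/-- the centraliser of the central element -/
def C : Subgroup H := Subgroup.centralizer {S.q}

theorem mem_C {g : H} : g ∈ S.C ↔ Commute g S.q := Subgroup.mem_centralizer_singleton_iff

theorem C_comm_t {g : H} (hg : g ∈ S.C) : Commute g S.t := S.qq ▸ (S.mem_C.1 hg).mul_right (S.mem_C.1 hg)

theorem mem_C_iff {g : H} (hg : Commute g S.t) : g ∈ S.C ↔ wM g * S.E = S.E * wM g := by
  rw [S.mem_C]
  constructor
  · intro e
    have := congrArg wM e.eq
    rwa [(h.aM_wM_mul S.ht hg S.qt).2, (h.aM_wM_mul S.ht S.qt hg).2, S.q_w] at this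
  · intro e
    refine h.eq_of_wM S.ht (hg.mul_left S.qt) (S.qt.mul_left hg) ?_
    rw [(h.aM_wM_mul S.ht hg S.qt).2, (h.aM_wM_mul S.ht S.qt hg).2, S.q_w, e]

theorem det_W_ne {g : H} (hg : Commute g S.t) : (wM g).det ≠ 0 := right_ne_zero_of_mul_eq_one (h.det_wM S.ht hg)

theorem anti_W {g : H} (hg : Commute g S.t) (hC : g ∉ S.C) : wM g * S.E = -(S.E * wM g) := by
  obtain ⟨c, hc⟩ := S.pc g hg
  have hd := congrArg Matrix.det hc
  rw [Matrix.det_smul, Fintype.card_fin, Matrix.det_mul, Matrix.det_mul, S.detE, mul_one, one_mul] at hd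
  have hc2 : c * c = 1 := mul_right_cancel₀ (S.det_W_ne hg) (by rw [one_mul]; linear_combination -hd)
  rcases mul_self_eq_one_iff.1 hc2 with rfl | rfl
  · exact absurd ((S.mem_C_iff hg).2 (by rw [hc, one_smul])) hC
  · rw [hc, neg_one_smul]

theorem not_C_of_anti {g : H} (hg : Commute g S.t) (e : wM g * S.E = -(S.E * wM g)) : g ∉ S.C := fun hC => by
  rw [(S.mem_C_iff hg).1 hC, eq_neg_iff_add_eq_zero, ← two_smul F, smul_eq_zero] at e
  have := congrArg Matrix.det (e.resolve_left h.two)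
  rw [Matrix.det_mul, S.detE, one_mul, Matrix.det_zero] at this
  exact S.det_W_ne hg this

theorem trace_anti {g : H} (hg : Commute g S.t) (hC : g ∉ S.C) : (wM g).trace = 0 := by
  have e := congrFun (congrFun (S.anti_W hg hC) 0) 1
  have ht := S.Etr
  rw [Matrix.trace_fin_two] at ht ⊢
  simp [Matrix.mul_apply, Fin.sum_univ_two] at e
  refine mul_left_cancel₀ S.E01 ?_
  linear_combination e - wM g 0 1 * ht

theorem mul_anti {g g' : H} (hg : Commute g S.t) (hC : g ∉ S.C) (hg' : Commute g' S.t) (hC' : g' ∉ S.C) :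
    g * g' ∈ S.C := by
  rw [S.mem_C_iff (hg.mul_left hg'), (h.aM_wM_mul S.ht hg hg').2, Matrix.mul_assoc, S.anti_W hg' hC', mul_neg,
    ← Matrix.mul_assoc, S.anti_W hg hC, neg_mul, neg_neg, Matrix.mul_assoc]

theorem poly {g : H} (hg : g ∈ S.C) : ∃ α β : F, wM g = α • 1 + β • S.E := by
  have e := (S.mem_C_iff (S.C_comm_t hg)).1 hg
  have h01 := S.E01
  have e00 := congrFun (congrFun e 0) 0
  have e01 := congrFun (congrFun e 0) 1
  simp [Matrix.mul_apply, Fin.sum_univ_two] at e00 e01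
  refine ⟨wM g 0 0 - wM g 0 1 / S.E 0 1 * S.E 0 0, wM g 0 1 / S.E 0 1, ?_⟩
  ext i j
  fin_cases i <;> fin_cases j <;> simp
  all_goals field_simp
  all_goals grind

theorem Ccomm : ∀ a ∈ S.C, ∀ b ∈ S.C, Commute a b := by
  intro a ha b hb
  obtain ⟨α, β, ea⟩ := S.poly ha
  have eb := (S.mem_C_iff (S.C_comm_t hb)).1 hb
  refine h.eq_of_wM S.ht ((S.C_comm_t ha).mul_left (S.C_comm_t hb)) ((S.C_comm_t hb).mul_left (S.C_comm_t ha)) ?_
  rw [(h.aM_wM_mul S.ht (S.C_comm_t ha) (S.C_comm_t hb)).2, (h.aM_wM_mul S.ht (S.C_comm_t hb) (S.C_comm_t ha)).2, ea,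
    add_mul, mul_add, Matrix.smul_mul, one_mul, Matrix.mul_smul, mul_one, Matrix.smul_mul, Matrix.mul_smul, eb]

theorem C_six (h9 : p % 9 ≠ 8) {c : H} (hc : c ∈ S.C) : (aM c ^ 3) * (aM c ^ 3) = 1 := by
  obtain ⟨α, β, ec⟩ := S.poly hc
  have hct := S.C_comm_t hc
  have hg : Commute (S.f * c * S.f⁻¹) S.t := (S.hf.mul_left hct).mul_left S.hf.inv_left
  obtain ⟨a1, w1⟩ := h.aM_wM_mul S.ht S.hf hct
  have hinv : aM S.f⁻¹ = 1 ∧ wM S.f * wM S.f⁻¹ = 1 := by
    obtain ⟨a2, w2⟩ := h.aM_wM_mul S.ht S.hf S.hf.inv_left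
    obtain ⟨a0, w0⟩ := h.of_blk (g := (1 : H)) (a := 1) (W := 1) (by rw [mt_one, one_mul, blk_one, mul_one])
    rw [mul_inv_cancel] at a2 w2
    rw [a0, S.fa, one_mul] at a2
    exact ⟨a2.symm, w2.symm.trans w0⟩
  obtain ⟨a3, w3⟩ := h.aM_wM_mul S.ht (S.hf.mul_left hct) S.hf.inv_left
  have ew : wM (S.f * c * S.f⁻¹) = α • 1 - β • S.E := by
    rw [w3, w1, ec, mul_add, Matrix.mul_smul, Matrix.mul_smul, mul_one, S.fanti, add_mul, Matrix.smul_mul, hinv.2,
      Matrix.smul_mul, neg_mul, Matrix.mul_assoc, hinv.2, mul_one, smul_neg, ← sub_eq_add_neg]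
  have ea : aM (S.f * c * S.f⁻¹) = aM c := by rw [a3, a1, S.fa, hinv.1, one_mul, mul_one]
  obtain ⟨a4, w4⟩ := h.aM_wM_mul S.ht hct hg
  have hW : wM (c * (S.f * c * S.f⁻¹)) = (α * α + β * β) • 1 := by
    rw [w4, ew, ec, add_mul, mul_sub, mul_sub, Matrix.smul_mul, Matrix.smul_mul, Matrix.smul_mul, Matrix.smul_mul,
      one_mul, one_mul, Matrix.mul_smul, Matrix.mul_smul, mul_one, S.EE]
    module
  have hs := h.scalarW h9 S.ht (hct.mul_left hg) hW
  rw [a4, ea] at hs
  have hdet : (wM c).det = α * α + β * β := by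
    have ht := S.Etr
    have hd := S.detE
    rw [Matrix.trace_fin_two] at ht
    rw [Matrix.det_fin_two] at hd ⊢
    rw [ec]
    simp
    linear_combination α * β * ht + β * β * hd
  have h1 := h.det_wM S.ht hct
  rw [hdet] at h1
  linear_combination (aM c ^ 2) * hs + (aM c * (α * α + β * β) + 1) * h1

theorem Cinv (h9 : p % 9 ≠ 8) : ∀ c ∈ S.C, orderOf c = 2 → c = S.t := by
  intro c hc h2
  have hcc : c * c = 1 := by rw [← pow_two, ← h2, pow_orderOf_eq_one]
  have hct := S.C_comm_t hc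
  obtain ⟨α, β, ec⟩ := S.poly hc
  obtain ⟨a0, w0⟩ := h.of_blk (g := (1 : H)) (a := 1) (W := 1) (by rw [mt_one, one_mul, blk_one, mul_one])
  have e := (h.aM_wM_mul S.ht hct hct).2
  rw [hcc, w0, ec, add_mul, mul_add, mul_add, Matrix.smul_mul, Matrix.smul_mul, Matrix.smul_mul, Matrix.smul_mul,
    one_mul, one_mul, Matrix.mul_smul, Matrix.mul_smul, mul_one, S.EE] at e
  have e00 := congrFun (congrFun e 0) 0
  have e01 := congrFun (congrFun e 0) 1
  simp at e00 e01
  have hαβ : α * β = 0 := by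
    refine mul_right_cancel₀ (mul_ne_zero h.two S.E01) ?_
    linear_combination -e01
  rcases mul_eq_zero.1 hαβ with rfl | rfl
  · exfalso
    have hb : β * β = -1 := by simp at e00; linear_combination e00
    obtain ⟨aq, wq⟩ := h.aM_wM_mul S.ht hct S.qt
    have hW : wM (c * S.q) = (-β) • 1 := by
      rw [wq, S.q_w, ec, zero_smul, zero_add, Matrix.smul_mul, S.EE, smul_neg, neg_smul]
    have hs := h.scalarW h9 S.ht (hct.mul_left S.qt) hW
    rw [aq, S.q_a, mul_one] at hs
    have hd := h.det_wM S.ht hct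
    rw [ec, zero_smul, zero_add, Matrix.det_smul, Fintype.card_fin, S.detE, mul_one] at hd
    exact h.two (by linear_combination hs + hb - (aM c - 1) * (-hd + aM c * hb))
  · have hW : wM c = α • 1 := by rw [ec, zero_smul, add_zero]
    rcases h.mem_Z_or h9 S.ht hct hW with hz | hz
    · have := h.z_cube hz
      rw [pow_succ, pow_two, hcc, one_mul] at this
      simp [this] at h2
    · have h6 : (S.t * c) * (S.t * c) = 1 := by
        rw [hct.mul_mul_mul_comm, h.t_sq S.ht, hcc, one_mul]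
      have := h.z_cube hz
      rw [pow_succ, pow_two, h6, one_mul] at this
      rw [← inv_eq_of_mul_eq_one_right this, inv_eq_of_mul_eq_one_right (h.t_sq S.ht)]

theorem centC (h9 : p % 9 ≠ 8) : ∀ c ∈ S.C, c ∉ zGrp h → S.t * c ∉ zGrp h → ∀ g : H, Commute g c → g ∈ S.C := by
  intro c hc hcZ hctZ g hg
  have hct := S.C_comm_t hc
  obtain ⟨α, β, ec⟩ := S.poly hc
  have hβ : β ≠ 0 := by
    rintro rfl
    rcases h.mem_Z_or h9 S.ht hct (c := α) (by rw [ec, zero_smul, add_zero]) with hz | hz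
    · exact hcZ hz
    · exact hctZ hz
  have hdet : (wM c - aM c • 1).det ≠ 0 := by
    intro hd
    have h6 := S.C_six h9 hc
    have h1 := h.det_wM S.ht hct
    have ht := S.Etr
    have hE := S.detE
    rw [Matrix.trace_fin_two] at ht
    rw [ec, Matrix.det_fin_two] at hd h1
    rw [Matrix.det_fin_two] at hE
    simp at hd h1
    have e1 : (α - aM c) * (α - aM c) + β * β = 0 := by
      linear_combination hd - (α - aM c) * β * ht - β * β * hE
    have e2 : aM c * (α * α + β * β) = 1 := by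
      linear_combination h1 - aM c * α * β * ht - aM c * β * β * hE
    rcases mul_self_eq_one_iff.1 h6 with e3 | e3
    · have : α = aM c := by
        refine mul_left_cancel₀ (mul_ne_zero h.two (pow_ne_zero 2 (left_ne_zero_of_mul_eq_one e2))) ?_
        linear_combination (-aM c) * e1 + e2 - e3
      exact hβ (mul_self_eq_zero.1 (by rw [this, sub_self, zero_mul, zero_add] at e1; exact e1))
    · -- the cube is another involution
      have ha0 : aM c ≠ 0 := left_ne_zero_of_mul_eq_one e2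
      have hα : α = 0 := by
        refine mul_left_cancel₀ (mul_ne_zero h.two (pow_ne_zero 2 ha0)) ?_
        linear_combination (-aM c) * e1 + e2 + e3
      subst hα
      have hWW : wM c * wM c = (aM c * aM c) • 1 := by
        rw [ec, zero_smul, zero_add, Matrix.smul_mul, Matrix.mul_smul, smul_smul, S.EE, smul_neg, ← neg_smul]
        congr 1
        linear_combination -e1
      obtain ⟨a3, w3⟩ := h.aM_wM_pow S.ht hct 3
      have hne : c ^ 3 ≠ 1 := fun e => by
        obtain ⟨a0, -⟩ := h.of_blk (g := (1 : H)) (a := 1) (W := 1) (by rw [mt_one, one_mul, blk_one, mul_one])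
        rw [e, a0, e3] at a3
        exact h.two (by linear_combination a3)
      have h6' : (c ^ 3) ^ 2 = 1 := by
        have hz : c ^ 2 ∈ zGrp h := (h.mem_Z_iff S.ht (hct.pow_left 2)).2 (by
          rw [(h.aM_wM_pow S.ht hct 2).1, (h.aM_wM_pow S.ht hct 2).2, pow_two, hWW, pow_two])
        rw [← pow_mul, show 3 * 2 = 2 * 3 from rfl, pow_mul, h.z_cube hz]
      have := S.Cinv h9 _ (pow_mem hc 3) (orderOf_eq_prime h6' hne)
      have hw := (h.of_blk (h.t_blk S.ht)).2
      rw [← this, w3, pow_succ, pow_two, hWW, Matrix.smul_mul, one_mul, ec, zero_smul, zero_add, smul_smul] at hw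
      have e01 := congrFun (congrFun hw 0) 1
      simp [S.E01, hβ, ha0] at e01
  have hN : nMat (mt g) * blk (aM c) (wM c) = blk (aM c) (wM c) * nMat (mt g) := by
    have e := congrArg mt hg.eq
    rw [mt_mul, mt_mul] at e
    have hn : nMat (mt c) = blk (aM c) (wM c) := h.nMat_of_blk (h.blk_of_comm S.ht hct)
    have key : ∀ M N : M3, nMat M * nMat N = nMat (M * N) := fun M N => by
      rw [nMat, nMat, nMat]
      simp only [Matrix.mul_assoc]
      rw [← Matrix.mul_assoc (bL : M3), Matrix.mul_nonsing_inv _ h.bL_unit, one_mul]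
    rw [← hn, key, key, e]
  have z1 := congrFun (congrFun hN 0) 1
  have z2 := congrFun (congrFun hN 0) 2
  have z3 := congrFun (congrFun hN 1) 0
  have z4 := congrFun (congrFun hN 2) 0
  simp [blk, Matrix.mul_apply, Fin.sum_univ_three] at z1 z2 z3 z4
  rw [Matrix.det_fin_two] at hdet
  simp at hdet
  have n01 : nMat (mt g) 0 1 = 0 := by grind
  have n02 : nMat (mt g) 0 2 = 0 := by grind
  have n10 : nMat (mt g) 1 0 = 0 := by grind
  have n20 : nMat (mt g) 2 0 = 0 := by grind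
  have e : mt g * bL = bL * blk (aM g) (wM g) := by
    rw [← h.bL_nMat]
    congr 1
    ext i j
    fin_cases i <;> fin_cases j <;> simp [blk, aM, wM, n01, n02, n10, n20]
  have hgt := h.comm_of_blk S.ht e
  refine (S.mem_C_iff hgt).2 ?_
  have e' := congrArg wM hg.eq
  rw [(h.aM_wM_mul S.ht hgt hct).2, (h.aM_wM_mul S.ht hct hgt).2, ec, mul_add, add_mul, Matrix.mul_smul, mul_one,
    Matrix.mul_smul, Matrix.smul_mul, one_mul, Matrix.smul_mul, add_right_inj] at e'
  exact smul_right_injective M2 hβ e'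

theorem anti : ∀ g : H, Commute g S.t → g ∉ S.C → g * S.q * g⁻¹ = S.q⁻¹ := by
  intro g hg hC
  have hinv : wM S.q⁻¹ = -S.E := by
    refine (h.of_blk (a := 1) ?_).2
    have e : mt S.q * (bL * blk 1 (-S.E)) = bL := by
      rw [← Matrix.mul_assoc, S.hq, Matrix.mul_assoc, blk_mul, one_mul, mul_neg, S.EE, neg_neg, blk_one, mul_one]
    calc mt S.q⁻¹ * bL = mt S.q⁻¹ * (mt S.q * (bL * blk 1 (-S.E))) := by rw [e]
      _ = _ := by rw [← Matrix.mul_assoc, mt_inv_mul, one_mul]
  rw [mul_inv_eq_iff_eq_mul]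
  refine h.eq_of_wM S.ht (hg.mul_left S.qt) (S.qt.inv_left.mul_left hg) ?_
  rw [(h.aM_wM_mul S.ht hg S.qt).2, (h.aM_wM_mul S.ht S.qt.inv_left hg).2, S.q_w, hinv, S.anti_W hg hC, neg_mul]

theorem fix (h9 : p % 9 ≠ 8) : ∀ g : H, Commute g S.t → g ∉ S.C → ∀ c ∈ S.C, Commute g c →
    c ∈ zGrp h ∨ S.t * c ∈ zGrp h := by
  intro g hg hC c hc hgc
  obtain ⟨α, β, ec⟩ := S.poly hc
  have hct := S.C_comm_t hc
  have e := congrArg wM hgc.eq
  rw [(h.aM_wM_mul S.ht hg hct).2, (h.aM_wM_mul S.ht hct hg).2, ec, mul_add, add_mul, Matrix.mul_smul, mul_one,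
    Matrix.mul_smul, Matrix.smul_mul, one_mul, Matrix.smul_mul, add_right_inj, S.anti_W hg hC] at e
  have hβ : β = 0 := by
    by_contra hb
    have e' := smul_right_injective M2 hb e
    rw [neg_eq_iff_add_eq_zero, ← two_smul F, smul_eq_zero] at e'
    have := congrArg Matrix.det (e'.resolve_left h.two)
    rw [Matrix.det_mul, S.detE, one_mul, Matrix.det_zero] at this
    exact S.det_W_ne hg this
  exact h.mem_Z_or h9 S.ht hct (by rw [ec, hβ, zero_smul, add_zero])

theorem sq (h9 : p % 9 ≠ 8) {g : H} (hg : Commute g S.t) (hC : g ∉ S.C) :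
    (g * g ∈ zGrp h ↔ aM g ^ 3 = -1) ∧ (S.t * (g * g) ∈ zGrp h ↔ aM g ^ 3 = 1) ∧
      (g * g ∈ zGrp h ∨ S.t * (g * g) ∈ zGrp h) := by
  obtain ⟨a2, w2⟩ := h.aM_wM_mul S.ht hg hg
  rw [sq_trace, S.trace_anti hg hC, zero_smul, zero_sub, ← neg_smul] at w2
  have hd := h.det_wM S.ht hg
  have ha := left_ne_zero_of_mul_eq_one hd
  have hgg : Commute (g * g) S.t := hg.mul_left hg
  have inj : ∀ x y : F, x • (1 : M2) = y • 1 ↔ x = y := fun x y =>
    ⟨fun e => by simpa using congrFun (congrFun e 0) 0, fun e => by rw [e]⟩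
  refine ⟨?_, ?_, h.mem_Z_or h9 S.ht hgg w2⟩
  · rw [h.mem_Z_iff S.ht hgg, w2, a2, inj]
    exact ⟨fun e => by linear_combination -(aM g) * e - hd,
      fun e => mul_left_cancel₀ ha (by linear_combination -hd - e)⟩
  · obtain ⟨ea, ew⟩ := h.of_blk (h.t_blk S.ht)
    obtain ⟨a3, w3⟩ := h.aM_wM_mul S.ht (Commute.refl S.t) hgg
    rw [h.mem_Z_iff S.ht ((Commute.refl _).mul_left hgg), w3, a3, ea, ew, a2, w2, one_mul, neg_one_mul, ← neg_smul,
      neg_neg, inj]
    exact ⟨fun e => by linear_combination -(aM g) * e + hd,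
      fun e => mul_left_cancel₀ ha (by linear_combination hd - e)⟩

end Setup

end Cfsg.Agent.Forms.Max.SU3.SympType
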