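import Mathlib
import Cfsg.Agent.Lib.Forms.Max.SL3.SympType.Cent
import Cfsg.Agent.Lib.Forms.Max.SU3.SympType.Centre

/-!
# Centralisers of homologies without commuting involutions
-/

set_option autoImplicit false
set_option linter.unusedSectionVars false
set_option linter.style.haveILetI false

namespace Cfsg.Agent.Forms.Max.SU3.SympType

open Matrix
open Cfsg.Agent.Forms.Max.SL3.SympType hiding Amb r0Grp zGrp exists_proj shapes planeGroup_pow_eq_one pair_val
  pair_tau Setup

variable {F : Type*} [Field F] [Fintype F] {H : Subgroup (GL (Fin 3) F)} {p : ℕ} {ω : F}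

local notation "M3" => Matrix (Fin 3) (Fin 3) F
local notation "M2" => Matrix (Fin 2) (Fin 2) F
local notation "mt" => Cfsg.Agent.Forms.Max.SL3.SympType.mt

/-- In an odd order group of this kind all elements commute. -/
theorem commute_of_odd' (p : ℕ) [Fact p.Prime] [CharP F p] (hp2 : p ≠ 2) (G : Subgroup (GL (Fin 2) F))
    (hG : ∀ g ∈ G, g ^ p = 1 → g = 1) (hodd : ∀ g ∈ G, Odd (orderOf g)) {x y : GL (Fin 2) F} (hx : x ∈ G) (hy : y ∈ G) :
    x * y = y * x := by
  have half : ∀ z ∈ G, ∀ k : ℕ, Scal ((z ^ (2 * k) : GL (Fin 2) F) : M2) → Scal ((z ^ k : GL (Fin 2) F) : M2) := by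
    intro z hz k ⟨s, hs⟩
    obtain ⟨j, hj⟩ := hodd _ (pow_mem hz k)
    refine ⟨s ^ (j + 1), ?_⟩
    have e : ((z ^ k) ^ 2) ^ (j + 1) = z ^ k := by
      rw [← pow_mul, show 2 * (j + 1) = 2 * j + 1 + 1 by ring, pow_succ, ← hj, pow_orderOf_eq_one, one_mul]
    rw [← e, ← pow_mul z, mul_comm k 2, Units.val_pow_eq_pow_val, hs, smul_pow, one_pow]
  have hdih : Dihedralish G := by
    rcases shapes p hp2 G hG with h | ⟨-, -, z, hz, hz1, hz2⟩ | ⟨-, -, z, hz, hz1, hz2⟩
    · exact h
    all_goals exact absurd (by simpa using half z hz 1 (by simpa using hz2)) hz1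
  obtain ⟨c, hxy⟩ : PC x y := by
    by_cases hx1 : Scal ((x * x : GL (Fin 2) F) : M2)
    · obtain ⟨s, hs⟩ := half x hx 1 (by rwa [mul_one, pow_two])
      rw [pow_one] at hs
      exact ⟨1, by rw [one_smul, hs, Matrix.smul_mul, Matrix.mul_smul, one_mul, mul_one]⟩
    by_cases hy1 : Scal ((y * y : GL (Fin 2) F) : M2)
    · obtain ⟨s, hs⟩ := half y hy 1 (by rwa [mul_one, pow_two])
      rw [pow_one] at hs
      exact ⟨1, by rw [one_smul, hs, Matrix.smul_mul, Matrix.mul_smul, one_mul, mul_one]⟩
    exact hdih.1 x hx y hy hx1 hy1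
  set w := x * y * (y * x)⁻¹ with hw
  have hwc : (w : M2) = c • 1 := by
    rw [hw, Units.val_mul, Units.val_mul, hxy, Matrix.smul_mul, ← Units.val_mul y x, ← Units.val_mul,
      mul_inv_cancel, Units.val_one]
  have hdet : c * c = 1 := by
    have h1 : (w : M2).det = 1 := by
      rw [← Matrix.GeneralLinearGroup.val_det_apply, hw, map_mul, map_inv, map_mul, map_mul, mul_comm
        (Matrix.GeneralLinearGroup.det x), mul_inv_cancel, Units.val_one]
    rwa [hwc, Matrix.det_smul, Fintype.card_fin, Matrix.det_one, mul_one, sq] at h1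
  have hwG : w ∈ G := mul_mem (mul_mem hx hy) (inv_mem (mul_mem hy hx))
  have hw2 : w ^ 2 = 1 := Units.ext (by
    rw [Units.val_pow_eq_pow_val, hwc, smul_pow, one_pow, sq, hdet, one_smul, Units.val_one])
  rcases (Nat.dvd_prime Nat.prime_two).1 (orderOf_dvd_of_pow_eq_one hw2) with h | h
  · rwa [orderOf_eq_one_iff, hw, mul_inv_eq_one] at h
  · exact absurd (hodd w hwG) (by rw [h]; decide)

namespace Amb

variable (h : Amb H p ω)
include h

set_option maxHeartbeats 800000 in
/-- two commuting homologies with distinct centres give an element with distinct eigenvalues -/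
theorem small_of_commuting (z y : H) (hno : ∀ v : H, orderOf v = 2 → ¬ Commute v z) {a s : F} (hs : s ≠ 0)
    {u φ u' φ' : Fin 3 → F} (hu : φ ⬝ᵥ u = 1) (hu1 : φ' ⬝ᵥ u' = 1) (hc0 : φ ⬝ᵥ u' = 0) (hd0 : φ' ⬝ᵥ u = 0)
    (ez : mt z = a • 1 + s • vecMulVec u φ) (ey : mt y = a • 1 + s • vecMulVec u' φ') :
    Small (z * (y * y)) := by
  have hu0 : u ≠ 0 := by intro e0; rw [e0] at hu; simp at hu
  set c := φ ⬝ᵥ u' with hc
  set d := φ' ⬝ᵥ u with hd
  set E : M3 := vecMulVec u φ with hE
  set b := a + s with hb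
  have hdet : a * a * b = 1 := by
    have := h.det_eq (mem_mt z)
    rw [ez, hE, Matrix.det_fin_three] at this
    simp [dotProduct, Fin.sum_univ_three] at hu
    simp [Matrix.vecMulVec_apply] at this
    linear_combination this - s * a * a * hu
  have hab : b ≠ -a := by
    intro e
    have ha3 : a * a * a = -1 := by rw [e] at hdet; linear_combination -hdet
    have hs2 : s = -(2 * a) := by rw [hb] at e; linear_combination e
    have hsq : mt z * mt z = (a * a) • 1 := by
      rw [ez, hE]
      simp only [mul_add, add_mul, Matrix.smul_mul, Matrix.mul_smul, one_mul, mul_one,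
        Matrix.vecMulVec_mul_vecMulVec, hu, one_smul, hs2]
      module
    have h6 : (z ^ 3) ^ 2 = 1 := mt_inj (by
      rw [← pow_mul, show 3 * 2 = 2 * 3 from rfl, mt_pow, pow_mul, pow_two, hsq, smul_pow, one_pow, mt_one,
        show (a * a) ^ 3 = 1 by linear_combination (a * a * a - 1) * ha3, one_smul])
    have h3 : z ^ 3 ≠ 1 := by
      intro e3
      have h1 := congrArg mt e3
      rw [mt_pow, pow_succ, pow_two, hsq, Matrix.smul_mul, one_mul, ez, mt_one, smul_add, smul_smul, smul_smul,
        ha3, hE] at h1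
      have h2 := congrArg Matrix.trace h1
      rw [Matrix.trace_add, Matrix.trace_smul, Matrix.trace_smul, Matrix.trace_one, Matrix.trace_vecMulVec, hs2,
        dotProduct_comm, hu, Fintype.card_fin] at h2
      simp at h2
      have h4 : (4 : F) ≠ 0 := by exact_mod_cast h.nat_ne 4 (by norm_num) (by decide +kernel)
      exact h4 (by linear_combination -h2 - 2 * ha3)
    exact hno _ (orderOf_eq_prime h6 h3) ((Commute.refl z).pow_left 3)
  refine cent_distinct (RingHom.id F) _ (Matrix.of fun i j => (![u, u', crossProduct φ φ'] : Fin 3 → Fin 3 → F) j i) ?_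
    ![a * a * b, a * b * b, a * a * a] ?_ ?_
  · have e : c * d = 0 := by rw [hc0, zero_mul]
    have k : (φ ⬝ᵥ u) * (φ' ⬝ᵥ u') - c * d = 1 := by rw [hu, hu1, e]; ring
    rw [hc, hd] at k
    simp [dotProduct, Fin.sum_univ_three] at k
    rw [Matrix.det_fin_three]
    simp [cross_apply]
    intro e'
    exact one_ne_zero (α := F) (by linear_combination e' - k)
  · have ha : a ≠ 0 := fun e => by simp [e] at hdet
    have hbne : b ≠ 0 := fun e => by simp [e] at hdet
    have hba : b ≠ a := fun e => hs (by rw [hb] at e; linear_combination e)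
    have n01 : a * a * b ≠ a * b * b := fun e => hba (mul_left_cancel₀ (mul_ne_zero ha hbne)
      (show a * b * b = a * b * a by linear_combination -e))
    have n02 : a * a * b ≠ a * a * a := fun e => hba (mul_left_cancel₀ (mul_ne_zero ha ha) e)
    have n12 : a * b * b ≠ a * a * a := fun e => by
      have : a * ((b - a) * (b + a)) = 0 := by linear_combination e
      rcases mul_eq_zero.1 ((mul_eq_zero.1 this).resolve_left ha) with e0 | e0
      · exact hba (sub_eq_zero.1 e0)
      · exact hab (by linear_combination e0)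
    intro i j e
    fin_cases i <;> fin_cases j <;>
      first
        | rfl | exact absurd e n01 | exact absurd e n02 | exact absurd e n12 | exact absurd e.symm n01
        | exact absurd e.symm n02 | exact absurd e.symm n12
  · rw [RingHom.mapMatrix_apply, RingHom.coe_id, Matrix.map_id, mt_mul, mt_mul, ez, ey, hE]
    have hcr : φ ⬝ᵥ crossProduct φ φ' = 0 ∧ φ' ⬝ᵥ crossProduct φ φ' = 0 :=
      ⟨dot_self_cross φ φ', dot_cross_self φ φ'⟩
    have act : ∀ (w : Fin 3 → F), ((a • (1 : M3) + s • vecMulVec u φ) *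
        ((a • (1 : M3) + s • vecMulVec u' φ') * (a • (1 : M3) + s • vecMulVec u' φ'))) *ᵥ w =
        (a * a * a) • w + (a * a * s * (φ ⬝ᵥ w)) • u + ((2 * a + s) * a * s * (φ' ⬝ᵥ w)) • u' := by
      intro w
      simp only [← Matrix.mulVec_mulVec, Matrix.add_mulVec, Matrix.smul_mulVec, Matrix.one_mulVec,
        Matrix.vecMulVec_mulVec, op_smul_eq_smul, dotProduct_add, dotProduct_smul, smul_eq_mul, ← hc, hu1, hc0]
      module
    have cols : ∀ (M P : M3) (r : Fin 3 → F), (∀ j, M *ᵥ (fun i => P i j) = r j • fun i => P i j) →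
        M * P = P * diagonal r := by
      intro M P r hh
      ext i j
      rw [Matrix.mul_diagonal, mul_comm]
      exact congrFun (hh j) i
    refine cols _ _ _ fun j => ?_
    have col : ∀ v : Fin 3 → Fin 3 → F, (fun i => (Matrix.of fun i j => v j i : M3) i j) = v j := fun v => rfl
    rw [col, act]
    fin_cases j <;> simp [hu, hu1, hcr.1, hcr.2, ← hc, ← hd, hc0, hd0] <;> rw [hb] <;> module

set_option maxHeartbeats 800000 in
/-- the centraliser of a homology without commuting involutions -/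
theorem cent_homology (z : H) (hno : ∀ v : H, orderOf v = 2 → ¬ Commute v z) {a s : F} (hs : s ≠ 0)
    {u φ : Fin 3 → F} (hu : φ ⬝ᵥ u = 1) (ez : mt z = a • 1 + s • vecMulVec u φ) : Small z := by
  classical
  have : Fact p.Prime := h.fact
  have : CharP F p := h.charP
  set E : M3 := vecMulVec u φ with hE
  obtain ⟨Bm, hBm, eBm⟩ := exists_hom_frame hu
  have hBu : IsUnit Bm.det := isUnit_iff_ne_zero.2 hBm
  have commE : ∀ g : H, Commute g z → mt g * E = E * mt g := by
    intro g hg
    have e := congrArg mt hg.eq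
    rw [mt_mul, mt_mul, ez, mul_add, add_mul, Matrix.mul_smul, Matrix.smul_mul, mul_one, one_mul, Matrix.mul_smul,
      Matrix.smul_mul, add_right_inj] at e
    exact smul_right_injective M3 hs e
  set Nf : H → M3 := fun g => Bm⁻¹ * mt g * Bm with hNf
  set W : H → M2 := fun g => !![Nf g 1 1, Nf g 1 2; Nf g 2 1, Nf g 2 2] with hW
  have blkeq : ∀ g : H, Commute g z → mt g * Bm = Bm * blk (Nf g 0 0) (W g) := by
    intro g hg
    have e1 : Nf g * blk 1 0 = blk 1 0 * Nf g := by
      simp only [hNf, Matrix.mul_assoc]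
      rw [← eBm, ← Matrix.mul_assoc (mt g), commE g hg, Matrix.mul_assoc E, ← Matrix.mul_assoc Bm⁻¹ E,
        show Bm⁻¹ * E = blk 1 0 * Bm⁻¹ from ?_, Matrix.mul_assoc]
      calc Bm⁻¹ * E = Bm⁻¹ * (E * Bm) * Bm⁻¹ := by
            rw [Matrix.mul_assoc, Matrix.mul_assoc E, Matrix.mul_nonsing_inv _ hBu, mul_one]
        _ = _ := by rw [eBm, ← Matrix.mul_assoc Bm⁻¹, Matrix.nonsing_inv_mul _ hBu, one_mul]
    have z01 := congrFun (congrFun e1 0) 1
    have z02 := congrFun (congrFun e1 0) 2
    have z10 := congrFun (congrFun e1 1) 0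
    have z20 := congrFun (congrFun e1 2) 0
    simp [blk, Matrix.mul_apply, Fin.sum_univ_three] at z01 z02 z10 z20
    have e2 : Nf g = blk (Nf g 0 0) (W g) := by
      ext i j
      fin_cases i <;> fin_cases j <;> simp [blk, hW, z01, z02, z10, z20]
      all_goals grind
    rw [← e2]
    simp only [hNf]
    rw [← Matrix.mul_assoc, ← Matrix.mul_assoc, Matrix.mul_nonsing_inv _ hBu, one_mul]
  have ofblk : ∀ (g : H) (c : F) (V : M2), mt g * Bm = Bm * blk c V → W g = V := by
    intro g c V e
    have e2 : Nf g = blk c V := by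
      simp only [hNf]
      rw [Matrix.mul_assoc, e, ← Matrix.mul_assoc, Matrix.nonsing_inv_mul _ hBu, one_mul]
    ext i j
    fin_cases i <;> fin_cases j <;> simp [hW, e2, blk]
  set Bz : Subgroup H := Subgroup.centralizer ({z} : Set H)
  have hcz : ∀ g : Bz, Commute (g : H) z := fun g => Subgroup.mem_centralizer_singleton_iff.1 g.2
  let ψ0 : Bz →* M2 :=
    { toFun := fun g => W g
      map_one' := ofblk _ 1 1 (by rw [Subgroup.coe_one, mt_one, one_mul, blk_one, mul_one])
      map_mul' := fun g g' => ofblk _ _ _ (by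
        rw [Subgroup.coe_mul, mt_mul, Matrix.mul_assoc, blkeq _ (hcz g'), ← Matrix.mul_assoc, blkeq _ (hcz g),
          Matrix.mul_assoc, blk_mul]) }
  let ψ : Bz →* GL (Fin 2) F := ψ0.toHomUnits
  have hψ : ∀ g : Bz, (ψ g : M2) = W g := fun g => rfl
  have hle : ∀ x ∈ ψ.range, x ∈ planeGroup H Bm := by
    rintro x ⟨g, rfl⟩
    have e := blkeq _ (hcz g)
    refine ⟨Nf g 0 0, fun e0 => ?_, (g : H), (g : H).2, by rw [hψ]; exact e⟩
    have := congrArg Matrix.det e
    rw [Matrix.det_mul, Matrix.det_mul, det_blk, e0, zero_mul, mul_zero, h.det_eq (mem_mt _), one_mul] at this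
    exact hBm this
  have hodd : ∀ x ∈ ψ.range, Odd (orderOf x) := by
    rintro x ⟨g, rfl⟩
    have hg : Odd (orderOf g) := by
      by_contra he
      rw [Nat.not_odd_iff_even] at he
      have h2 : 2 ∣ orderOf g := he.two_dvd
      have ho : orderOf ((g ^ (orderOf g / 2) : Bz) : H) = 2 := by
        rw [Subgroup.orderOf_coe, orderOf_pow_orderOf_div (orderOf_pos g).ne' h2]
      exact hno _ ho (hcz _)
    exact hg.of_dvd_nat (orderOf_map_dvd ψ g)
  have inj : ∀ g g' : Bz, ψ g = ψ g' → g = g' := by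
    intro g g' e
    have eW : W g = W g' := by rw [← hψ, ← hψ, e]
    have d1 := congrArg Matrix.det (blkeq _ (hcz g))
    have d2 := congrArg Matrix.det (blkeq _ (hcz g'))
    rw [Matrix.det_mul, Matrix.det_mul, det_blk, h.det_eq (mem_mt _), one_mul] at d1 d2
    rw [eW] at d1
    have ea : Nf g 0 0 = Nf g' 0 0 := by
      have hW0 : (W g').det ≠ 0 := fun e0 => hBm (by rw [d2, e0, mul_zero, mul_zero])
      exact mul_right_cancel₀ hW0 (mul_left_cancel₀ hBm (d1.symm.trans d2))
    refine Subtype.ext (mt_inj ?_)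
    have e1 := blkeq _ (hcz g)
    rw [ea, eW] at e1
    have := congrArg (fun M => M * Bm⁻¹) (e1.trans (blkeq _ (hcz g')).symm)
    simpa [Matrix.mul_assoc, Matrix.mul_nonsing_inv _ hBu] using this
  have hcomm : ∀ a b : H, Commute a z → Commute b z → Commute a b := by
    intro a b ha hb
    let a' : Bz := ⟨a, Subgroup.mem_centralizer_singleton_iff.2 ha⟩
    let b' : Bz := ⟨b, Subgroup.mem_centralizer_singleton_iff.2 hb⟩
    have := inj (a' * b') (b' * a') (by
      rw [map_mul, map_mul]
      exact commute_of_odd' p h.two_ne ψ.range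
        (fun x hx => planeGroup_pow_eq_one p h.noTr hBm x (hle x hx)) hodd ⟨a', rfl⟩ ⟨b', rfl⟩)
    exact congrArg Subtype.val this
  refine ⟨hcomm, ?_⟩
  by_cases hfix : ∀ n ∈ Subgroup.normalizer (Bz : Set H), n * z * n⁻¹ = z
  · have : Subgroup.normalizer (Bz : Set H) = Bz := le_antisymm
      (fun n hn => Subgroup.mem_centralizer_singleton_iff.2 (mul_inv_eq_iff_eq_mul.1 (hfix n hn)))
      Subgroup.le_normalizer
    rw [this]
    exact Dvd.intro_left _ rfl
  push Not at hfix
  obtain ⟨n, hn, hne⟩ := hfix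
  set y := n * z * n⁻¹ with hy
  have hyz : Commute y z := Subgroup.mem_centralizer_singleton_iff.1
    ((Subgroup.mem_normalizer_iff.1 hn z).1 (Subgroup.mem_centralizer_singleton_iff.2 (Commute.refl z)))
  set u' : Fin 3 → F := mt n *ᵥ u with hu'
  set φ' : Fin 3 → F := φ ᵥ* mt n⁻¹ with hφ'
  have hu1 : φ' ⬝ᵥ u' = 1 := by
    rw [hu', hφ', ← Matrix.dotProduct_mulVec, Matrix.mulVec_mulVec, mt_inv_mul, Matrix.one_mulVec, hu]
  have ey : mt y = a • 1 + s • vecMulVec u' φ' := by
    rw [hy, mt_mul, mt_mul, ez, mul_add, add_mul, Matrix.mul_smul, Matrix.smul_mul, mul_one, mt_mul_inv,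
      Matrix.mul_smul, Matrix.smul_mul, hE, Matrix.mul_vecMulVec, Matrix.vecMulVec_mul]
  have eEE := commE y hyz
  rw [ey, mul_add, add_mul, Matrix.smul_mul, Matrix.mul_smul, mul_one, one_mul, Matrix.smul_mul, Matrix.mul_smul,
    add_right_inj] at eEE
  have eEE' := smul_right_injective M3 hs eEE
  rw [hE] at eEE'
  have hne' : vecMulVec u φ ≠ vecMulVec u' φ' := fun e => hne (mt_inj (by rw [ey, ez, hE, ← e]))
  obtain ⟨hc0, hd0⟩ := (idem_comm hu hu1 eEE').resolve_left hne'
  have hsmall : Small (z * (y * y)) := h.small_of_commuting z y hno hs hu hu1 hc0 hd0 ez ey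
  have hy'z : Commute (z * (y * y)) z := (Commute.refl z).mul_left (hyz.mul_left hyz)
  have heq : Subgroup.centralizer ({z * (y * y)} : Set H) = Bz := by
    ext g
    rw [Subgroup.mem_centralizer_singleton_iff, Subgroup.mem_centralizer_singleton_iff]
    exact ⟨fun hg => hsmall.1 g z hg hy'z.symm, fun hg => hcomm g _ hg hy'z⟩
  have := hsmall.2
  rwa [heq] at this

end Amb

end Cfsg.Agent.Forms.Max.SU3.SympType
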