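import Mathlib
import Cfsg.Agent.Lib.Forms.Max.SL3.SympType.Unip
import Cfsg.Agent.Lib.Forms.Max.Unitary
import Cfsg.Agent.Lib.Forms.Max.SU3.SympType.Centre

/-!
# The centraliser of a regular unipotent element: the parameters lie in the prime field
-/

set_option autoImplicit false
set_option linter.unusedSectionVars false
set_option linter.style.haveILetI false

namespace Cfsg.Agent.Forms.Max.SU3.SympType

open Matrix
open Cfsg.Agent.Forms.Max.SL3.SympType hiding Amb r0Grp zGrp exists_proj shapes planeGroup_pow_eq_one pair_val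
  pair_tau Setup

variable {F : Type*} [Field F] [Fintype F] {H : Subgroup (GL (Fin 3) F)} {p : ℕ} {ω : F}

local notation "M3" => Matrix (Fin 3) (Fin 3) F
local notation "M2" => Matrix (Fin 2) (Fin 2) F
local notation "mt" => Cfsg.Agent.Forms.Max.SL3.SympType.mt

namespace Amb

variable (h : Amb H p ω)
include h

theorem cast_inj : Function.Injective fun k : Fin p => ((k : ℕ) : F) := by
  have := h.charP
  intro k k' e
  have e' := (CharP.natCast_eq_natCast F p).1 e
  rw [Nat.ModEq, Nat.mod_eq_of_lt k.2, Nat.mod_eq_of_lt k'.2] at e'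
  exact Fin.ext e'

theorem exists_cast {r : F} (hr : r ^ p = r) : ∃ k : Fin p, ((k : ℕ) : F) = r := by
  have := h.fact
  have := h.charP
  have e := (Subfield.mem_bot_iff_pow_eq_self F p).2 hr
  rw [← ZMod.fieldRange_castHom_eq_bot p] at e
  obtain ⟨k, hk⟩ := e
  exact ⟨⟨k.val, k.val_lt⟩, by rw [← hk, ZMod.castHom_apply, ZMod.natCast_val]⟩

/-- the centraliser of an element with one eigenvalue -/
theorem cent_triple {z : H} (hz : ∀ c : F, mt z ≠ c • 1) {a : F} (ht : (mt z).trace = 3 * a)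
    (hs : sC (mt z) = 3 * a * a) (ha : a ^ 3 = 1) :
    (∀ g g' : H, Commute g z → Commute g' z → Commute g g') ∧
      Nat.card (Subgroup.centralizer ({z} : Set H)) = 3 * p := by
  classical
  have ha0 : a ≠ 0 := fun e => by simp [e] at ha
  set N : M3 := mt z - a • 1 with hN
  have hM : mt z = a • 1 + N := by rw [hN]; abel
  have hN3 : N * N * N = 0 := by
    have e := cayley_three (mt z)
    rw [ht, hs, h.det_eq (mem_mt z)] at e
    rw [← e, hN]
    simp only [sub_mul, mul_sub, Matrix.smul_mul, Matrix.mul_smul, one_mul, mul_one, ← ha]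
    module
  have hN2 : N * N ≠ 0 := by
    intro e
    obtain ⟨u, φ, huφ⟩ := exists_vecMulVec (adjugate_of_sq_zero e)
    by_cases hN0 : N = 0
    · exact hz a (by rw [hM, hN0, add_zero])
    have hd : φ ⬝ᵥ u = 0 := by
      rw [huφ, Matrix.vecMulVec_mul_vecMulVec, Matrix.vecMulVec_smul, smul_eq_zero] at e
      exact e.resolve_right (huφ ▸ hN0)
    obtain ⟨i, -, hi⟩ := h.eq_pow_of_cube (show (a⁻¹) ^ 3 = 1 by rw [inv_pow, ha, inv_one])
    have hm := (h.mem_of_isR0 (h.isR0_root i)).mul (mem_mt z)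
    rw [← hi, Matrix.smul_mul, one_mul, hM, smul_add, smul_smul, inv_mul_cancel₀ ha0, one_smul, huφ,
      ← Matrix.smul_vecMulVec] at hm
    rcases h.noTr.eq_zero hm (by rw [dotProduct_smul, hd, smul_zero]) with e0 | e0
    · refine hN0 ?_
      rw [huφ, (smul_eq_zero.1 e0).resolve_left (inv_ne_zero ha0), Matrix.zero_vecMulVec]
    · exact hN0 (by rw [huφ, e0, Matrix.vecMulVec_zero])
  obtain ⟨b, hb⟩ : ∃ b, ∃ i, (N * N) i b ≠ 0 := by
    by_contra hc
    push Not at hc
    exact hN2 (Matrix.ext fun i j => by simpa using hc j i)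
  set v : Fin 3 → F := Pi.single b 1 with hv
  have hNv : (N * N) *ᵥ v ≠ 0 := by
    obtain ⟨i, hi⟩ := hb
    intro e
    have := congrFun e i
    rw [hv, Matrix.mulVec_single_one] at this
    exact hi this
  set Q : M3 := Matrix.of fun i j => (![v, N *ᵥ v, (N * N) *ᵥ v] : Fin 3 → Fin 3 → F) j i with hQdef
  have hQv : ∀ c : Fin 3 → F, Q *ᵥ c = c 0 • v + c 1 • (N *ᵥ v) + c 2 • ((N * N) *ᵥ v) := by
    intro c
    funext i
    simp [hQdef, Matrix.mulVec, dotProduct, Fin.sum_univ_three]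
    ring
  have hQ : Q.det ≠ 0 := by
    intro hd
    obtain ⟨c, hc, e⟩ := Matrix.exists_mulVec_eq_zero_iff.2 hd
    rw [hQv] at e
    have e1 := congrArg ((N * N) *ᵥ ·) e
    simp only [Matrix.mulVec_add, Matrix.mulVec_smul, Matrix.mulVec_mulVec, Matrix.mulVec_zero] at e1
    rw [hN3, show N * N * (N * N) = 0 by rw [← Matrix.mul_assoc, hN3, zero_mul], Matrix.zero_mulVec,
      smul_zero, smul_zero, add_zero, add_zero] at e1
    have c0 := (smul_eq_zero.1 e1).resolve_right hNv
    rw [c0, zero_smul, zero_add] at e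
    have e2 := congrArg (N *ᵥ ·) e
    simp only [Matrix.mulVec_add, Matrix.mulVec_smul, Matrix.mulVec_mulVec, Matrix.mulVec_zero] at e2
    rw [show N * (N * N) = 0 by rw [← Matrix.mul_assoc, hN3], Matrix.zero_mulVec, smul_zero, add_zero] at e2
    have c1 := (smul_eq_zero.1 e2).resolve_right hNv
    rw [c1, zero_smul, zero_add] at e
    have c2 := (smul_eq_zero.1 e).resolve_right hNv
    exact hc (funext fun i => by fin_cases i <;> simpa)
  have hQu : IsUnit Q.det := isUnit_iff_ne_zero.2 hQ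
  have hNQ : N * Q = Q * !![0, 0, 0; 1, 0, 0; 0, 1, 0] := by
    refine Matrix.ext_of_mulVec_single fun j => ?_
    rw [← Matrix.mulVec_mulVec, ← Matrix.mulVec_mulVec, hQv, hQv, Matrix.mulVec_add, Matrix.mulVec_add,
      Matrix.mulVec_smul, Matrix.mulVec_smul, Matrix.mulVec_smul, Matrix.mulVec_mulVec, Matrix.mulVec_mulVec,
      show N * (N * N) = 0 by rw [← Matrix.mul_assoc, hN3], Matrix.zero_mulVec, smul_zero, add_zero,
      Matrix.mulVec_single_one]
    fin_cases j <;> simp
  set Tf : H → M3 := fun g => Q⁻¹ * mt g * Q with hTf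
  have Tmul : ∀ g g', Tf (g * g') = Tf g * Tf g' := fun g g' => by
    simp only [hTf, mt_mul, Matrix.mul_assoc]
    rw [← Matrix.mul_assoc Q, Matrix.mul_nonsing_inv _ hQu, one_mul]
  have Tone : Tf 1 = 1 := by simp only [hTf, mt_one, mul_one, Matrix.nonsing_inv_mul _ hQu]
  have Tinj : Function.Injective Tf := fun g g' e => by
    have h1 := congrArg (fun M => Q * M * Q⁻¹) e
    simp only [hTf, Matrix.mul_assoc, Matrix.mul_nonsing_inv _ hQu, mul_one] at h1
    rw [← Matrix.mul_assoc Q, ← Matrix.mul_assoc Q, Matrix.mul_nonsing_inv _ hQu, one_mul, one_mul] at h1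
    exact mt_inj h1
  have Tz : Tf z = toep a 1 0 := by
    simp only [hTf]
    rw [hM, mul_add, add_mul, Matrix.mul_smul, mul_one, Matrix.smul_mul, Matrix.nonsing_inv_mul _ hQu,
      Matrix.mul_assoc, hNQ, ← Matrix.mul_assoc, Matrix.nonsing_inv_mul _ hQu, one_mul]
    ext i j
    fin_cases i <;> fin_cases j <;> simp [toep]
  have shape : ∀ g : H, Commute g z → Tf g = toep (Tf g 0 0) (Tf g 1 0) (Tf g 2 0) := by
    intro g hg
    have e : Tf g * toep a 1 0 = toep a 1 0 * Tf g := by rw [← Tz, ← Tmul, ← Tmul, hg.eq]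
    have e00 := congrFun (congrFun e 0) 0
    have e01 := congrFun (congrFun e 0) 1
    have e10 := congrFun (congrFun e 1) 0
    have e11 := congrFun (congrFun e 1) 1
    have e12 := congrFun (congrFun e 1) 2
    have e20 := congrFun (congrFun e 2) 0
    have e21 := congrFun (congrFun e 2) 1
    have e22 := congrFun (congrFun e 2) 2
    simp [toep, Matrix.mul_apply, Fin.sum_univ_three] at e00 e01 e10 e11 e12 e20 e21 e22
    ext i j
    fin_cases i <;> fin_cases j <;> simp [toep]
    all_goals grind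
  have hcomm : ∀ g g' : H, Commute g z → Commute g' z → Commute g g' := by
    intro g g' hg hg'
    refine Tinj ?_
    rw [Tmul, Tmul, shape g hg, shape g' hg', toep_mul, toep_mul]
    ext i j
    fin_cases i <;> fin_cases j <;> simp [toep] <;> ring
  refine ⟨hcomm, ?_⟩
  have hx3 : ∀ g : H, Commute g z → Tf g 0 0 ^ 3 = 1 := by
    intro g hg
    have e : (Tf g).det = 1 := by
      simp only [hTf]
      rw [Matrix.det_mul, Matrix.det_mul, h.det_eq (mem_mt g), mul_one, Matrix.det_nonsing_inv,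
        Ring.inverse_mul_cancel _ hQu]
    rw [shape g hg, det_toep] at e
    exact e
  have kernel : ∀ g : H, Commute g z → Tf g 0 0 = 1 → Tf g 1 0 = 0 → g = 1 := by
    intro g hg e0 e1
    have e := shape g hg
    rw [e0, e1] at e
    set w := Tf g 2 0
    set φ : Fin 3 → F := Pi.single 0 1 ᵥ* Q⁻¹ with hφ
    have hsh : toep 1 0 w = 1 + vecMulVec (Pi.single 2 w) (Pi.single 0 1) := by
      ext i j
      fin_cases i <;> fin_cases j <;> simp [toep, Matrix.vecMulVec_apply]
    have hm : Mem H (1 + vecMulVec (Q *ᵥ Pi.single 2 w) φ) := by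
      refine ⟨g, g.2, ?_⟩
      have h1 := congrArg (fun M => Q * M * Q⁻¹) e
      simp only [hTf, Matrix.mul_assoc, Matrix.mul_nonsing_inv _ hQu, mul_one] at h1
      rw [← Matrix.mul_assoc Q, Matrix.mul_nonsing_inv _ hQu, one_mul, ← Matrix.mul_assoc, hsh, mul_add, mul_one,
        add_mul, Matrix.mul_nonsing_inv _ hQu, Matrix.mul_vecMulVec, Matrix.vecMulVec_mul] at h1
      exact h1
    have hw : w = 0 := by
      rcases h.noTr.eq_zero hm (by
        rw [hφ, ← Matrix.dotProduct_mulVec, Matrix.mulVec_mulVec, Matrix.nonsing_inv_mul _ hQu, Matrix.one_mulVec]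
        simp) with h0 | h0
      · have := congrArg (Q⁻¹ *ᵥ ·) h0
        simp only [Matrix.mulVec_mulVec, Matrix.nonsing_inv_mul _ hQu, Matrix.one_mulVec, Matrix.mulVec_zero] at this
        simpa using congrFun this 2
      · have := congrArg (· ᵥ* Q) h0
        simp only [hφ, Matrix.vecMul_vecMul, Matrix.nonsing_inv_mul _ hQu, Matrix.vecMul_one, Matrix.zero_vecMul] at this
        have := congrFun this 0
        simp at this
    refine Tinj ?_
    rw [e, hw, Tone]
    ext i j
    fin_cases i <;> fin_cases j <;> simp [toep]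
  have rat : ∀ g : H, Commute g z → (Tf g 1 0 * a / Tf g 0 0) ^ p = Tf g 1 0 * a / Tf g 0 0 := by
    intro g hg
    have hc := h.card
    have hap : a ^ p = a ^ 2 := by rw [pow_eq_pow_mod p ha, h.mod3]
    have haa : a ^ 2 * a = 1 := by linear_combination ha
    set L : M3 := a ^ 2 • N with hL
    have hNL : ∀ x : Fin 3 → F, N *ᵥ x = a • (L *ᵥ x) := fun x => by
      rw [hL, Matrix.smul_mulVec, smul_smul, show a * a ^ 2 = 1 by linear_combination ha, one_smul]
    have hU : ∀ x y : Fin 3 → F, (Cfsg.hermForm 3 F p) (L *ᵥ x) y + (Cfsg.hermForm 3 F p) x (L *ᵥ y) + (Cfsg.hermForm 3 F p) (L *ᵥ x) (L *ᵥ y) = 0 := by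
      intro x y
      have e := Cfsg.Agent.Forms.Max.Unitary.SUn_H (h.le z.2) x y
      have ez : ∀ w : Fin 3 → F, ((z : GL (Fin 3) F) : M3) *ᵥ w = a • (w + L *ᵥ w) := fun w => by
        show mt z *ᵥ w = _
        rw [hM, Matrix.add_mulVec, Matrix.smul_mulVec, Matrix.one_mulVec, hNL, smul_add]
      rw [ez, ez] at e
      simp only [Classical.Unitary.H_add_left, Classical.Unitary.H_add_right hc, Classical.Unitary.H_smul_left,
        Classical.Unitary.H_smul_right, hap] at e
      linear_combination e - ((Cfsg.hermForm 3 F p) x y + ((Cfsg.hermForm 3 F p) (L *ᵥ x) y + (Cfsg.hermForm 3 F p) x (L *ᵥ y) + (Cfsg.hermForm 3 F p) (L *ᵥ x) (L *ᵥ y))) * ha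
    set v1 := L *ᵥ v with hv1
    set v2 := L *ᵥ v1 with hv2
    have hL3 : L *ᵥ v2 = 0 := by
      rw [hv2, hv1, Matrix.mulVec_mulVec, Matrix.mulVec_mulVec, hL]
      simp only [Matrix.smul_mul, Matrix.mul_smul, smul_smul, hN3, smul_zero, Matrix.zero_mulVec]
    have f0 : ∀ x : Fin 3 → F, (Cfsg.hermForm 3 F p) x 0 = 0 := fun x => by
      have := Classical.Unitary.H_smul_right (q := p) (0 : F) x (0 : Fin 3 → F)
      rwa [zero_smul, zero_pow h.prime.ne_zero, zero_mul] at this
    have f0' : ∀ x : Fin 3 → F, (Cfsg.hermForm 3 F p) 0 x = 0 := fun x => Classical.Unitary.H_zero_left x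
    have K22 : (Cfsg.hermForm 3 F p) v2 v2 = 0 := by simpa [← hv1, ← hv2, hL3, f0, f0'] using hU v1 v2
    have K12 : (Cfsg.hermForm 3 F p) v1 v2 = 0 := by simpa [← hv1, ← hv2, hL3, f0, f0'] using hU v v2
    have K21 : (Cfsg.hermForm 3 F p) v2 v1 = 0 := by simpa [← hv1, ← hv2, hL3, f0, f0'] using hU v2 v
    have K20 : (Cfsg.hermForm 3 F p) v2 v + (Cfsg.hermForm 3 F p) v1 v1 = 0 := by simpa [← hv1, ← hv2, K21] using hU v1 v
    have K02 : (Cfsg.hermForm 3 F p) v1 v1 + (Cfsg.hermForm 3 F p) v v2 = 0 := by simpa [← hv1, ← hv2, K12] using hU v v1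
    have eN1 : N *ᵥ v = a • v1 := hNL v
    have eN2 : (N * N) *ᵥ v = (a * a) • v2 := by
      rw [← Matrix.mulVec_mulVec, eN1, Matrix.mulVec_smul, hNL, smul_smul]
    have K11 : (Cfsg.hermForm 3 F p) v1 v1 ≠ 0 := by
      intro e11
      refine hNv ?_
      rw [eN2]
      have : v2 = 0 := Classical.Unitary.eq_zero_of_H hc fun y => by
        rw [show y = Q *ᵥ (Q⁻¹ *ᵥ y) by
          rw [Matrix.mulVec_mulVec, Matrix.mul_nonsing_inv _ hQu, Matrix.one_mulVec], hQv, eN1, eN2]
        simp only [Classical.Unitary.H_add_right hc, Classical.Unitary.H_smul_right, K21, K22]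
        rw [show (Cfsg.hermForm 3 F p) v2 v = 0 by linear_combination K20 - e11]
        ring
      rw [this, smul_zero]
    set x := Tf g 0 0
    set y := Tf g 1 0
    set w := Tf g 2 0
    have hx : x ^ 3 = 1 := by
      have e : (Tf g).det = 1 := by
        simp only [hTf]
        rw [Matrix.det_mul, Matrix.det_mul, h.det_eq (mem_mt g), mul_one, Matrix.det_nonsing_inv,
          Ring.inverse_mul_cancel _ hQu]
      rwa [shape g hg, det_toep] at e
    have hxp : x ^ p = x ^ 2 := by rw [pow_eq_pow_mod p hx, h.mod3]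
    have hx0 : x ≠ 0 := fun e => by simp [e] at hx
    have hgQ : mt g * Q = Q * toep x y w := by
      rw [← shape g hg]
      simp only [hTf, ← Matrix.mul_assoc, Matrix.mul_nonsing_inv _ hQu, one_mul]
    set r := y * a / x with hr
    set s := w * (a * a) / x with hs'
    have eg : mt g *ᵥ v = x • (v + r • v1 + s • v2) := by
      have e := congrArg (· *ᵥ Pi.single (0 : Fin 3) (1 : F)) hgQ
      simp only [← Matrix.mulVec_mulVec, hQv, eN1, eN2] at e
      simp [toep] at e
      rw [e, hr, hs']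
      match_scalars <;> field_simp
    have eg1 : mt g *ᵥ v1 = x • (v1 + r • v2) := by
      have e := congrArg (· *ᵥ Pi.single (1 : Fin 3) (1 : F)) hgQ
      simp only [← Matrix.mulVec_mulVec, hQv, eN1, eN2] at e
      simp [toep, Matrix.mulVec_smul] at e
      refine smul_right_injective (Fin 3 → F) ha0 ?_
      dsimp only
      rw [e, smul_smul, smul_add, smul_smul, hr, smul_smul]
      match_scalars <;> field_simp
    have e := Cfsg.Agent.Forms.Max.Unitary.SUn_H (h.le g.2) v v1
    change (Cfsg.hermForm 3 F p) (mt g *ᵥ v) (mt g *ᵥ v1) = (Cfsg.hermForm 3 F p) v v1 at e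
    rw [eg, eg1] at e
    simp only [Classical.Unitary.H_add_left, Classical.Unitary.H_add_right hc, Classical.Unitary.H_smul_left,
      Classical.Unitary.H_smul_right, K12, K21, K22, hxp, mul_zero, add_zero] at e
    have key : (Cfsg.hermForm 3 F p) v1 v1 * (r - r ^ p) = 0 := by
      linear_combination e - r ^ p * K02 - ((Cfsg.hermForm 3 F p) v v1 + r ^ p * (Cfsg.hermForm 3 F p) v v2 + r * (Cfsg.hermForm 3 F p) v1 v1) * hx
    exact (sub_eq_zero.1 ((mul_eq_zero.1 key).resolve_left K11)).symm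
  set B : Subgroup H := Subgroup.centralizer ({z} : Set H) with hB
  have hBc : ∀ g : B, Commute (g : H) z := fun g => Subgroup.mem_centralizer_singleton_iff.1 g.2
  choose wj hwj using fun j : Fin 3 => (h.mem_of_isR0 (h.isR0_root j)).exists_mt
  have Tw : ∀ j, Tf (wj j) = toep (ω ^ (j : ℕ)) 0 0 := by
    intro j
    simp only [hTf]
    rw [hwj, Matrix.mul_smul, mul_one, Matrix.smul_mul, Matrix.nonsing_inv_mul _ hQu]
    ext i k
    fin_cases i <;> fin_cases k <;> simp [toep]
  have Tpow : ∀ k : ℕ, Tf (z ^ k) 0 0 = a ^ k ∧ Tf (z ^ k) 1 0 * a = k * a ^ k := by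
    intro k
    induction k with
    | zero => simp [Tone]
    | succ k ih =>
      rw [pow_succ z k, Tmul, shape _ ((Commute.refl z).pow_left k), Tz, toep_mul]
      refine ⟨by simp [toep, ih.1, pow_succ], ?_⟩
      simp [toep, ih.1]
      linear_combination a * ih.2
  have hwc : ∀ j, Commute (wj j) z := fun j =>
    (Subgroup.mem_center_iff.1 (h.zGrp_le_center (h.mem_zGrp_of_scalar (hwj j))) z).symm
  let f : Fin 3 × Fin p → B := fun jk => ⟨wj jk.1 * z ^ (jk.2 : ℕ),
    Subgroup.mem_centralizer_singleton_iff.2 ((hwc _).mul_left ((Commute.refl z).pow_left _))⟩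
  have Tf00 : ∀ jk, Tf (f jk) 0 0 = ω ^ (jk.1 : ℕ) * a ^ (jk.2 : ℕ) ∧
      Tf (f jk) 1 0 * a = (jk.2 : ℕ) * (ω ^ (jk.1 : ℕ) * a ^ (jk.2 : ℕ)) := by
    intro jk
    show Tf (wj jk.1 * z ^ (jk.2 : ℕ)) 0 0 = _ ∧ Tf (wj jk.1 * z ^ (jk.2 : ℕ)) 1 0 * a = _
    rw [Tmul, Tw, shape _ ((Commute.refl z).pow_left _), toep_mul]
    refine ⟨by simp [toep, (Tpow _).1], ?_⟩
    simp [toep]
    linear_combination ω ^ (jk.1 : ℕ) * (Tpow (jk.2 : ℕ)).2
  have hinj : ∀ g g' : H, Commute g z → Commute g' z → Tf g 0 0 = Tf g' 0 0 → Tf g 1 0 = Tf g' 1 0 → g = g' := by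
    intro g g' hg hg' e0 e1
    have hgi : Commute (g⁻¹ * g') z := hg.inv_left.mul_left hg'
    have e := congrArg Tf (mul_inv_cancel_left g g')
    rw [Tmul, shape g hg, shape _ hgi, toep_mul] at e
    have e00 := congrFun (congrFun e 0) 0
    have e10 := congrFun (congrFun e 1) 0
    rw [← e0] at e00
    rw [← e1] at e10
    simp [toep] at e00 e10
    have hx : Tf g 0 0 ≠ 0 := fun e' => by simpa [e'] using hx3 g hg
    have k0 : Tf (g⁻¹ * g') 0 0 = 1 := mul_left_cancel₀ hx (by rw [mul_one]; exact e00)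
    rw [k0, mul_one] at e10
    have k1 : Tf (g⁻¹ * g') 1 0 = 0 := (mul_eq_zero.1 (by linear_combination e10 : Tf g 0 0 * Tf (g⁻¹ * g') 1 0 = 0)).resolve_left hx
    exact inv_mul_eq_one.1 (kernel _ hgi k0 k1)
  have hbij : Function.Bijective f := by
    refine ⟨fun i i' e => ?_, fun g => ?_⟩
    · have e0 := (Tf00 i).2
      have e1 := (Tf00 i').2
      have f0 := (Tf00 i).1
      have f1 := (Tf00 i').1
      rw [e] at e0 f0
      have ec : ω ^ (i.1 : ℕ) * a ^ (i.2 : ℕ) = ω ^ (i'.1 : ℕ) * a ^ (i'.2 : ℕ) := f0.symm.trans f1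
      have ek : ((i.2 : ℕ) : F) = (i'.2 : ℕ) := by
        refine mul_right_cancel₀ (mul_ne_zero (pow_ne_zero (i'.1 : ℕ) h.root_ne_zero) (pow_ne_zero (i'.2 : ℕ) ha0)) ?_
        rw [← e1, e0, ec]
      have ek' := h.cast_inj ek
      rw [ek'] at ec
      exact Prod.ext (h.root_pow_inj (mul_right_cancel₀ (pow_ne_zero _ ha0) ec)) ek'
    · obtain ⟨k, hk⟩ := h.exists_cast (rat g (hBc g))
      have hx0 : Tf g 0 0 ≠ 0 := fun e => by simpa [e] using hx3 g (hBc g)
      obtain ⟨j, hj, ej⟩ := h.eq_pow_of_cube (show (Tf g 0 0 / a ^ (k : ℕ)) ^ 3 = 1 by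
        rw [div_pow, hx3 g (hBc g), ← pow_mul, mul_comm, pow_mul, ha, one_pow, div_one])
      rw [div_eq_iff (pow_ne_zero _ ha0)] at ej
      refine ⟨(⟨j, hj⟩, k), Subtype.ext (hinj _ _ (hBc _) (hBc g) ((Tf00 _).1.trans ej.symm) ?_)⟩
      refine mul_right_cancel₀ ha0 ?_
      rw [(Tf00 _).2]
      simp only at hk ⊢
      rw [hk, ← ej, div_mul_cancel₀ _ hx0]
  rw [← Nat.card_eq_of_bijective f hbij]
  simp

end Amb

end Cfsg.Agent.Forms.Max.SU3.SympType
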