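import Mathlib
import Cfsg.Agent.Lib.Forms.Max.SL3.SympType.Data
import Cfsg.Agent.Lib.Forms.Max.SU3.SympType.Assemble
import Cfsg.Agent.Lib.Forms.Max.SU3.SympType.Cent
import Cfsg.Agent.Lib.Forms.Max.SU3.SympType.Unip

/-!
# Elements commuting with no involution
-/

set_option autoImplicit false
set_option linter.unusedSectionVars false
set_option linter.style.haveILetI false

namespace Cfsg.Agent.Forms.Max.SU3.SympType

open Matrix
open Cfsg.Agent.Forms.Max.SL3.SympType hiding Amb r0Grp zGrp exists_proj shapes planeGroup_pow_eq_one pair_val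
  pair_tau Setup Elem

variable {F : Type*} [Field F] [Fintype F] {H : Subgroup (GL (Fin 3) F)} {p : ℕ} {ω : F}

local notation "M3" => Matrix (Fin 3) (Fin 3) F
local notation "M2" => Matrix (Fin 2) (Fin 2) F
local notation "mt" => Cfsg.Agent.Forms.Max.SL3.SympType.mt

namespace Amb

variable (h : Amb H p ω)
include h

/-- the centraliser when two eigenvalues coincide and the third differs -/
theorem cent_double {z : H} (hno : ∀ v : H, orderOf v = 2 → ¬ Commute v z) {a b : F} (hab : a ≠ b)
    (ht : (mt z).trace = 2 * a + b) (hs : sC (mt z) = a * a + 2 * a * b) (hd : a * a * b = 1) : Small z := by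
  have ha0 : a ≠ 0 := fun e => by simp [e] at hd
  set M := mt z with hM
  set d := a - b with hdd
  have hd0 : d ≠ 0 := sub_ne_zero.2 hab
  set N : M3 := (M - a • 1) * (M - b • 1) with hN
  have hc : (M - a • 1) * N = 0 := by
    have e := cayley_three M
    rw [ht, hs, h.det_eq (mem_mt z), ← hd] at e
    rw [← e, hN]
    simp only [sub_mul, mul_sub, Matrix.smul_mul, Matrix.mul_smul, one_mul, mul_one, ← Matrix.mul_assoc, smul_sub, smul_smul]
    module
  have hMN : M * N = a • N := by
    rw [sub_mul, Matrix.smul_mul, one_mul, sub_eq_zero] at hc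
    exact hc
  have hMM : M * M = N + (a + b) • M - (a * b) • 1 := by
    rw [hN]
    simp only [sub_mul, mul_sub, Matrix.smul_mul, Matrix.mul_smul, one_mul, mul_one]
    module
  have hcm : N * M = M * N := by
    rw [hN]
    simp only [sub_mul, mul_sub, Matrix.smul_mul, Matrix.mul_smul, one_mul, mul_one, ← Matrix.mul_assoc, smul_sub, smul_smul]
  have hNM : N * M = a • N := hcm.trans hMN
  have hN2 : N * N = 0 := by
    calc N * N = N * ((M - a • 1) * (M - b • 1)) := by rw [← hN]
      _ = 0 := by rw [← Matrix.mul_assoc, mul_sub N M, Matrix.mul_smul, mul_one, hNM, sub_self, zero_mul]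
  have hpow : ∀ n : ℕ, M ^ n = ((a * b ^ n - b * a ^ n) / d) • (1 : M3) + ((a ^ n - b ^ n) / d) • M +
      (((n : F) * a ^ n * d - a * (a ^ n - b ^ n)) / (a * d * d)) • N := by
    intro n
    induction n with
    | zero => simp [hdd, div_self (sub_ne_zero.2 hab)]
    | succ n ih =>
      rw [pow_succ M n, ih, add_mul, add_mul, Matrix.smul_mul, one_mul, Matrix.smul_mul, Matrix.smul_mul, hMM, hNM]
      match_scalars <;> field_simp <;> push_cast <;> (try rw [hdd]) <;> ring
  have hN0 : N = 0 := by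
    by_contra hN0
    obtain ⟨u, φ, huφ⟩ := exists_vecMulVec (adjugate_of_sq_zero hN2)
    have hdot : φ ⬝ᵥ u = 0 := by
      rw [huφ, Matrix.vecMulVec_mul_vecMulVec, Matrix.vecMulVec_smul, smul_eq_zero] at hN2
      exact hN2.resolve_right (huφ ▸ hN0)
    have hm := (mem_mt z).pow (p ^ 2 - 1)
    rw [← hM, hpow, huφ] at hm
    have hb0 : b ≠ 0 := fun e => by simp [e] at hd
    have hp1 : ((p ^ 2 - 1 : ℕ) : F) = -1 := by
      have := h.charP
      rw [Nat.cast_sub (Nat.one_le_pow _ _ h.prime.pos), Nat.cast_pow, CharP.cast_eq_zero F p,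
        zero_pow two_ne_zero, zero_sub, Nat.cast_one]
    rw [h.pow_card_sub ha0, h.pow_card_sub hb0, hp1, sub_self, zero_div, zero_smul, mul_one, mul_one, mul_one,
      ← hdd, div_self hd0, one_smul, add_zero, mul_zero, sub_zero, ← Matrix.smul_vecMulVec] at hm
    rcases h.noTr.eq_zero hm (by rw [dotProduct_smul, hdot, smul_zero]) with e | e
    · refine hN0 ?_
      have hne : -1 * d / (a * d * d) ≠ 0 :=
        div_ne_zero (mul_ne_zero (neg_ne_zero.2 one_ne_zero) hd0) (mul_ne_zero (mul_ne_zero ha0 hd0) hd0)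
      rw [huφ, (smul_eq_zero.1 e).resolve_left hne, Matrix.zero_vecMulVec]
    · exact hN0 (by rw [huφ, e, Matrix.vecMulVec_zero])
  rw [hN0, zero_add] at hMM
  have hba : b - a ≠ 0 := sub_ne_zero.2 hab.symm
  set E : M3 := (b - a)⁻¹ • (M - a • 1) with hE
  have hEE : E * E = E := by
    rw [hE, Matrix.smul_mul, Matrix.mul_smul]
    have e : (M - a • 1) * (M - a • 1) = (b - a) • (M - a • 1) := by
      simp only [sub_mul, mul_sub, Matrix.smul_mul, Matrix.mul_smul, one_mul, mul_one, hMM]
      module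
    rw [e, smul_smul (b - a)⁻¹ (b - a), inv_mul_cancel₀ hba, one_smul]
  have hEt : E.trace = 1 := by
    rw [hE, Matrix.trace_smul, Matrix.trace_sub, Matrix.trace_smul, Matrix.trace_one, ht, Fintype.card_fin]
    simp
    field_simp
    ring
  obtain ⟨u, φ, huφ⟩ := exists_vecMulVec (adjugate_of_idem h.two hEE hEt)
  refine h.cent_homology z hno (a := a) hba (u := u) (φ := φ) ?_ ?_
  · rw [huφ, Matrix.trace_vecMulVec, dotProduct_comm] at hEt
    exact hEt
  · rw [← huφ, hE, smul_smul, mul_inv_cancel₀ hba, one_smul, ← hM]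
    abel

theorem nonscalar_of_not_conj {z : H} (hR : ∀ g : H, g * z * g⁻¹ ∉ r0Grp h) (c : F) : mt z ≠ c • 1 := fun e =>
  hR 1 (by rw [one_mul, inv_one, mul_one]; exact h.zGrp_le (h.mem_zGrp_of_scalar e))

theorem elem_centE : ∀ z : H, (∀ u : H, orderOf u = 2 → ¬ Commute u z) → (∀ g : H, g * z * g⁻¹ ∉ r0Grp h) →
    (∀ a b : H, Commute a z → Commute b z → Commute a b) ∧
    (Nat.card (Subgroup.centralizer ({z} : Set H)) = 3 * p ∨
      Nat.card (Subgroup.normalizer ((Subgroup.centralizer ({z} : Set H)) : Set H)) ∣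
        6 * Nat.card (Subgroup.centralizer ({z} : Set H))) := by
  intro z hno hR
  set f := algebraMap F (AlgebraicClosure F) with hf
  obtain ⟨et, es, ed⟩ := map_trace_sC f (mt z)
  rw [h.det_eq (mem_mt z), map_one] at ed
  obtain ⟨r, ht, hs, hd⟩ := exists_roots (f.mapMatrix (mt z))
  by_cases hr : Function.Injective r
  · obtain ⟨P, hP, eP⟩ := exists_frame ht hs hd hr
    exact ⟨(cent_distinct f z P hP r hr eP).1, Or.inr (cent_distinct f z P hP r hr eP).2⟩
  rw [et] at ht
  rw [es] at hs
  rw [ed] at hd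
  obtain ⟨ρ, β, ht', hs', hd'⟩ : ∃ ρ β, 2 * ρ + β = f (mt z).trace ∧ ρ * ρ + 2 * ρ * β = f (sC (mt z)) ∧
      ρ * ρ * β = 1 := by
    have hcase : r 0 = r 1 ∨ r 0 = r 2 ∨ r 1 = r 2 := by
      by_contra hc
      push Not at hc
      refine hr fun i j e => ?_
      fin_cases i <;> fin_cases j <;> simp at e ⊢ <;> tauto
    rcases hcase with e | e | e
    · exact ⟨r 1, r 2, by rw [← ht, e]; ring, by rw [← hs, e]; ring, by rw [← hd, e]⟩
    · exact ⟨r 2, r 1, by rw [← ht, e]; ring, by rw [← hs, e]; ring, by rw [← hd, e]; ring⟩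
    · exact ⟨r 2, r 0, by rw [← ht, e]; ring, by rw [← hs, e]; ring, by rw [← hd, e]; ring⟩
  have hinj := f.injective
  have h2 := h.two
  have h3 := h.three
  set t := (mt z).trace with htd
  set s := sC (mt z) with hsd
  by_cases hρβ : β = ρ
  · rw [hρβ] at ht' hs' hd'
    have k : f (t / 3) = ρ := by
      rw [map_div₀, map_ofNat, ← ht']
      have : (3 : AlgebraicClosure F) ≠ 0 := by rw [← map_ofNat f 3]; exact (map_ne_zero f).2 h3
      field_simp
      ring
    obtain ⟨hcomm, hcard⟩ := h.cent_triple (h.nonscalar_of_not_conj hR) (a := t / 3) (by field_simp; rw [← htd])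
      (hinj (by simp only [map_mul, map_ofNat, k, ← hsd]; linear_combination -hs'))
      (hinj (by simp only [map_pow, map_one, k]; linear_combination hd'))
    exact ⟨hcomm, Or.inl hcard⟩
  · have hne : ρ - β ≠ 0 := sub_ne_zero.2 (Ne.symm hρβ)
    have hden : f (t * t - 3 * s) = (ρ - β) * (ρ - β) := by
      simp only [map_sub, map_mul, map_ofNat]
      rw [← ht', ← hs']
      ring
    have k : f ((t * s - 9) / (2 * (t * t - 3 * s))) = ρ := by
      have h2' : (2 : AlgebraicClosure F) ≠ 0 := by rw [← map_ofNat f 2]; exact (map_ne_zero f).2 h2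
      rw [map_div₀, map_mul, hden, map_sub, map_mul, map_ofNat, map_ofNat, ← ht', ← hs']
      rw [div_eq_iff (mul_ne_zero h2' (mul_ne_zero hne hne))]
      linear_combination 9 * hd'
    set a := (t * s - 9) / (2 * (t * t - 3 * s))
    have kb : f (t - 2 * a) = β := by
      simp only [map_sub, map_mul, map_ofNat, k]
      linear_combination -ht'
    have hsm := h.cent_double hno (a := a) (b := t - 2 * a)
      (fun e => hne (by rw [← k, ← kb, ← e, sub_self]))
      (by rw [← htd]; ring)
      (hinj (by simp only [map_add, map_mul, map_ofNat, k, kb, ← hsd]; linear_combination -hs'))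
      (hinj (by simp only [map_mul, map_one, k, kb]; linear_combination hd'))
    exact ⟨hsm.1, Or.inr hsm.2⟩

theorem elem_scal (h9 : p % 9 ≠ 8) : ∀ z : H, (∀ u : H, orderOf u = 2 → ¬ Commute u z) →
    (∀ g : H, g * z * g⁻¹ ∉ r0Grp h) → ∀ g : H, ∀ w ∈ zGrp h, g * z * g⁻¹ = z * w → w = 1 := by
  intro z _ hR g w hw e
  obtain ⟨i, hi⟩ := h.mem_zGrp.1 hw
  set c := ω ^ i with hc
  by_contra hne
  have hc1 : c ≠ 1 := fun e' => hne (mt_inj (by rw [hi, e', one_smul, mt_one]))
  have e1 : mt g * mt z = c • (mt z * mt g) := by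
    rw [← mt_conj, e, mt_mul, hi, Matrix.mul_smul, mul_one, Matrix.smul_mul]
  have tr1 : (mt z).trace = c * (mt z).trace := by
    have := congrArg (fun M => (M * mt g⁻¹).trace) e1
    simp only [Matrix.smul_mul, Matrix.trace_smul, Matrix.mul_assoc, mt_mul_inv, mul_one, smul_eq_mul] at this
    rw [← Matrix.mul_assoc, Matrix.trace_mul_comm, ← Matrix.mul_assoc, mt_inv_mul, one_mul] at this
    exact this
  have tr2 : (mt z * mt z).trace = c * c * (mt z * mt z).trace := by
    have e2 : mt g * (mt z * mt z) = (c * c) • (mt z * mt z * mt g) := by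
      rw [← Matrix.mul_assoc, e1, Matrix.smul_mul, Matrix.mul_assoc, e1, Matrix.mul_smul, smul_smul, Matrix.mul_assoc]
    have := congrArg (fun M => (M * mt g⁻¹).trace) e2
    simp only [Matrix.smul_mul, Matrix.trace_smul, Matrix.mul_assoc, mt_mul_inv, mul_one, smul_eq_mul] at this
    rw [Matrix.trace_mul_comm, Matrix.mul_assoc, Matrix.mul_assoc, mt_inv_mul, mul_one] at this
    exact this
  have hcc : c * c ≠ 1 := fun e' => hc1 (by
    have h3 : c ^ 3 = 1 := by rw [hc, ← pow_mul, mul_comm, pow_mul, h.cube, one_pow]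
    linear_combination h3 - c * e')
  have t0 : (mt z).trace = 0 :=
    (mul_eq_zero.1 (by linear_combination tr1 : (1 - c) * (mt z).trace = 0)).resolve_left (sub_ne_zero.2 (Ne.symm hc1))
  have u0 : (mt z * mt z).trace = 0 :=
    (mul_eq_zero.1 (by linear_combination tr2 : (1 - c * c) * (mt z * mt z).trace = 0)).resolve_left
      (sub_ne_zero.2 (Ne.symm hcc))
  have s0 : sC (mt z) = 0 := by
    have := trace_sq (mt z)
    rw [t0, u0, mul_zero, sub_zero] at this
    exact (mul_eq_zero.1 this.symm).resolve_left h.two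
  have e3 := cayley_three (mt z)
  rw [t0, s0, h.det_eq (mem_mt z), zero_smul, zero_smul, sub_zero, add_zero, one_smul, sub_eq_zero] at e3
  have hz3 : z ^ 3 ^ 1 = 1 := mt_inj (by rw [pow_one, mt_pow, pow_succ, pow_two, e3, mt_one])
  obtain ⟨k, hk⟩ := h.exists_conj_mem_r0 h9 hz3
  exact hR k hk

theorem elem_psq : ¬ p ^ 2 ∣ Nat.card H := by
  intro hd
  have : Fact p.Prime := h.fact
  obtain ⟨P, hP⟩ := Sylow.exists_subgroup_card_pow_prime p hd
  obtain ⟨y, hy, hy1⟩ : ∃ y ∈ P, y ≠ 1 := by
    have : P ≠ ⊥ := fun e => by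
      rw [e, Subgroup.card_bot] at hP
      exact absurd hP (Nat.one_lt_pow (by norm_num) h.prime.one_lt).ne
    exact (Subgroup.bot_or_exists_ne_one P).resolve_left this
  have hyp : mt y ^ p ^ 2 = 1 := by
    rw [← mt_pow, ← mt_one (H := H)]
    congr 1
    have := congrArg Subtype.val (pow_card_eq_one' (x := (⟨y, hy⟩ : P)))
    rwa [hP] at this
  set f := algebraMap F (AlgebraicClosure F) with hf
  have := h.charP
  have : CharP (AlgebraicClosure F) p := charP_of_injective_algebraMap f.injective p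
  obtain ⟨et, es, ed⟩ := map_trace_sC f (mt y)
  rw [h.det_eq (mem_mt y), map_one] at ed
  obtain ⟨r, ht, hs, hd3⟩ := exists_roots (f.mapMatrix (mt y))
  have hone : ∀ i, r i = 1 := by
    intro i
    obtain ⟨v, hv, ev⟩ := exists_eigen ht hs hd3 i
    have hk : ∀ k : ℕ, f.mapMatrix (mt y) ^ k *ᵥ v = r i ^ k • v := by
      intro k
      induction k with
      | zero => rw [pow_zero, pow_zero, Matrix.one_mulVec, one_smul]
      | succ k ih => rw [pow_succ, ← Matrix.mulVec_mulVec, ev, Matrix.mulVec_smul, ih, smul_smul, pow_succ']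
    have e := hk (p ^ 2)
    rw [← map_pow, hyp, map_one, Matrix.one_mulVec] at e
    have e1 : r i ^ p ^ 2 = 1 := smul_left_injective (AlgebraicClosure F) hv (e.symm.trans (one_smul _ v).symm)
    have e2 : (r i - 1) ^ p ^ 2 = 0 := by rw [sub_pow_char_pow, one_pow, e1, sub_self]
    exact sub_eq_zero.1 ((pow_eq_zero_iff (pow_ne_zero 2 h.prime.ne_zero)).1 e2)
  rw [et, hone, hone, hone] at ht
  rw [es, hone, hone, hone] at hs
  have hns : ∀ c : F, mt y ≠ c • 1 := by
    intro c e
    refine hy1 (mt_inj ?_)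
    have h3c : 3 * c = 3 := f.injective (by
      rw [map_ofNat]
      have h3' : (mt y).trace = 3 * c := by
        rw [e, Matrix.trace_smul, Matrix.trace_one, Fintype.card_fin, smul_eq_mul, mul_comm]; norm_num
      rw [← h3', ← ht]; norm_num)
    rw [e, mt_one, mul_left_cancel₀ h.three (h3c.trans (mul_one 3).symm), one_smul]
  obtain ⟨-, hcard⟩ := h.cent_triple hns (a := 1)
    (f.injective (by rw [mul_one, map_ofNat, ← ht]; norm_num))
    (f.injective (by rw [mul_one, mul_one, map_ofNat, ← hs]; norm_num)) (one_pow 3)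
  have hle : P ≤ Subgroup.centralizer ({y} : Set H) := fun x hx => by
    refine Subgroup.mem_centralizer_singleton_iff.2 ?_
    have hcomm := IsPGroup.isMulCommutative_of_card_eq_prime_sq (G := P) hP
    exact congrArg Subtype.val (hcomm.is_comm.comm (⟨x, hx⟩ : P) ⟨y, hy⟩)
  have hdd := Subgroup.card_dvd_of_le hle
  rw [hP, hcard, pow_two, Nat.mul_dvd_mul_iff_right h.prime.pos] at hdd
  have := Nat.le_of_dvd (by norm_num) hdd
  have := h.ge
  omega

/-- **The facts on elements commuting with no involution.** -/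
theorem elem (h9 : p % 9 ≠ 8) : Elem h := ⟨h.elem_psq, h.elem_scal h9, h.elem_centE⟩

end Amb

end Cfsg.Agent.Forms.Max.SU3.SympType
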