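import Mathlib
import Cfsg.Agent.Lib.Forms.Max.SympNine.ThreeBase
import Cfsg.Agent.Lib.Classical.UnitaryConj
import Cfsg.Agent.Lib.Forms.Max.UnitaryBase
import Cfsg.Agent.Lib.Forms.Max.SU3.SympType.Grp

/-!
# The case `p ≡ 8 mod 9`

The normaliser then contains elements inducing every symplectic map of the labels, so the group together with the
scalars of norm one is rich; a planar rich group contains a transvection.
-/

set_option autoImplicit false
set_option linter.unusedSectionVars false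
set_option linter.style.haveILetI false

namespace Cfsg.Agent.Forms.Max.SU3.SympType.Nine

open Matrix
open Cfsg.Agent.Forms.Max.SympNine (wm tm wu tu sg Rich Nrm Cube)
open Cfsg.Agent.Forms.Max.SL3.SympType (Mem NoTr IsR0 Nrm0 xM yM dg)

variable {F : Type*} [Field F] [Fintype F] {M : Subgroup (GL (Fin 3) F)} {p : ℕ} {ω : F}

local notation "M3" => Matrix (Fin 3) (Fin 3) F
local notation "Z3" => Matrix (ZMod 3) (ZMod 3) F
local notation "GL3" => GL (Fin 3) F
local notation "T3" => GL (ZMod 3) F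

/-- the labels are the indices -/
def e3 : ZMod 3 ≃ Fin 3 := ⟨fun x => x, fun x => x, fun _ => rfl, fun _ => rfl⟩

/-- the labels are moved into the indices -/
noncomputable def rho : GL (ZMod 3) F ≃* GL (Fin 3) F :=
  Units.mapEquiv (Matrix.reindexAlgEquiv F F e3).toMulEquiv

theorem rho_val (g : T3) : ((rho g : GL3) : M3) = (g : Z3).submatrix e3.symm e3.symm := rfl

theorem xy_entry (j : ℕ) (k r s : Fin 3) :
    (xM ω ^ j * yM ^ (k : ℕ) : M3) r s = if r = s + k then ω ^ (j * (r : ℕ)) else 0 := by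
  rw [SL3.SympType.xM_pow]
  fin_cases k <;> fin_cases r <;> fin_cases s <;>
    simp [dg, yM, pow_two, mul_comm j 2, Matrix.mul_apply, Fin.sum_univ_three] <;>
    ring

theorem wm_eq (hω : ω ^ 3 = 1) (v : ZMod 3 × ZMod 3) :
    (wm ω v).submatrix e3.symm e3.symm =
      ω ^ (e3 v.1 * e3 v.2 : Fin 3).val • (xM ω ^ (e3 v.2).val * yM ^ (e3 v.1).val) := by
  obtain ⟨a, b⟩ := v
  have key : ∀ a b s : ZMod 3,
      (b * s + 2 * (a * b)).val % 3 = ((a * b).val + b.val * (s + a).val) % 3 := by decide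
  ext r s
  rw [Matrix.smul_apply, xy_entry, Matrix.submatrix_apply, smul_eq_mul]
  show (if e3.symm r = e3.symm s + a then ω ^ (b * e3.symm s + 2 * (a * b)).val else 0) =
    ω ^ (a * b).val * (if e3.symm r = e3.symm s + a then ω ^ (b.val * (e3.symm r).val) else 0)
  by_cases he : e3.symm r = e3.symm s + a
  · rw [if_pos he, if_pos he, he, ← pow_add, pow_eq_pow_mod _ hω, key, ← pow_eq_pow_mod _ hω]
  · rw [if_neg he, if_neg he, mul_zero]

/-- multiples of the operators are the elements of the standard group -/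
theorem isR0_iff (hω : ω ^ 3 = 1) {N : M3} :
    IsR0 ω N ↔ ∃ (i : ℕ) (v : ZMod 3 × ZMod 3), N = ω ^ i • (wm ω v).submatrix e3.symm e3.symm := by
  constructor
  · rintro ⟨i, j, k, rfl⟩
    refine ⟨(i : ℕ) + 2 * (k * j : Fin 3).val, (e3.symm k, e3.symm j), ?_⟩
    rw [wm_eq hω, smul_smul, ← pow_add, Equiv.apply_symm_apply, Equiv.apply_symm_apply, add_assoc,
      show 2 * (k * j : Fin 3).val + (k * j : Fin 3).val = 3 * (k * j : Fin 3).val by ring, pow_add, pow_mul, hω,
      one_pow, mul_one]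
  · rintro ⟨i, v, rfl⟩
    rw [wm_eq hω, smul_smul, ← pow_add, pow_eq_pow_mod _ hω]
    exact ⟨⟨_, Nat.mod_lt _ (by norm_num)⟩, e3 v.2, e3 v.1, rfl⟩

variable (h : Amb M p ω)
include h

/-- the ambient data of the symplectic argument -/
def amb : SympNine.Amb F where
  p := p
  prime := h.prime
  ω := ω
  unit := True
  cube := ⟨h.root, h.three⟩
  card := Or.inr ⟨trivial, h.card, h.mod3⟩

theorem rho_mem_GU {g : T3} : rho g ∈ Cfsg.GU 3 F p ↔ g ∈ (amb h).Isom (ZMod 3) := by
  have hadj : ∀ N : Z3, Classical.UnitaryConj.adj h.card (N.submatrix e3.symm e3.symm) =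
      ((N.map (amb h).bar)ᵀ).submatrix e3.symm e3.symm := fun N => rfl
  rw [Classical.UnitaryConj.mem_GU_iff h.card, rho_val, hadj, Matrix.submatrix_mul_equiv, SympNine.Amb.mem_isom]
  constructor
  · intro e _
    have := congrArg (fun X => X.submatrix e3 e3) e
    simpa [Matrix.submatrix_submatrix] using this
  · intro e
    rw [e trivial, Matrix.submatrix_one_equiv]

theorem det_rho (g : T3) : ((rho g : GL3) : M3).det = (g : Z3).det := by
  rw [rho_val, Matrix.det_submatrix_equiv_self]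

/-- an element inducing a map of the labels normalises the standard group -/
theorem nrm0_of_acts {g : GL3} {σ : ZMod 3 × ZMod 3 → ZMod 3 × ZMod 3}
    (e : ∀ v, ∃ i : ℕ, (g : M3) * (wm ω v).submatrix e3.symm e3.symm =
      (ω ^ i • (wm ω (σ v)).submatrix e3.symm e3.symm) * (g : M3)) : Nrm0 ω g := by
  have hc := h.cube
  have hX : (wm ω ((0, 1) : ZMod 3 × ZMod 3)).submatrix e3.symm e3.symm = xM ω := by
    rw [wm_eq hc]
    show ω ^ 0 • (xM ω ^ 1 * yM ^ 0) = _
    simp
  have hY : (wm ω ((1, 0) : ZMod 3 × ZMod 3)).submatrix e3.symm e3.symm = (yM : M3) := by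
    rw [wm_eq hc]
    show ω ^ 0 • (xM ω ^ 0 * yM ^ 1) = _
    simp
  constructor
  · obtain ⟨i, hi⟩ := e (0, 1)
    exact ⟨_, (isR0_iff hc).2 ⟨i, σ (0, 1), rfl⟩, hX ▸ hi⟩
  · obtain ⟨i, hi⟩ := e (1, 0)
    exact ⟨_, (isR0_iff hc).2 ⟨i, σ (1, 0), rfl⟩, hY ▸ hi⟩

/-- a group inside `M` up to scalars does not contain the plane groups -/
theorem not_planar {H : Subgroup T3}
    (hH : ∀ g ∈ H, ∃ (d : F) (m : T3), rho m ∈ M ∧ (g : Z3) = d • (m : Z3)) :
    ¬ SympNine.Three.Planar (amb h) H := by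
  intro hall
  obtain ⟨μ, hμ⟩ := Forms.Max.Unitary.exists_norm h.card (d := (-1 : F))
    (Odd.neg_one_pow (h.prime.odd_of_ne_two h.two_ne))
  obtain ⟨c, hc0, hct⟩ := Classical.Unitary.exists_traceZero h.card
  have hcp : c ^ p = -c := eq_neg_of_add_eq_zero_right hct
  have hμμ : (μ ^ p) ^ p = μ := Classical.Unitary.pow_qq h.card μ
  set Y : Matrix (Fin 2) (Fin 2) F := !![1 + c, c * μ ^ p; c * μ, 1 - c] with hY
  have hYd : Y.det = 1 := by
    rw [hY, Matrix.det_fin_two_of]
    linear_combination -c * c * hμ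
  have hb : ∀ x : F, (amb h).bar x = x ^ p := fun x => rfl
  have hYP : (amb h).Pres Y := fun _ => by
    have b1 : (amb h).bar (1 + c) = 1 - c := by rw [map_add, map_one, hb, hcp]; ring
    have b2 : (amb h).bar (1 - c) = 1 + c := by rw [map_sub, map_one, hb, hcp]; ring
    have b3 : (amb h).bar (c * μ ^ p) = -c * μ := by rw [map_mul, hb, hb, hcp, hμμ]
    have b4 : (amb h).bar (c * μ) = -c * μ ^ p := by rw [map_mul, hb, hb, hcp]
    have e : (Y.map (amb h).bar)ᵀ = !![1 - c, -c * μ ^ p; -c * μ, 1 + c] := by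
      ext i j
      fin_cases i <;> fin_cases j <;> first | exact b1 | exact b2 | exact b3 | exact b4
    rw [e, hY, Matrix.mul_fin_two, Matrix.one_fin_two]
    ext i j
    fin_cases i <;> fin_cases j <;> simp <;> first | linear_combination (-c * c) * hμ | ring
  obtain ⟨g, hg, eg⟩ := hall ⟨⟨Y, hYd⟩, hYP⟩
  obtain ⟨d, m, hm, em⟩ := hH g hg
  set B : M3 := !![1, 0, 0; 0, 1 + c, c * μ ^ p; 0, c * μ, 1 - c] with hB
  have hdB : d • ((rho m : GL3) : M3) = B := by
    have e := congrArg (fun X : Z3 => X.submatrix e3.symm e3.symm) (em.symm.trans eg)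
    refine Eq.trans ?_ (e.trans ?_)
    · rfl
    · ext i j
      fin_cases i <;> fin_cases j <;> rfl
  have hd3 : d ^ 3 = 1 := by
    have e1 := congrArg Matrix.det hdB
    rw [Matrix.det_smul, Fintype.card_fin, h.det_eq ⟨_, hm, rfl⟩, mul_one] at e1
    rw [e1, hB, Matrix.det_fin_three]
    simp
    linear_combination -c * c * hμ
  obtain ⟨i, -, hi⟩ := h.eq_pow_of_cube hd3
  have hT : Mem M (d • ((rho m : GL3) : M3)) := by
    have := (h.mem_of_isR0 (h.isR0_root i)).mul ⟨_, hm, rfl⟩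
    rwa [Matrix.smul_mul, one_mul, ← hi] at this
  have hS : B = 1 + vecMulVec ![0, c, c * μ] ![0, 1, μ ^ p] := by
    rw [hB]
    ext a b
    fin_cases a <;> fin_cases b <;> simp [Matrix.vecMulVec_apply] <;> linear_combination (-c) * hμ
  rw [hdB, hS] at hT
  rcases h.noTr.eq_zero hT (by simp [dotProduct, Fin.sum_univ_three]; linear_combination c * hμ) with e | e
  · exact hc0 (by simpa using congrFun e 1)
  · exact one_ne_zero (α := F) (by simpa using congrFun e 1)

/-- **`p ≡ 8 mod 9`: no transvections means inside the normaliser.** -/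
theorem normalises (h9 : p % 9 = 8)
    (hin : ∀ g ∈ Cfsg.GU 3 F p ⊓ Cfsg.Geo.specialLinear (Fin 3) F, Nrm0 ω g → g ∈ M) :
    ∀ g ∈ M, Nrm0 ω g := by
  classical
  haveI := h.fact
  haveI := h.charP
  set A := amb h with hA
  have hω : A.ω = ω := rfl
  have hc := h.cube
  set M' : Subgroup T3 := M.comap (rho (F := F)).toMonoidHom
  have hM'K : ∀ m ∈ M', m ∈ A.Isom (ZMod 3) ∧ (m : Z3).det = 1 := fun m hm => by
    obtain ⟨h1, h2⟩ := h.le hm
    exact ⟨(rho_mem_GU h).1 h1, det_rho h m ▸ Aschbacher.mem_specialLinear.1 h2⟩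
  let H : Subgroup T3 :=
    { carrier := {g | ∃ (c : F) (hc : A.Unim c), ∃ m ∈ M', g = sg (ZMod 3) hc.1 * m}
      one_mem' := ⟨1, A.unim_one, 1, one_mem _, Units.ext (by simp)⟩
      mul_mem' := by
        rintro _ _ ⟨c, hc, m, hm, rfl⟩ ⟨d, hd, n, hn, rfl⟩
        exact ⟨c * d, hc.mul hd, m * n, mul_mem hm hn, Units.ext (by simp [smul_smul, mul_comm])⟩
      inv_mem' := by
        rintro _ ⟨c, hc, m, hm, rfl⟩
        refine ⟨c⁻¹, hc.inv, m⁻¹, inv_mem hm, ?_⟩
        rw [_root_.mul_inv_rev]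
        refine Units.ext ?_
        simp only [Units.val_mul, SympNine.sg_val, Matrix.smul_mul, one_mul]
        show _ * (c⁻¹ • (1 : Z3)) = _
        rw [Matrix.mul_smul, mul_one] }
  have hHM : ∀ m ∈ M', m ∈ H := fun m hm => ⟨1, A.unim_one, m, hm, Units.ext (by simp)⟩
  -- a scalar of order nine
  obtain ⟨ζ, hζ, hζu⟩ : ∃ ζ : F, ζ ^ 3 = ω ∧ A.Unim ζ := by
    have h9d : 9 ∣ p + 1 := by omega
    have hcard : 9 ∣ Fintype.card Fˣ := by
      rw [Fintype.card_units, h.card]
      refine h9d.trans ⟨p - 1, ?_⟩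
      have h' := Nat.sq_sub_sq p 1
      simpa using h'
    obtain ⟨z, hz⟩ := IsCyclic.exists_ofOrder_eq_natCard (α := Fˣ)
    rw [Nat.card_eq_fintype_card] at hz
    obtain ⟨m, hm⟩ := hcard
    set y : F := ((z ^ m : Fˣ) : F)
    have hy : y ^ 9 = 1 := by
      rw [← Units.val_pow_eq_pow_val, ← pow_mul, mul_comm, ← hm, ← hz, pow_orderOf_eq_one, Units.val_one]
    have hy3 : y ^ 3 ≠ 1 := fun e => by
      have e' : z ^ (m * 3) = 1 := Units.ext (by rw [pow_mul, Units.val_pow_eq_pow_val, Units.val_one]; exact e)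
      have hd := orderOf_dvd_of_pow_eq_one e'
      have hpos : 0 < Fintype.card Fˣ := Fintype.card_pos
      rw [hz, hm] at hd
      have := Nat.le_of_dvd (by omega) hd
      omega
    have hu : ∀ x : F, x ^ 9 = 1 → A.Unim x := fun x hx => by
      obtain ⟨k, hk⟩ := h9d
      refine ⟨fun e => by simp [e] at hx, fun _ => ?_⟩
      show x ^ p * x = 1
      rw [← pow_succ, hk, pow_mul, hx, one_pow]
    have hy33 : (y ^ 3) ^ 3 = 1 := by rw [← pow_mul]; exact hy
    obtain ⟨k, hk, ek⟩ := h.eq_pow_of_cube hy33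
    interval_cases k
    · exact absurd (ek.trans (pow_zero ω)) hy3
    · exact ⟨y, ek.trans (pow_one ω), hu y hy⟩
    · refine ⟨y ^ 2, ?_, hu _ (by rw [← pow_mul, mul_comm, pow_mul, hy, one_pow])⟩
      rw [← pow_mul, show 2 * 3 = 3 * 2 from rfl, pow_mul, ek, ← pow_mul]
      linear_combination ω * hc
  have hpow : ∀ n : ℕ, A.Unim (ζ ^ n) := fun n => by
    induction n with
    | zero => simpa using A.unim_one
    | succ n ih => rw [pow_succ]; exact ih.mul hζu
  have hrich : Rich A H := by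
    refine ⟨?_, fun v => ⟨1, wu A.cube.pow_three v, hHM _ ?_, by simp⟩, fun v => ?_,
      fun c hc => ⟨c, hc, 1, one_mem _, by simp⟩⟩
    · rintro _ ⟨c, hc, m, hm, rfl⟩
      exact mul_mem (SympNine.sg_mem hc) (hM'K m hm).1
    · have hR : IsR0 ω ((rho (wu A.cube.pow_three v) : GL3) : M3) :=
        (isR0_iff hc).2 ⟨0, v, by rw [pow_zero, one_smul]; rfl⟩
      obtain ⟨g, hg, e⟩ := h.mem_of_isR0 hR
      show rho _ ∈ M
      exact (Units.ext e : g = rho _) ▸ hg
    · set d : F := ((tu A.cube v : T3) : Z3).det with hd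
      have hd3 : d ^ 3 = 1 := by
        rw [hd, ← Matrix.det_pow]
        show (tm ω ω v ^ 3).det = 1
        rw [pow_succ, pow_two, SympNine.tm_mul (ω := ω) ⟨h.root, h.three⟩, SympNine.tm_mul (ω := ω) ⟨h.root, h.three⟩,
          show ω * ω * ω = 1 by linear_combination hc, SympNine.tm_one, Matrix.det_one]
      obtain ⟨i, -, hi⟩ := h.eq_pow_of_cube (show d⁻¹ ^ 3 = 1 by rw [inv_pow, hd3, inv_one])
      have hcu : A.Unim (ζ ^ i) := hpow i
      set g : T3 := sg (ZMod 3) hcu.1 * tu A.cube v with hg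
      have hgv : (g : Z3) = ζ ^ i • tm ω ω v := by rw [hg]; simp [tu, hω]
      refine ⟨ζ ^ i, g, hHM g ?_, hgv⟩
      refine hin (rho g) ⟨(rho_mem_GU h).2 (mul_mem (SympNine.sg_mem hcu) (SympNine.tu_mem v)), ?_⟩ ?_
      · refine Aschbacher.mem_specialLinear.2 ?_
        rw [det_rho h, hgv, Matrix.det_smul, ZMod.card, show (ζ ^ i) ^ 3 = ω ^ i by rw [pow_right_comm, hζ], ← hi]
        exact inv_mul_cancel₀ fun e => by simp [e] at hd3
      · refine nrm0_of_acts h (σ := SympNine.tv v) fun w => ⟨0, ?_⟩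
        have ht : (g : Z3) * wm ω w = wm ω (SympNine.tv v w) * (g : Z3) := by
          rw [hgv, Matrix.smul_mul, Matrix.mul_smul]
          congr 1
          exact SympNine.tm_wm A.cube v w
        rw [pow_zero, one_smul, rho_val, Matrix.submatrix_mul_equiv, Matrix.submatrix_mul_equiv, ht]
  rcases SympNine.Three.base h.two_ne hrich with hall | hall
  · intro g hg
    set g' : T3 := rho.symm g with hg'
    have hgg : rho g' = g := MulEquiv.apply_symm_apply _ _
    have hn := hall g' (hHM g' (show rho g' ∈ M by rw [hgg]; exact hg))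
    choose σ c hσ using hn
    refine nrm0_of_acts h (σ := σ) fun v => ?_
    have e : (g : M3) * (wm ω v).submatrix e3.symm e3.symm =
        (c v • (wm ω (σ v)).submatrix e3.symm e3.symm) * (g : M3) := by
      have hσ' : (g' : Z3) * wm ω v = c v • (wm ω (σ v) * (g' : Z3)) := hσ v
      rw [← hgg, rho_val, Matrix.submatrix_mul_equiv, hσ', Matrix.smul_mul, Matrix.submatrix_mul_equiv]
      ext i j
      simp
    have hdet : ∀ w, ((wm ω w).submatrix e3.symm e3.symm).det = 1 := fun w =>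
      h.det_eq (h.mem_of_isR0 ((isR0_iff hc).2 ⟨0, w, by rw [pow_zero, one_smul]⟩))
    have hg1 : (g : M3).det = 1 := h.det_eq ⟨g, hg, rfl⟩
    have e1 := congrArg Matrix.det e
    rw [Matrix.det_mul, Matrix.det_mul, Matrix.det_smul, hdet, hdet, hg1, Fintype.card_fin, mul_one, mul_one,
      mul_one] at e1
    obtain ⟨i, -, hi⟩ := h.eq_pow_of_cube e1.symm
    exact ⟨i, by rw [← hi]; exact e⟩
  · refine absurd hall (not_planar h ?_)
    rintro _ ⟨c, hc, m, hm, rfl⟩
    exact ⟨c, m, hm, by rw [Units.val_mul, SympNine.sg_val, Matrix.smul_mul, one_mul]⟩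

end Cfsg.Agent.Forms.Max.SU3.SympType.Nine
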