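import Mathlib
import Cfsg.Agent.Lib.Forms.Max.SU3.SympType.Data

/-!
# A group containing the normaliser and no transvection is the normaliser, `p` not `8` modulo 9
-/

set_option autoImplicit false
set_option linter.unusedSectionVars false

namespace Cfsg.Agent.Forms.Max.SU3.SympType

open Cfsg.Agent.Forms.Max.SL3.SympType hiding Amb

variable {F : Type*} [Field F] [Fintype F] {H : Subgroup (GL (Fin 3) F)} {p : ℕ} {ω : F}

/-- **No transvections: the group normalises the extraspecial group.** -/
theorem normalises (h : Amb H p ω) (h9 : p % 9 ≠ 8) : ∀ g ∈ H, Nrm0 ω g := by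
  intro g hg
  refine (h.mem_normalizer_iff_nrm0 (g := ⟨g, hg⟩)).1 ?_
  rw [h.le_normalizer_r0 h9 (h.elem h9)]
  exact Subgroup.mem_top _

end Cfsg.Agent.Forms.Max.SU3.SympType
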