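import Mathlib
import Cfsg.Agent.Lib.Forms.Max.SU3.Subspace
import Cfsg.Agent.Lib.Forms.Max.SU3.Line
import Cfsg.Agent.Lib.Forms.Max.SL3.SympType.Std

/-!
# A transvection and the extraspecial group give the whole special unitary group

Over the field of order `p ^ 2` one transvection gives the full root group of its centre; the diagonal generator moves
the centre to a non-orthogonal one, and the two centres fill a line that the extraspecial group moves.
-/

set_option autoImplicit false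
set_option linter.unusedSectionVars false
set_option linter.style.haveILetI false

namespace Cfsg.Agent.Forms.Max.SU3.SympType

open Matrix Cfsg.Agent.Classical Cfsg.Agent.Classical.Unitary
open Cfsg.Agent.Forms.Max.SL3.SympType (Mem xM yM dg)

universe u

variable {F : Type u} [Field F] [Fintype F] {p : ℕ}

local notation "Vec" => (Fin 3 → F)
local notation "M3" => Matrix (Fin 3) (Fin 3) F
local notation "GL3" => GL (Fin 3) F
local notation "H" => Cfsg.hermForm 3 F p
local notation "SUn" => (Cfsg.GU 3 F p ⊓ Cfsg.Geo.specialLinear (Fin 3) F)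

variable (hF : Fintype.card F = p ^ 2)
include hF

/-- a transvection preserving the form -/
theorem tv_shape {g : GL3} (hg : g ∈ SUn) {u φ : Vec} (hu : u ≠ 0) (hφ : φ ≠ 0) (h0 : φ ⬝ᵥ u = 0)
    (hx : ∀ x, (g : M3) *ᵥ x = x + (φ ⬝ᵥ x) • u) :
    H u u = 0 ∧ ∃ c : F, c ≠ 0 ∧ c + c ^ p = 0 ∧ ∀ x, φ ⬝ᵥ x = c * H x u := by
  have e : ∀ x y : Vec, (φ ⬝ᵥ x) * H u y + (φ ⬝ᵥ y) ^ p * H x u + (φ ⬝ᵥ x) * (φ ⬝ᵥ y) ^ p * H u u = 0 := by
    intro x y
    have h1 := Forms.Max.Unitary.SUn_H hg x y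
    rw [hx, hx] at h1
    simp only [H_add_left, H_add_right hF, H_smul_left, H_smul_right] at h1
    linear_combination h1
  obtain ⟨x₁, hx₁⟩ : ∃ x, φ ⬝ᵥ x ≠ 0 := by
    by_contra hc
    push Not at hc
    exact hφ (dotProduct_eq_zero φ hc)
  have hq0 : p ≠ 0 := q_ne_zero hF
  have hperp : ∀ y, φ ⬝ᵥ y = 0 → H u y = 0 := fun y hy => by
    have := e x₁ y
    rw [hy, zero_pow hq0, zero_mul, mul_zero, zero_mul, add_zero, add_zero] at this
    exact (mul_eq_zero.1 this).resolve_left hx₁
  have huu : H u u = 0 := hperp u h0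
  refine ⟨huu, ?_⟩
  have huy : ∀ y, H y u = (φ ⬝ᵥ y / φ ⬝ᵥ x₁) * H x₁ u := fun y => by
    have h1 := hperp (y - (φ ⬝ᵥ y / φ ⬝ᵥ x₁) • x₁) (by
      rw [dotProduct_sub, dotProduct_smul, smul_eq_mul, div_mul_cancel₀ _ hx₁, sub_self])
    have h2 := (H_eq_zero_comm hF).1 h1
    rw [H_sub_left, H_smul_left, sub_eq_zero] at h2
    exact h2
  have h1u : H x₁ u ≠ 0 := fun h => hu (eq_zero_of_H hF fun y => (H_eq_zero_comm hF).1 (by rw [huy, h, mul_zero]))
  refine ⟨φ ⬝ᵥ x₁ / H x₁ u, div_ne_zero hx₁ h1u, ?_, fun x => ?_⟩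
  · have := e x₁ x₁
    rw [huu, mul_zero, add_zero, ← H_conj hF x₁ u] at this
    rw [div_pow]
    have hpw := pow_ne_zero p h1u
    field_simp
    linear_combination this
  · rw [huy x]
    field_simp

/-- the centre of a transvection of the group -/
theorem mem_centres (hp : p.Prime) {M : Subgroup GL3} (hM : M ≤ SUn) {g : GL3} (hg : g ∈ M) {u φ : Vec} (hu : u ≠ 0)
    (hφ : φ ≠ 0) (h0 : φ ⬝ᵥ u = 0) (hx : ∀ x, (g : M3) *ᵥ x = x + (φ ⬝ᵥ x) • u) :
    u ∈ Forms.Max.Unitary.centres p M := by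
  obtain ⟨huu, c, hc0, hc, hφc⟩ := tv_shape hF (hM hg) hu hφ h0 hx
  refine ⟨huu, fun t d hd ht => ?_⟩
  haveI : Fact p.Prime := ⟨hp⟩
  haveI : CharP F p := charP_of_card_eq_prime_pow hF
  have hr : (d / c) ^ p = d / c := by
    rw [div_pow, eq_neg_of_add_eq_zero_right hd, eq_neg_of_add_eq_zero_right hc, neg_div_neg_eq]
  have e := (Subfield.mem_bot_iff_pow_eq_self F p).2 hr
  rw [← ZMod.fieldRange_castHom_eq_bot p] at e
  obtain ⟨k, hk⟩ := e
  rw [ZMod.castHom_apply, ← ZMod.natCast_val] at hk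
  have key : ∀ n : ℕ, ∀ x, ((g ^ n : GL3) : M3) *ᵥ x = x + ((n : F) * (c * H x u)) • u := by
    intro n
    induction n with
    | zero => simp
    | succ n ih =>
      intro x
      rw [pow_succ', Units.val_mul, ← Matrix.mulVec_mulVec, ih, hx, hφc, H_add_left, H_smul_left, huu, mul_zero,
        add_zero, Nat.cast_succ]
      module
  have : t = g ^ k.val := by
    refine Max.gl_ext fun x => ?_
    rw [ht, key, hk]
    congr 2
    field_simp
  exact this ▸ pow_mem hg _

/-- **A transvection gives everything.** -/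
theorem le_of_tr (hp : p.Prime) (h3 : 3 ≤ p) (hp3 : p % 3 = 2) {ω : F} (hω : ω ^ 2 + ω + 1 = 0)
    {M : Subgroup GL3} (hM : M ≤ SUn) (hX : Mem M (xM ω)) (hY : Mem M (yM (F := F))) {g : GL3} (hg : g ∈ M)
    {u φ : Vec} (hu : u ≠ 0) (hφ : φ ≠ 0) (h0 : φ ⬝ᵥ u = 0) (hx : ∀ x, (g : M3) *ᵥ x = x + (φ ⬝ᵥ x) • u) :
    SUn ≤ M := by
  haveI : Fact p.Prime := ⟨hp⟩
  haveI : CharP F p := charP_of_card_eq_prime_pow hF
  have h3F : (3 : F) ≠ 0 := by
    intro e
    have : ((3 : ℕ) : F) = 0 := by exact_mod_cast e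
    rw [CharP.cast_eq_zero_iff F p, Nat.prime_dvd_prime_iff_eq hp Nat.prime_three] at this
    omega
  have hcube : ω ^ 3 = 1 := by linear_combination (ω - 1) * hω
  have hne : ω ≠ 1 := fun e => h3F (by linear_combination hω - (ω + 2) * e)
  have hne0 : ω ≠ 0 := fun e => by simp [e] at hcube
  have hne2 : ω ^ 2 ≠ 1 := fun e => hne (by linear_combination hcube - ω * e)
  have hcu := mem_centres hF hp hM hg hu hφ h0 hx
  obtain ⟨X, hXm, eX⟩ := hX
  obtain ⟨Y, hYm, eY⟩ := hY
  have hX2 : ((X * X : GL3) : M3) = dg 1 (ω ^ 2) ω := by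
    rw [Units.val_mul, eX, xM, Cfsg.Agent.Forms.Max.SL3.SympType.dg_mul]
    congr 1
    · rw [one_mul]
    · ring
    · linear_combination ω * hcube
  -- a second centre off the hyperplane of the first
  obtain ⟨v, hv, huv⟩ : ∃ v ∈ Forms.Max.Unitary.centres p M, H u v ≠ 0 := by
    by_contra hc
    push Not at hc
    have e1 := hc _ (Forms.Max.Unitary.centres_map hF hM hXm hcu)
    have e2 := hc _ (Forms.Max.Unitary.centres_map hF hM (mul_mem hXm hXm) hcu)
    rw [eX] at e1
    rw [hX2] at e2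
    have e0 := hcu.1
    have hwp : ω ^ p = ω ^ 2 := by rw [pow_eq_pow_mod p hcube, hp3]
    simp [Cfsg.hermForm, xM, dg, Matrix.mulVec, dotProduct, Fin.sum_univ_three, mul_pow, ← pow_mul, mul_comm 2 p] at e0 e1 e2
    rw [pow_mul, hwp] at e1 e2
    set n0 := u 0 * u 0 ^ p
    set n1 := u 1 * u 1 ^ p
    set n2 := u 2 * u 2 ^ p
    have k0 : (3 : F) * n0 = 0 := by grind
    have k1 : (3 : F) * n1 = 0 := by grind
    have k2 : (3 : F) * n2 = 0 := by grind
    refine hu (funext fun i => ?_)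
    have hp0 := hp.ne_zero
    have z : ∀ a : F, (3 : F) * (a * a ^ p) = 0 → a = 0 := fun a h => by
      rcases mul_eq_zero.1 ((mul_eq_zero.1 h).resolve_left h3F) with e | e
      · exact e
      · exact (pow_eq_zero_iff hp0).1 e
    fin_cases i
    · exact z _ k0
    · exact z _ k1
    · exact z _ k2
  -- the pole of the line
  set K : Vec := crossProduct u v with hK
  set w : Vec := fun i => K i ^ p with hw
  have hdot : ∀ x : Vec, H x w = x ⬝ᵥ K := fun x => by
    simp only [Cfsg.hermForm, dotProduct, hw]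
    exact Finset.sum_congr rfl fun i _ => by rw [pow_qq hF]
  have hli : LinearIndependent F ![u, v] := LinearIndependent.pair_iff.2 fun s t e => by
    have e1 := congrArg (fun y => H u y) e
    have e2 := congrArg (fun y => H y v) e
    simp only [H_add_right hF, H_smul_right, hcu.1, hv.1, H_add_left, H_smul_left, mul_zero, add_zero, zero_add,
      H_zero_left] at e1 e2
    have h0' : H u (0 : Vec) = 0 := (H_eq_zero_comm hF).1 (H_zero_left u)
    rw [h0'] at e1
    exact ⟨(mul_eq_zero.1 e2).resolve_right huv,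
      (pow_eq_zero_iff hp.ne_zero).1 ((mul_eq_zero.1 e1).resolve_right huv)⟩
  have hK0 : K ≠ 0 := crossProduct_ne_zero_iff_linearIndependent.2 hli
  have hspan : ∀ x : Vec, H x w = 0 → ∃ α β : F, x = α • u + β • v := by
    intro x hxw
    rw [hdot] at hxw
    have hd : Matrix.det ![x, u, v] = 0 := by rw [← triple_product_eq_det, ← hK, hxw]
    obtain ⟨c, hc, ec⟩ := Matrix.exists_vecMul_eq_zero_iff.2 hd
    have e : c 0 • x + c 1 • u + c 2 • v = 0 := by
      funext i
      have := congrFun ec i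
      simp [Matrix.vecMul, dotProduct, Fin.sum_univ_three] at this ⊢
      exact this
    by_cases h0c : c 0 = 0
    · rw [h0c, zero_smul, zero_add] at e
      obtain ⟨h1, h2⟩ := LinearIndependent.pair_iff.1 hli _ _ e
      exact absurd (funext fun i => by fin_cases i <;> simpa) hc
    · refine ⟨-c 1 / c 0, -c 2 / c 0, smul_right_injective Vec h0c ?_⟩
      simp only [smul_add, smul_smul, mul_div_cancel₀ _ h0c]
      linear_combination (norm := module) e
  have hw0 : w ≠ 0 := fun e => hK0 (funext fun i => (pow_eq_zero_iff hp.ne_zero).1 (congrFun e i))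
  have hww : H w w ≠ 0 := by
    intro e
    obtain ⟨α, β, eab⟩ := hspan w e
    have hwu : H u w = 0 := by rw [hdot, hK, dot_self_cross]
    have hwv : H v w = 0 := by rw [hdot, hK, dot_cross_self]
    rw [eab, H_add_right hF, H_smul_right, H_smul_right] at hwu hwv
    rw [hcu.1, mul_zero, zero_add] at hwu
    rw [hv.1, mul_zero, add_zero] at hwv
    have hβ := (pow_eq_zero_iff hp.ne_zero).1 ((mul_eq_zero.1 hwu).resolve_right huv)
    have hα := (pow_eq_zero_iff hp.ne_zero).1
      ((mul_eq_zero.1 hwv).resolve_right fun h => huv ((H_eq_zero_comm hF).1 h))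
    exact hw0 (by rw [eab, hα, hβ, zero_smul, zero_smul, add_zero])
  have hc : ∀ x, H x w = 0 → H x x = 0 → x ∈ Forms.Max.Unitary.centres p M := by
    intro x hxw hxx
    obtain ⟨α, β, rfl⟩ := hspan x hxw
    exact centres_line hF hM hcu hv huv hxx
  -- an element moving the pole
  by_cases hXw : (X : M3) *ᵥ w ∈ Submodule.span F {w}
  swap
  · exact Subspace.sl_le_of_line hF rfl h3 hM hww hc hXm hXw
  by_cases hYw : (Y : M3) *ᵥ w ∈ Submodule.span F {w}
  swap
  · exact Subspace.sl_le_of_line hF rfl h3 hM hww hc hYm hYw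
  exfalso
  obtain ⟨a, ha⟩ := Submodule.mem_span_singleton.1 hXw
  obtain ⟨b, hb⟩ := Submodule.mem_span_singleton.1 hYw
  rw [eX] at ha
  rw [eY] at hb
  have a0 := congrFun ha 0
  have a1 := congrFun ha 1
  have a2 := congrFun ha 2
  have b0 := congrFun hb 0
  have b1 := congrFun hb 1
  have b2 := congrFun hb 2
  simp [xM, dg, yM, Matrix.mulVec, dotProduct, Fin.sum_univ_three] at a0 a1 a2 b0 b1 b2
  refine hw0 (funext fun i => ?_)
  fin_cases i <;> simp <;> grind

end Cfsg.Agent.Forms.Max.SU3.SympType
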