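import Mathlib
import Cfsg.Prelude.Def_GeometricClasses
import Cfsg.Prelude.Def_LieClassical
import Cfsg.Agent.Lib.Forms.Max.UnitaryBase
import Cfsg.Agent.Lib.Forms.Max.SL3.SympType.Norm

/-!
# An absolutely irreducible group of order 27 of symplectic type in an orthonormal frame

The eigenvectors of a non-central element are orthogonal and permuted by a second one, so after scaling they give an
isometry carrying the standard group onto the given one.
-/

set_option autoImplicit false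
set_option linter.unusedSectionVars false
set_option linter.style.haveILetI false

namespace Cfsg.Agent.Forms.Max.SU3.SympType

open Matrix Cfsg.Agent.Classical.Unitary
open Cfsg.Agent.Forms.Max.SL3.SympType (IsR0 xM yM dg xM_pow yM_pow_three)

variable {F : Type*} [Field F] [Fintype F] {p : ℕ} {ω : F}

local notation "Vec" => (Fin 3 → F)
local notation "M3" => Matrix (Fin 3) (Fin 3) F
local notation "GL3" => GL (Fin 3) F
local notation "H" => Cfsg.hermForm 3 F p

theorem exists_pow_eq (h3 : (3 : F) ≠ 0) (hω : ω ^ 2 + ω + 1 = 0) {x : F} (hx : x ^ 3 = 1) :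
    x = 1 ∨ x = ω ∨ x = ω ^ 2 := by
  have : (x - 1) * ((x - ω) * (x - ω ^ 2)) = 0 := by
    linear_combination hx + (x - x ^ 2 + (ω - 1) * (x - 1)) * hω
  rcases mul_eq_zero.1 this with e | e
  · exact Or.inl (sub_eq_zero.1 e)
  · exact Or.inr ((mul_eq_zero.1 e).imp sub_eq_zero.1 sub_eq_zero.1)

/-- the isometries among the similarities of exponent three -/
theorem isometry_of_similarity (hF : Fintype.card F = p ^ 2) (hp3 : p % 3 = 2) {g : GL3} (hg3 : g * g * g = 1)
    (hg : g ∈ Cfsg.Geo.similarityGroup H) : ∀ u v, H ((g : M3) *ᵥ u) ((g : M3) *ᵥ v) = H u v := by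
  obtain ⟨c, hc⟩ := hg
  have hp : p ≠ 0 := by omega
  let e : Vec := Pi.single 0 1
  have he : H e e = 1 := by simp [Cfsg.hermForm, e, Fin.sum_univ_three, zero_pow hp]
  have hc3 : (c : F) ^ 3 = 1 := by
    have h1 : H (((g * g * g : GL3) : M3) *ᵥ e) (((g * g * g : GL3) : M3) *ᵥ e) = (c : F) ^ 3 := by
      simp only [Units.val_mul, ← Matrix.mulVec_mulVec, hc, he]
      ring
    rwa [hg3, Units.val_one, Matrix.one_mulVec, he, eq_comm] at h1
  have hcq : (c : F) ^ p = c := by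
    have h1 := hc e e
    rw [he, mul_one] at h1
    rw [← h1, H_conj hF]
  have hc1 : (c : F) = 1 := by
    rw [pow_eq_pow_mod p hc3, hp3, pow_two] at hcq
    exact (mul_eq_left₀ c.ne_zero).1 hcq
  intro u v
  rw [hc, hc1, one_mul]

/-- two generators commuting up to the root of unity, and all cube roots of unity as scalars -/
theorem exists_gens (hp : p.Prime) (hF : Fintype.card F = p ^ 2) (hp3 : p % 3 = 2) (hω : ω ^ 2 + ω + 1 = 0)
    {R : Subgroup GL3} (hRs : Cfsg.Geo.IsSymplecticTypeGroup 3 R)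
    (hRi : Cfsg.Geo.ActsAbsolutelyIrreducibly (Cfsg.Geo.matrixSet R))
    (h27 : Nat.card R = 27) (hZ : Nat.card (Subgroup.center R) = 3) :
    ∃ a b : GL3, a ∈ R ∧ b ∈ R ∧ (a : M3) * b = ω • ((b : M3) * a) ∧
      (∀ g ∈ R, g * g * g = 1) ∧ (∀ c : F, c ^ 3 = 1 → ∃ z ∈ R, (z : M3) = c • 1) ∧
      ∀ g ∈ R, ∀ h ∈ R, ∃ c : F, c ^ 3 = 1 ∧ (g : M3) * h = c • ((h : M3) * g) := by
  classical
  haveI : Fact p.Prime := ⟨hp⟩
  haveI : CharP F p := charP_of_card_eq_prime_pow hF
  haveI : Fact (Nat.Prime 3) := ⟨Nat.prime_three⟩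
  haveI : Finite R := Nat.finite_of_card_ne_zero (by omega)
  have h3 : (3 : F) ≠ 0 := by
    intro e
    have : ((3 : ℕ) : F) = 0 := by exact_mod_cast e
    rw [CharP.cast_eq_zero_iff F p, Nat.prime_dvd_prime_iff_eq hp Nat.prime_three] at this
    omega
  have hcube : ω ^ 3 = 1 := by linear_combination (ω - 1) * hω
  have hne : ω ≠ 1 := fun e => h3 (by linear_combination hω - (ω + 2) * e)
  have hne2 : ω ^ 2 ≠ 1 := fun e => hne (by linear_combination hcube - ω * e)
  have hne0 : ω ≠ 0 := fun e => by simp [e] at hcube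
  have cube : ∀ r : R, r * r * r = 1 := fun r => by
    have h := Monoid.pow_exponent_eq_one r
    rwa [hRs.exponent_eq, show 3 * Nat.gcd 2 3 = 3 from rfl, pow_succ, pow_two] at h
  have cubeM : ∀ g : GL3, g ∈ R → (g : M3) * g * g = 1 := fun g hg => by
    have := congrArg (fun r : R => ((r : GL3) : M3)) (cube ⟨g, hg⟩)
    simpa using this
  have scal : ∀ z : R, z ∈ Subgroup.center R → ∃ c : F, c ^ 3 = 1 ∧ ((z : GL3) : M3) = c • 1 := by
    intro z hz
    obtain ⟨c, hc⟩ := hRi.2 ((z : GL3) : M3) (by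
      rintro _ ⟨s, hs, rfl⟩
      have := congrArg (fun r : R => ((r : GL3) : M3)) (Subgroup.mem_center_iff.1 hz ⟨s, hs⟩)
      simpa using this.symm)
    refine ⟨c, ?_, hc⟩
    have := cubeM _ z.2
    rw [hc] at this
    simp only [Matrix.smul_mul, one_mul, smul_smul] at this
    have := congrFun (congrFun this 0) 0
    simp at this
    linear_combination this
  -- the scalars of the group
  have hzmem : ∀ c : F, c ^ 3 = 1 → ∃ z ∈ R, (z : M3) = c • 1 := by
    obtain ⟨z, hz, hz1⟩ := (Subgroup.bot_or_exists_ne_one (Subgroup.center R)).resolve_left (fun e => by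
      rw [e, Subgroup.card_bot] at hZ; omega)
    obtain ⟨d, hd3, hd⟩ := scal z hz
    have hd1 : d ≠ 1 := fun e => hz1 (Subtype.ext (Units.ext (by rw [hd, e, one_smul]; simp)))
    intro c hc
    have hpow : ∀ k : ℕ, (((z ^ k : R) : GL3) : M3) = d ^ k • 1 := fun k => by
      rw [Subgroup.coe_pow, Units.val_pow_eq_pow_val, hd, smul_pow, one_pow]
    obtain ⟨k, hk⟩ : ∃ k : ℕ, d ^ k = c := by
      rcases exists_pow_eq h3 hω hd3 with e | e | e
      · exact absurd e hd1
      · rcases exists_pow_eq h3 hω hc with e' | e' | e'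
        · exact ⟨0, by rw [pow_zero, e']⟩
        · exact ⟨1, by rw [pow_one, e, e']⟩
        · exact ⟨2, by rw [e, e']⟩
      · rcases exists_pow_eq h3 hω hc with e' | e' | e'
        · exact ⟨0, by rw [pow_zero, e']⟩
        · exact ⟨2, by rw [e, e']; linear_combination ω * hcube⟩
        · exact ⟨1, by rw [pow_one, e, e']⟩
    exact ⟨_, (z ^ k).2, by rw [hpow, hk]⟩
  have qcomm : ∀ x y : R, ∃ c : F, c ^ 3 = 1 ∧
      ((x : GL3) : M3) * ((y : GL3) : M3) = c • (((y : GL3) : M3) * ((x : GL3) : M3)) := by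
    intro x y
    have hcard : Nat.card (R ⧸ Subgroup.center R) = 3 ^ 2 := by
      have := Subgroup.card_eq_card_quotient_mul_card_subgroup (Subgroup.center R)
      rw [h27, hZ] at this
      rw [show (3 : ℕ) ^ 2 = 9 from rfl]; omega
    have hcomm := IsPGroup.isMulCommutative_of_card_eq_prime_sq hcard
    have hm : x * y * (y * x)⁻¹ ∈ Subgroup.center R := by
      rw [← QuotientGroup.eq_one_iff, QuotientGroup.mk_mul, QuotientGroup.mk_mul, QuotientGroup.mk_inv,
        QuotientGroup.mk_mul, hcomm.is_comm.comm (x : R ⧸ Subgroup.center R), mul_inv_cancel]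
    obtain ⟨c, hc3, hc⟩ := scal _ hm
    refine ⟨c, hc3, ?_⟩
    have e : x * y = (x * y * (y * x)⁻¹) * (y * x) := by group
    have := congrArg (fun r : R => ((r : GL3) : M3)) e
    simp only [Subgroup.coe_mul, Units.val_mul] at this
    rw [this]
    simp only [Subgroup.coe_mul, Units.val_mul] at hc
    rw [hc, Matrix.smul_mul, one_mul]
  -- two generators
  obtain ⟨a, ha⟩ : ∃ a : R, a ∉ Subgroup.center R := by
    by_contra hc
    push Not at hc
    have : Nat.card (Subgroup.center R) = Nat.card R := by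
      rw [(Subgroup.eq_top_iff' _).2 hc, Subgroup.card_top]
    omega
  obtain ⟨b, hb⟩ : ∃ b : R, b * a ≠ a * b := by
    by_contra hc
    push Not at hc
    exact ha (Subgroup.mem_center_iff.2 hc)
  set A : M3 := ((a : GL3) : M3) with hA
  obtain ⟨B, ⟨bg, hbR, hbB⟩, hAB⟩ : ∃ B : M3, (∃ bg ∈ R, (bg : GL3).val = B) ∧ A * B = ω • (B * A) := by
    obtain ⟨c, hc3, hc⟩ := qcomm a b
    rcases exists_pow_eq h3 hω hc3 with rfl | rfl | rfl
    · rw [one_smul] at hc
      exact absurd (Subtype.ext (Units.ext (by simpa using hc.symm))) hb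
    · exact ⟨_, ⟨b, b.2, rfl⟩, hc⟩
    · refine ⟨_, ⟨(b * b : R), (b * b).2, rfl⟩, ?_⟩
      rw [Subgroup.coe_mul, Units.val_mul, ← Matrix.mul_assoc, hc, Matrix.smul_mul, Matrix.mul_assoc _ A, hc,
        Matrix.mul_smul, smul_smul, Matrix.mul_assoc]
      congr 1
      linear_combination ω * hcube
  exact ⟨a, bg, a.2, hbR, by rw [hbB]; exact hAB, fun g hg => congrArg Subtype.val (cube ⟨g, hg⟩), hzmem,
    fun g hg h hh => qcomm ⟨g, hg⟩ ⟨h, hh⟩⟩

/-- the orthonormal eigenframe of two commuting-up-to-root isometries of order three -/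
theorem exists_orth (hF : Fintype.card F = p ^ 2) (hp3 : p % 3 = 2) (hω : ω ^ 2 + ω + 1 = 0) (h3 : (3 : F) ≠ 0)
    {A B : M3} (hAB : A * B = ω • (B * A)) (hA3 : A * A * A = 1) (hB3 : B * B * B = 1)
    (hAU : ∀ u v, H (A *ᵥ u) (A *ᵥ v) = H u v) (hBU : ∀ u v, H (B *ᵥ u) (B *ᵥ v) = H u v) :
    ∃ P : GL3, P ∈ Cfsg.GU 3 F p ∧ A * (P : M3) = (P : M3) * xM ω ∧ B * (P : M3) = (P : M3) * yM := by
  have hcube : ω ^ 3 = 1 := by linear_combination (ω - 1) * hω
  have hne : ω ≠ 1 := fun e => h3 (by linear_combination hω - (ω + 2) * e)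
  have hne2 : ω ^ 2 ≠ 1 := fun e => hne (by linear_combination hcube - ω * e)
  obtain ⟨j, hj⟩ : ∃ j, (fun i => (1 + A + A * A) i j) ≠ (0 : Vec) := by
    by_contra hc
    push Not at hc
    have h0 : (1 : M3) + A + A * A = 0 := Matrix.ext fun i j => congrFun (hc j) i
    have h1 : (1 : M3) + ω • A + ω ^ 2 • (A * A) = 0 := by
      have e0 : ((1 : M3) + A + A * A) * B = B * ((1 : M3) + ω • A + ω ^ 2 • (A * A)) := by
        simp only [add_mul, mul_add, one_mul, mul_one, Matrix.mul_assoc A A B, hAB, Matrix.mul_smul,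
          ← Matrix.mul_assoc A B A, Matrix.smul_mul, smul_smul, Matrix.mul_assoc B A A, pow_two]
      rw [h0, zero_mul] at e0
      have := congrArg (fun M => B * B * M) e0.symm
      simp only [mul_zero, ← Matrix.mul_assoc, hB3, one_mul] at this
      exact this
    have h2 : (1 : M3) + ω ^ 2 • A + ω • (A * A) = 0 := by
      have e0 : ((1 : M3) + ω • A + ω ^ 2 • (A * A)) * B = B * ((1 : M3) + ω ^ 2 • A + ω • (A * A)) := by
        simp only [add_mul, mul_add, one_mul, mul_one, Matrix.mul_assoc A A B, hAB, Matrix.mul_smul,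
          ← Matrix.mul_assoc A B A, Matrix.smul_mul, smul_smul, Matrix.mul_assoc B A A, pow_two]
        rw [show ω * ω * (ω * ω) = ω by linear_combination ω * hcube]
      rw [h1, zero_mul] at e0
      have := congrArg (fun M => B * B * M) e0.symm
      simp only [mul_zero, ← Matrix.mul_assoc, hB3, one_mul] at this
      exact this
    have h' : (3 : F) • (1 : M3) = 0 := by
      have e : (3 : F) • (1 : M3) = (1 + A + A * A) + (1 + ω • A + ω ^ 2 • (A * A)) + (1 + ω ^ 2 • A + ω • (A * A)) := by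
        match_scalars <;> first | ring1 | linear_combination -hω
      rw [e, h0, h1, h2, add_zero, add_zero]
    have := congrFun (congrFun h' 0) 0
    simp at this
    exact h3 this
  set v0 : Vec := fun i => (1 + A + A * A) i j with hv0d
  have hv0 : v0 = (1 + A + A * A) *ᵥ Pi.single j 1 := by rw [Matrix.mulVec_single_one]; rfl
  have ev0 : A *ᵥ v0 = v0 := by
    rw [hv0, Matrix.mulVec_mulVec, mul_add, mul_add, mul_one, ← Matrix.mul_assoc, hA3]
    congr 1
    abel
  set v1 : Vec := B *ᵥ v0 with hv1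
  set v2 : Vec := B *ᵥ v1 with hv2
  have ev1 : A *ᵥ v1 = ω • v1 := by
    rw [hv1, Matrix.mulVec_mulVec, hAB, Matrix.smul_mulVec, ← Matrix.mulVec_mulVec, ev0]
  have ev2 : A *ᵥ v2 = ω ^ 2 • v2 := by
    rw [hv2, Matrix.mulVec_mulVec, hAB, Matrix.smul_mulVec, ← Matrix.mulVec_mulVec, ev1, Matrix.mulVec_smul,
      smul_smul, pow_two]
  have eb2 : B *ᵥ v2 = v0 := by
    rw [hv2, hv1, Matrix.mulVec_mulVec, Matrix.mulVec_mulVec, hB3, Matrix.one_mulVec]
  -- the form
  have hwp : ω ^ p = ω ^ 2 := by rw [pow_eq_pow_mod p hcube, hp3]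
  have orth : ∀ (x y : Vec) (l m : F), A *ᵥ x = l • x → A *ᵥ y = m • y → l * m ^ p ≠ 1 → H x y = 0 := by
    intro x y l m hx hy hlm
    have e : H (A *ᵥ x) (A *ᵥ y) = H x y := hAU x y
    rw [hx, hy, H_smul_left, H_smul_right] at e
    have e' : (l * m ^ p - 1) * H x y = 0 := by linear_combination e
    exact (mul_eq_zero.1 e').resolve_left (sub_ne_zero.2 hlm)
  have o01 : H v0 v1 = 0 := orth _ _ 1 ω (by rw [one_smul]; exact ev0) ev1 (by rw [one_mul, hwp]; exact hne2)
  have o02 : H v0 v2 = 0 := orth _ _ 1 (ω ^ 2) (by rw [one_smul]; exact ev0) ev2 (by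
    rw [one_mul, ← pow_mul, mul_comm, pow_mul, hwp]
    intro e; exact hne (by linear_combination e - ω * hcube))
  have o12 : H v1 v2 = 0 := orth _ _ ω (ω ^ 2) ev1 ev2 (by
    rw [← pow_mul, mul_comm 2 p, pow_mul, hwp]
    intro e; exact hne2 (by linear_combination e - ω ^ 2 * hcube))
  have o10 : H v1 v0 = 0 := (H_eq_zero_comm hF).1 o01
  have o20 : H v2 v0 = 0 := (H_eq_zero_comm hF).1 o02
  have o21 : H v2 v1 = 0 := (H_eq_zero_comm hF).1 o12
  set l : F := H v0 v0 with hl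
  have l1 : H v1 v1 = l := hBU v0 v0
  have l2 : H v2 v2 = l := (hBU v1 v1).trans l1
  have hlq : l ^ p = l := by rw [hl, H_conj hF]
  set Q : M3 := Matrix.of fun i k => (![v0, v1, v2] : Fin 3 → Vec) k i with hQ
  have hQc : ∀ c : Vec, Q *ᵥ c = c 0 • v0 + c 1 • v1 + c 2 • v2 := fun c => by
    funext i
    simp [hQ, Matrix.mulVec, dotProduct, Fin.sum_univ_three]
    ring
  have hv00 : v0 ≠ 0 := hj
  have hBinj : ∀ x : Vec, B *ᵥ x = 0 → x = 0 := fun x hx => by
    have := congrArg ((B * B) *ᵥ ·) hx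
    simpa [Matrix.mulVec_mulVec, hB3] using this
  have hQd : Q.det ≠ 0 := by
    intro hd
    obtain ⟨c, hc, ec⟩ := Matrix.exists_mulVec_eq_zero_iff.2 hd
    rw [hQc] at ec
    have e1 := congrArg (A *ᵥ ·) ec
    simp only [Matrix.mulVec_add, Matrix.mulVec_smul, ev0, ev1, ev2, smul_smul, Matrix.mulVec_zero] at e1
    have e2 := congrArg (A *ᵥ ·) e1
    simp only [Matrix.mulVec_add, Matrix.mulVec_smul, ev0, ev1, ev2, smul_smul, Matrix.mulVec_zero] at e2
    have k0 : ((3 : F) * c 0) • v0 = 0 := by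
      funext i
      have a0 := congrFun ec i
      have a1 := congrFun e1 i
      have a2 := congrFun e2 i
      simp only [Pi.smul_apply, Pi.add_apply, Pi.zero_apply, smul_eq_mul] at a0 a1 a2 ⊢
      grind
    have k1 : ((3 : F) * c 1) • v1 = 0 := by
      funext i
      have a0 := congrFun ec i
      have a1 := congrFun e1 i
      have a2 := congrFun e2 i
      simp only [Pi.smul_apply, Pi.add_apply, Pi.zero_apply, smul_eq_mul] at a0 a1 a2 ⊢
      grind
    have hv10 : v1 ≠ 0 := fun e => hv00 (hBinj _ e)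
    have hv20 : v2 ≠ 0 := fun e => hv10 (hBinj _ e)
    have c0 := (mul_eq_zero.1 ((smul_eq_zero.1 k0).resolve_right hv00)).resolve_left h3
    have c1 := (mul_eq_zero.1 ((smul_eq_zero.1 k1).resolve_right hv10)).resolve_left h3
    rw [c0, c1, zero_smul, zero_smul, zero_add, zero_add] at ec
    exact hc (funext fun i => by fin_cases i <;> simp [c0, c1, (smul_eq_zero.1 ec).resolve_right hv20])
  have hl0 : l ≠ 0 := by
    intro e
    refine hv00 (eq_zero_of_H hF fun y => ?_)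
    rw [show y = Q *ᵥ (Q⁻¹ *ᵥ y) by
      rw [Matrix.mulVec_mulVec, Matrix.mul_nonsing_inv _ (isUnit_iff_ne_zero.2 hQd), Matrix.one_mulVec], hQc]
    simp only [H_add_right hF, H_smul_right, o01, o02, ← hl, e]
    ring
  obtain ⟨μ, hμ⟩ := Forms.Max.Unitary.exists_norm hF (d := l⁻¹) (by rw [inv_pow, hlq])
  have hμ0 : μ ≠ 0 := fun e => by
    rw [e, mul_zero] at hμ
    exact inv_ne_zero hl0 hμ.symm
  have hPd : (μ • Q).det ≠ 0 := by
    rw [Matrix.det_smul]; exact mul_ne_zero (pow_ne_zero _ hμ0) hQd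
  set P : GL3 := Matrix.GeneralLinearGroup.mkOfDetNeZero (μ • Q) hPd with hP
  have hPv : (P : M3) = μ • Q := rfl
  refine ⟨P, ?_, ?_⟩
  · intro u v
    change H ((μ • Q) *ᵥ u) ((μ • Q) *ᵥ v) = H u v
    rw [Matrix.smul_mulVec, Matrix.smul_mulVec, hQc, hQc]
    simp only [H_add_left, H_add_right hF, H_smul_left, H_smul_right, o01, o02, o10, o12, o20, o21, l1, l2, ← hl]
    simp only [Cfsg.hermForm, Fin.sum_univ_three]
    have : μ * μ ^ p * l = 1 := by rw [mul_comm μ, hμ, inv_mul_cancel₀ hl0]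
    linear_combination (u 0 * v 0 ^ p + u 1 * v 1 ^ p + u 2 * v 2 ^ p) * this
  · have eA : A * (P : M3) = (P : M3) * xM ω := by
      rw [hPv, Matrix.mul_smul, Matrix.smul_mul]
      congr 1
      refine Matrix.ext_of_mulVec_single fun k => ?_
      rw [← Matrix.mulVec_mulVec, ← Matrix.mulVec_mulVec, hQc, hQc, Matrix.mulVec_add, Matrix.mulVec_add,
        Matrix.mulVec_smul, Matrix.mulVec_smul, Matrix.mulVec_smul, ev0, ev1, ev2]
      fin_cases k <;> simp [xM, dg]
    have eB : B * (P : M3) = (P : M3) * yM := by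
      rw [hPv, Matrix.mul_smul, Matrix.smul_mul]
      congr 1
      refine Matrix.ext_of_mulVec_single fun k => ?_
      rw [← Matrix.mulVec_mulVec, ← Matrix.mulVec_mulVec, hQc, hQc, Matrix.mulVec_add, Matrix.mulVec_add,
        Matrix.mulVec_smul, Matrix.mulVec_smul, Matrix.mulVec_smul, ← hv1, ← hv2, eb2]
      fin_cases k <;> simp [yM]
    exact ⟨eA, eB⟩

set_option maxHeartbeats 1000000 in
/-- **The frame.** -/
theorem exists_frame (hp : p.Prime) (hF : Fintype.card F = p ^ 2) (hp3 : p % 3 = 2) (hω : ω ^ 2 + ω + 1 = 0)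
    {R : Subgroup GL3} (hRs : Cfsg.Geo.IsSymplecticTypeGroup 3 R)
    (hRi : Cfsg.Geo.ActsAbsolutelyIrreducibly (Cfsg.Geo.matrixSet R)) (hsim : R ≤ Cfsg.Geo.similarityGroup H)
    (h27 : Nat.card R = 27) (hZ : Nat.card (Subgroup.center R) = 3) :
    ∃ P : GL3, P ∈ Cfsg.GU 3 F p ∧ ∀ g : GL3, g ∈ R ↔ IsR0 ω ((P⁻¹ * g * P : GL3) : M3) := by
  haveI : Fact p.Prime := ⟨hp⟩
  haveI : CharP F p := charP_of_card_eq_prime_pow hF
  have h3 : (3 : F) ≠ 0 := by
    intro e
    have : ((3 : ℕ) : F) = 0 := by exact_mod_cast e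
    rw [CharP.cast_eq_zero_iff F p, Nat.prime_dvd_prime_iff_eq hp Nat.prime_three] at this
    omega
  have hcube : ω ^ 3 = 1 := by linear_combination (ω - 1) * hω
  have hne : ω ≠ 1 := fun e => h3 (by linear_combination hω - (ω + 2) * e)
  have hne2 : ω ^ 2 ≠ 1 := fun e => hne (by linear_combination hcube - ω * e)
  have hne0 : ω ≠ 0 := fun e => by simp [e] at hcube
  obtain ⟨ag, bg, haR, hbR, hAB, cube, hzmem, qcomm⟩ := exists_gens hp hF hp3 hω hRs hRi h27 hZ
  have cubeM : ∀ g : GL3, g ∈ R → (g : M3) * g * g = 1 := fun g hg => by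
    have := congrArg (fun x : GL3 => (x : M3)) (cube g hg)
    simpa using this
  set a : R := ⟨ag, haR⟩
  obtain ⟨P, hPU, eA, eB'⟩ := exists_orth hF hp3 hω h3 hAB (cubeM _ haR) (cubeM _ hbR)
    (isometry_of_similarity hF hp3 (cube _ haR) (hsim haR)) (isometry_of_similarity hF hp3 (cube _ hbR) (hsim hbR))
  refine ⟨P, hPU, ?_⟩
  set B : M3 := (bg : M3) with hbB'
  have hbB : (bg : M3) = B := rfl
  have eB : B * (P : M3) = (P : M3) * yM := eB'
  have cj : ∀ g : GL3, ((P⁻¹ * g * P : GL3) : M3) = ((P⁻¹ : GL3) : M3) * ((g : M3) * (P : M3)) := fun g => by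
    rw [Units.val_mul, Units.val_mul, Matrix.mul_assoc]
  have cx : ((P⁻¹ * (a : GL3) * P : GL3) : M3) = xM ω := by
    rw [cj, eA, ← Matrix.mul_assoc, ← Units.val_mul, inv_mul_cancel, Units.val_one, one_mul]
  have cy : ((P⁻¹ * bg * P : GL3) : M3) = yM := by
    rw [cj, hbB, eB, ← Matrix.mul_assoc, ← Units.val_mul, inv_mul_cancel, Units.val_one, one_mul]
  have cpow : ∀ (g : GL3) (n : ℕ), ((P⁻¹ * g ^ n * P : GL3) : M3) = ((P⁻¹ * g * P : GL3) : M3) ^ n := fun g n => by
    rw [← Units.val_pow_eq_pow_val]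
    congr 1
    have : P⁻¹ * g * P = MulAut.conj P⁻¹ g := by simp [MulAut.conj_apply]
    rw [this, ← map_pow]
    simp [MulAut.conj_apply]
  have csm : ∀ (z g : GL3) (c : F), (z : M3) = c • 1 →
      ((P⁻¹ * (z * g) * P : GL3) : M3) = c • ((P⁻¹ * g * P : GL3) : M3) := fun z g c hz => by
    simp only [Units.val_mul, hz, Matrix.smul_mul, Matrix.mul_smul, one_mul]
  have cinj : ∀ g g' : GL3, ((P⁻¹ * g * P : GL3) : M3) = ((P⁻¹ * g' * P : GL3) : M3) → g = g' := fun g g' e => by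
    simpa using Units.ext e
  have back : ∀ (i j k : ℕ) (g : GL3),
      ((P⁻¹ * g * P : GL3) : M3) = ω ^ i • (xM ω ^ j * yM ^ k) → g ∈ R := by
    intro i j k g e
    obtain ⟨z, hz, ez⟩ := hzmem (ω ^ i) (by rw [← pow_mul, mul_comm, pow_mul, hcube, one_pow])
    have : g = z * ((a : GL3) ^ j * bg ^ k) := by
      refine cinj _ _ ?_
      rw [e, csm _ _ _ ez, show P⁻¹ * ((a : GL3) ^ j * bg ^ k) * P =
        P⁻¹ * (a : GL3) ^ j * P * (P⁻¹ * bg ^ k * P) by group, Units.val_mul _ (P⁻¹ * bg ^ k * P), cpow, cpow, cx, cy]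
    exact this ▸ mul_mem hz (mul_mem (pow_mem a.2 j) (pow_mem hbR k))
  intro g
  refine ⟨fun hg => ?_, fun ⟨i, j, k, e⟩ => back i j k g e⟩
  set G : M3 := ((P⁻¹ * g * P : GL3) : M3) with hG
  have sem : ∀ (h : GL3), h ∈ R → ∃ c : F, c ^ 3 = 1 ∧
      G * ((P⁻¹ * h * P : GL3) : M3) = c • (((P⁻¹ * h * P : GL3) : M3) * G) := by
    intro h hh
    obtain ⟨c, hc, e⟩ := qcomm g hg h hh
    refine ⟨c, hc, ?_⟩
    rw [hG, ← Units.val_mul, ← Units.val_mul, show P⁻¹ * g * P * (P⁻¹ * h * P) = P⁻¹ * (g * h) * P by group,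
      show P⁻¹ * h * P * (P⁻¹ * g * P) = P⁻¹ * (h * g) * P by group]
    simp only [Units.val_mul] at e ⊢
    rw [e, Matrix.mul_smul, Matrix.smul_mul]
  obtain ⟨c1, hc1, e1⟩ := sem a a.2
  obtain ⟨c2, hc2, e2⟩ := sem bg hbR
  rw [cx] at e1
  rw [cy] at e2
  obtain ⟨k, d0, d1, d2, hk⟩ : ∃ (k : Fin 3) (d0 d1 d2 : F), G = dg d0 d1 d2 * yM ^ (k : ℕ) := by
    have hy : (yM : M3) * yM = !![0, 1, 0; 0, 0, 1; 1, 0, 0] := by
      ext i j
      fin_cases i <;> fin_cases j <;> simp [yM, Matrix.mul_apply, Fin.sum_univ_three]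
    have e00 := congrFun (congrFun e1 0) 0
    have e01 := congrFun (congrFun e1 0) 1
    have e02 := congrFun (congrFun e1 0) 2
    have e10 := congrFun (congrFun e1 1) 0
    have e11 := congrFun (congrFun e1 1) 1
    have e12 := congrFun (congrFun e1 1) 2
    have e20 := congrFun (congrFun e1 2) 0
    have e21 := congrFun (congrFun e1 2) 1
    have e22 := congrFun (congrFun e1 2) 2
    simp [xM, dg, Matrix.mul_apply, Fin.sum_univ_three, Matrix.vecMul, dotProduct] at e00 e01 e02 e10 e11 e12 e20 e21 e22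
    rcases exists_pow_eq h3 hω hc1 with rfl | rfl | rfl
    · refine ⟨0, G 0 0, G 1 1, G 2 2, ?_⟩
      ext i j
      fin_cases i <;> fin_cases j <;> simp [dg]
      all_goals grind
    · refine ⟨2, G 0 1, G 1 2, G 2 0, ?_⟩
      rw [show ((2 : Fin 3) : ℕ) = 2 from rfl, pow_two, hy]
      ext i j
      fin_cases i <;> fin_cases j <;> simp [dg, Matrix.mul_apply, Fin.sum_univ_three]
      all_goals grind
    · refine ⟨1, G 0 2, G 1 0, G 2 1, ?_⟩
      rw [show ((1 : Fin 3) : ℕ) = 1 from rfl, pow_one]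
      ext i j
      fin_cases i <;> fin_cases j <;> simp [dg, yM, Matrix.mul_apply, Fin.sum_univ_three]
      all_goals grind
  have e3 : dg d0 d1 d2 * yM = c2 • (yM * dg d0 d1 d2) := by
    have := congrArg (fun M => M * (yM : M3) ^ (2 * (k : ℕ))) e2
    rw [hk] at this
    rw [Matrix.mul_assoc (dg d0 d1 d2), ← pow_succ, pow_succ'] at this
    simp only [Matrix.mul_assoc, Matrix.smul_mul, ← pow_add] at this
    rw [show (k : ℕ) + 2 * k = 3 * k by ring, pow_mul, yM_pow_three, one_pow, mul_one, mul_one] at this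
    exact this
  have q10 := congrFun (congrFun e3 1) 0
  have q21 := congrFun (congrFun e3 2) 1
  simp [dg, yM, Matrix.mul_apply, Fin.sum_univ_three] at q10 q21
  obtain ⟨j, hj2⟩ : ∃ j : ℕ, c2 = ω ^ j := by
    rcases exists_pow_eq h3 hω hc2 with e | e | e
    exacts [⟨0, by rw [e, pow_zero]⟩, ⟨1, by rw [e, pow_one]⟩, ⟨2, e⟩]
  have hGd : G = d0 • (xM ω ^ j * yM ^ (k : ℕ)) := by
    rw [hk, xM_pow, ← Matrix.smul_mul, Cfsg.Agent.Forms.Max.SL3.SympType.smul_dg, mul_one, ← hj2, ← pow_mul,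
      mul_comm 2, pow_mul, ← hj2]
    congr 1
    congr 1
    · rw [q10, mul_comm]
    · rw [q21, q10]; ring
  have hm : (a : GL3) ^ j * bg ^ (k : ℕ) ∈ R := mul_mem (pow_mem a.2 j) (pow_mem hbR k)
  set s : GL3 := g * ((a : GL3) ^ j * bg ^ (k : ℕ))⁻¹ with hsd
  have hs : s ∈ R := mul_mem hg (inv_mem hm)
  have es : ((P⁻¹ * s * P : GL3) : M3) = d0 • 1 := by
    have hq : P⁻¹ * g * P = P⁻¹ * s * P * (P⁻¹ * (a : GL3) ^ j * P * (P⁻¹ * bg ^ (k : ℕ) * P)) := by
      rw [hsd]; group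
    have hu : ((P⁻¹ * g * P : GL3) : M3) = d0 • ((P⁻¹ * (a : GL3) ^ j * P * (P⁻¹ * bg ^ (k : ℕ) * P) : GL3) : M3) := by
      rw [← hG, hGd, Units.val_mul _ (P⁻¹ * bg ^ (k : ℕ) * P), cpow, cpow, cx, cy]
    rw [hq, Units.val_mul] at hu
    have := congrArg (fun M => M * (((P⁻¹ * (a : GL3) ^ j * P * (P⁻¹ * bg ^ (k : ℕ) * P))⁻¹ : GL3) : M3)) hu
    simpa [Matrix.mul_assoc, Matrix.smul_mul] using this
  have hd : d0 ^ 3 = 1 := by
    have e := cubeM s hs
    have e' : (d0 • (1 : M3)) * (d0 • (1 : M3)) * (d0 • (1 : M3)) = 1 := by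
      rw [← es, ← Units.val_mul, ← Units.val_mul,
        show P⁻¹ * s * P * (P⁻¹ * s * P) * (P⁻¹ * s * P) = P⁻¹ * (s * s * s) * P by group,
        show s * s * s = 1 from Units.ext (by simpa using e)]
      simp
    simp only [Matrix.smul_mul, one_mul, smul_smul] at e'
    have := congrFun (congrFun e' 0) 0
    simp at this
    linear_combination this
  have hxp : xM ω ^ 3 = 1 := by
    rw [xM_pow, hcube, ← pow_mul, show 2 * 3 = 3 * 2 from rfl, pow_mul, hcube, one_pow,
      Cfsg.Agent.Forms.Max.SL3.SympType.dg_one]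
  have hxj : xM ω ^ j = xM ω ^ (j % 3) := pow_eq_pow_mod j hxp
  rcases exists_pow_eq h3 hω hd with e | e | e
  · exact ⟨0, ⟨j % 3, Nat.mod_lt _ (by norm_num)⟩, k, by rw [hGd, hxj, e]; simp⟩
  · exact ⟨1, ⟨j % 3, Nat.mod_lt _ (by norm_num)⟩, k, by rw [hGd, hxj, e]; simp⟩
  · exact ⟨2, ⟨j % 3, Nat.mod_lt _ (by norm_num)⟩, k, by rw [hGd, hxj, e]; simp⟩

end Cfsg.Agent.Forms.Max.SU3.SympType
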