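import Mathlib
import Cfsg.Agent.Lib.Forms.Max.SL3.SympType.Transfer
import Cfsg.Agent.Lib.Forms.Max.SU3.SympType.Trans
import Cfsg.Agent.Lib.Forms.Max.SU3.SympType.Transfer
import Cfsg.Agent.Lib.Forms.Max.SU3.SympType.Normal
import Cfsg.Agent.Lib.Forms.Max.SU3.SympType.Nine

/-!
# The normaliser of an extraspecial group of order 27 is maximal in `SU(3, p)`, `p ≡ 2 mod 3`
-/

set_option autoImplicit false
set_option linter.unusedSectionVars false
set_option linter.style.haveILetI false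

namespace Cfsg.Agent.Forms.Max.SU3.SympType

open Matrix
open Cfsg.Agent.Forms.Max.SL3.SympType (Mem NoTr IsR0 Nrm0 xM yM fM qM dg sr mem_sl)

variable {F : Type*} [Field F] [Fintype F] {p : ℕ} {ω : F}

local notation "M3" => Matrix (Fin 3) (Fin 3) F
local notation "GL3" => GL (Fin 3) F

/-- a primitive cube root of unity -/
theorem exists_omega (h3 : (3 : F) ≠ 0) (hd : 3 ∣ Fintype.card F - 1) : ∃ ω : F, ω ^ 2 + ω + 1 = 0 := by
  classical
  obtain ⟨z, hz⟩ := IsCyclic.exists_ofOrder_eq_natCard (α := Fˣ)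
  rw [Nat.card_eq_fintype_card, Fintype.card_units] at hz
  obtain ⟨m, hm⟩ := hd
  refine ⟨((z ^ m : Fˣ) : F), ?_⟩
  have h1 : ((z ^ m : Fˣ) : F) ^ 3 = 1 := by
    rw [← Units.val_pow_eq_pow_val, ← pow_mul, mul_comm, ← hm, ← hz, pow_orderOf_eq_one, Units.val_one]
  have h2 : ((z ^ m : Fˣ) : F) - 1 ≠ 0 := fun e => by
    have e' : z ^ m = 1 := Units.ext (by rw [Units.val_one]; exact sub_eq_zero.1 e)
    have hd := orderOf_dvd_of_pow_eq_one e'
    have hpos : 1 < Fintype.card F := Fintype.one_lt_card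
    have := Nat.le_of_dvd (by omega) hd
    omega
  exact (mul_eq_zero.1 (by linear_combination h1 :
    (((z ^ m : Fˣ) : F) - 1) * (((z ^ m : Fˣ) : F) ^ 2 + ((z ^ m : Fˣ) : F) + 1) = 0)).resolve_left h2

/-- a sign element does not normalise the extraspecial group -/
theorem not_nrm0_sign (h2 : (2 : F) ≠ 0) (hω : ω ^ 3 = 1) {g : GL3} (hg : (g : M3) = dg 1 (-1) (-1)) :
    ¬ Nrm0 ω g := by
  rintro ⟨-, N, ⟨i, j, k, rfl⟩, e⟩
  have e02 := congrFun (congrFun e 0) 2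
  rw [hg, Matrix.mul_apply, Matrix.mul_apply, Fin.sum_univ_three, Fin.sum_univ_three,
    SL3.SympType.r0_entry, SL3.SympType.r0_entry, SL3.SympType.r0_entry] at e02
  have hi : (ω ^ (i : ℕ)) ^ 3 = 1 := by rw [← pow_mul, mul_comm, pow_mul, hω, one_pow]
  fin_cases k <;> simp [dg, yM] at e02
  have h3 : (ω ^ (i : ℕ)) = -1 := by linear_combination e02
  rw [h3] at hi
  exact h2 (by linear_combination -hi)

/-- the four generators and the sign element preserve the form -/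
theorem gens_unitary (hF : Fintype.card F = p ^ 2) (hp : p.Prime) (hodd : Odd p) (hp3 : p % 3 = 2)
    (hω : ω ^ 2 + ω + 1 = 0) (h3 : (3 : F) ≠ 0) :
    ∀ g : GL3, ((g : M3) = xM ω ∨ (g : M3) = yM ∨ (g : M3) = fM ω ∨ (g : M3) = qM ω ∨ (g : M3) = dg 1 (-1) (-1)) →
      g ∈ Cfsg.GU 3 F p := by
  haveI : Fact p.Prime := ⟨hp⟩
  haveI : CharP F p := charP_of_card_eq_prime_pow hF
  have hcube : ω ^ 3 = 1 := by linear_combination (ω - 1) * hω
  set σ := HermStd.qHom hF with hσ'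
  have hσ : ∀ x, σ x = x ^ p := fun x => rfl
  have b0 : σ ω = ω ^ 2 := by rw [hσ, pow_eq_pow_mod p hcube, hp3]
  have hd : ω - ω ^ 2 ≠ 0 := fun e => h3 (by linear_combination (4 - (2 * ω + 1)) * hω - (2 * ω + 1) * e)
  have bs : σ (sr ω) = -sr ω := by
    rw [sr, map_inv₀, map_sub, map_pow, b0, ← inv_neg]
    congr 1
    linear_combination -ω * hcube
  have hs : sr ω * sr ω * 3 = -1 := by
    have e : sr ω * (ω - ω ^ 2) = 1 := inv_mul_cancel₀ hd
    grind
  have bm : σ (-1) = -1 := by rw [map_neg, map_one]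
  intro g hg
  rw [Classical.UnitaryConj.mem_GU_iff hF]
  show ((g : M3).map σ)ᵀ * (g : M3) = 1
  rcases hg with e | e | e | e | e <;> rw [e] <;> ext a b <;> fin_cases a <;> fin_cases b <;>
    simp [xM, yM, fM, qM, dg, Matrix.mul_apply, Fin.sum_univ_three, map_mul, map_pow, b0, bs, bm, Matrix.one_apply]
  all_goals grind

/-- **The normaliser of an extraspecial group of order 27 is maximal in `SU(3, p)`.** -/
theorem maximal {F : Type*} [Field F] [Fintype F] (q : ℕ) (hF : Fintype.card F = q ^ 2) (hq : 3 ≤ q) :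
    ∀ (p : ℕ) (R : Subgroup (Matrix.GeneralLinearGroup (Fin 3) F)), p.Prime → q = p → p % 3 = 2 → 11 ≤ p →
      Cfsg.Geo.IsSymplecticTypeGroup 3 R → Cfsg.Geo.ActsAbsolutelyIrreducibly (Cfsg.Geo.matrixSet R) →
      R ≤ Cfsg.Geo.similarityGroup (Cfsg.hermForm 3 F q) → Nat.card R = 27 → Nat.card (Subgroup.center R) = 3 →
      Cfsg.Geo.IsMaximalIn (Cfsg.GU 3 F q ⊓ Cfsg.Geo.specialLinear (Fin 3) F)
        (Cfsg.Geo.subgroupNormalizer R ⊓ (Cfsg.GU 3 F q ⊓ Cfsg.Geo.specialLinear (Fin 3) F)) := by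
  classical
  intro p R hp hqp hp3 hp11 hRs hRi hsim h27 hZ
  subst hqp
  haveI : Fact q.Prime := ⟨hp⟩
  haveI : CharP F q := charP_of_card_eq_prime_pow hF
  have hodd : Odd q := hp.odd_of_ne_two (by omega)
  have cast_ne : ∀ n : ℕ, 0 < n → n < q → (n : F) ≠ 0 := fun n h0 hn e => by
    have := Nat.le_of_dvd h0 ((CharP.cast_eq_zero_iff F q n).1 e)
    omega
  have three : (3 : F) ≠ 0 := by exact_mod_cast cast_ne 3 (by norm_num) (by omega)
  have two : (2 : F) ≠ 0 := by exact_mod_cast cast_ne 2 (by norm_num) (by omega)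
  obtain ⟨ω, hω⟩ := exists_omega three (F := F) (by
    rw [hF]
    have h1 : q ^ 2 % 3 = 1 := by rw [Nat.pow_mod, hp3]
    omega)
  have hω3 : ω ^ 3 = 1 := by linear_combination (ω - 1) * hω
  have hω0 : ω ≠ 0 := fun e => by simp [e] at hω3
  obtain ⟨P, hPU, hiff⟩ := exists_frame hp hF hp3 hω hRs hRi hsim h27 hZ
  set K : Subgroup (GL (Fin 3) F) := Cfsg.GU 3 F q ⊓ Cfsg.Geo.specialLinear (Fin 3) F with hK
  set c := MulAut.conj P
  have cK : ∀ g : GL (Fin 3) F, c g ∈ K ↔ g ∈ K := fun g => by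
    have h1 : P * g * P⁻¹ ∈ Cfsg.GU 3 F q ↔ g ∈ Cfsg.GU 3 F q :=
      ⟨fun e => by simpa [mul_assoc] using mul_mem (mul_mem (inv_mem hPU) e) hPU,
        fun e => mul_mem (mul_mem hPU e) (inv_mem hPU)⟩
    refine and_congr h1 ?_
    show Matrix.GeneralLinearGroup.det (P * g * P⁻¹) = 1 ↔ Matrix.GeneralLinearGroup.det g = 1
    rw [map_mul, map_mul, map_inv, mul_inv_cancel_comm]
  set R' : Subgroup (GL (Fin 3) F) := R.comap c.toMonoidHom with hR'
  have memR' : ∀ x, x ∈ R' ↔ IsR0 ω (x : Matrix (Fin 3) (Fin 3) F) := fun x => by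
    rw [hR', Subgroup.mem_comap]
    show P * x * P⁻¹ ∈ R ↔ _
    rw [hiff]
    simp [mul_assoc]
  have nR : ∀ g, c g ∈ Cfsg.Geo.subgroupNormalizer R ↔ g ∈ Subgroup.normalizer (R' : Set (GL (Fin 3) F)) := by
    intro g
    rw [Cfsg.Geo.subgroupNormalizer, Subgroup.mem_normalizer_iff, Subgroup.mem_normalizer_iff]
    refine ⟨fun h x => ?_, fun h x => ?_⟩
    · simp only [hR', Subgroup.mem_comap, MulEquiv.coe_toMonoidHom, map_mul, map_inv]
      exact h (c x)
    · have := h (c.symm x)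
      simp only [hR', Subgroup.mem_comap, MulEquiv.coe_toMonoidHom, map_mul, map_inv, MulEquiv.apply_symm_apply] at this
      exact this
  have nrmR : ∀ g, Nrm0 ω g → c g ∈ Cfsg.Geo.subgroupNormalizer R := fun g hg =>
    (nR g).2 (SL3.SympType.nrm0_normalises R' memR' hω0 hg)
  obtain ⟨fx, fy, qx, qy, df, dq⟩ := SL3.SympType.fourier_conj hω three
  have hU := gens_unitary hF hp hodd hp3 hω three
  refine Cfsg.Agent.Forms.Max.isMaximalIn_of inf_le_right (fun hle => ?_) fun M hNM hMS g hgM hg => ?_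
  · -- the sign element
    let s : GL (Fin 3) F := Matrix.GeneralLinearGroup.mkOfDetNeZero (dg 1 (-1) (-1))
      (by simp [dg, Matrix.det_fin_three])
    have hs : s ∈ K := ⟨hU s (Or.inr (Or.inr (Or.inr (Or.inr rfl)))), mem_sl.2 (by simp [s, dg, Matrix.det_fin_three])⟩
    have hn := (nR s).1 (hle ((cK s).2 hs)).1
    obtain ⟨y, hy⟩ : IsUnit (yM : Matrix (Fin 3) (Fin 3) F) :=
      IsUnit.of_mul_eq_one (yM ^ 2) (by rw [← pow_succ', SL3.SympType.yM_pow_three])
    obtain ⟨x, hx⟩ : IsUnit (xM ω) := (Matrix.isUnit_iff_isUnit_det _).2 (isUnit_iff_ne_zero.2 (by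
      rw [SL3.SympType.xM, SL3.SympType.det_dg]; simp [hω0]))
    refine not_nrm0_sign two hω3 (g := s) rfl ⟨?_, ?_⟩
    · have hxR : x ∈ R' := (memR' x).2 ⟨0, 1, 0, by simp [hx]⟩
      refine ⟨_, (memR' _).1 ((Subgroup.mem_normalizer_iff.1 hn x).1 hxR), ?_⟩
      rw [Units.val_mul, Units.val_mul, hx, Matrix.mul_assoc, Units.inv_mul, Matrix.mul_one]
    · have hyR : y ∈ R' := (memR' y).2 ⟨0, 0, 1, by simp [hy]⟩
      refine ⟨_, (memR' _).1 ((Subgroup.mem_normalizer_iff.1 hn y).1 hyR), ?_⟩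
      rw [Units.val_mul, Units.val_mul, hy, Matrix.mul_assoc, Units.inv_mul, Matrix.mul_one]
  -- the group in the standard frame
  set M' : Subgroup (GL (Fin 3) F) := M.comap c.toMonoidHom with hM'
  have hle : M' ≤ K := fun x hx => (cK x).1 (hMS hx)
  have hin : ∀ u ∈ K, Nrm0 ω u → u ∈ M' := fun u hu hn => hNM ⟨nrmR u hn, (cK u).2 hu⟩
  have into : ∀ {N : Matrix (Fin 3) (Fin 3) F},
      (N = xM ω ∨ N = yM ∨ N = fM ω ∨ N = qM ω) → N.det = 1 →
      (∀ u : GL (Fin 3) F, (u : Matrix (Fin 3) (Fin 3) F) = N → Nrm0 ω u) → Mem M' N := fun {N} hN hd hn => by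
    let u := Matrix.GeneralLinearGroup.mkOfDetNeZero N (by rw [hd]; exact one_ne_zero)
    refine ⟨u, hin u ⟨hU u ?_, mem_sl.2 hd⟩ (hn u rfl), rfl⟩
    rcases hN with e | e | e | e
    exacts [Or.inl e, Or.inr (Or.inl e), Or.inr (Or.inr (Or.inl e)), Or.inr (Or.inr (Or.inr (Or.inl e)))]
  have r0 : ∀ i j k : Fin 3, IsR0 ω (ω ^ (i : ℕ) • (xM ω ^ (j : ℕ) * yM ^ (k : ℕ))) := fun i j k => ⟨i, j, k, rfl⟩
  have hX : Mem M' (xM ω) := into (Or.inl rfl)
    (by rw [SL3.SympType.xM, SL3.SympType.det_dg]; linear_combination hω3) fun u eu =>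
    ⟨⟨_, by simpa using r0 0 1 0, by rw [eu]⟩, ⟨_, by simpa using r0 1 0 1, by
      rw [eu]
      ext i j
      fin_cases i <;> fin_cases j <;> simp [xM, dg, yM, Matrix.mul_apply, Fin.sum_univ_three]
      all_goals grind⟩⟩
  have hY : Mem M' (yM : Matrix (Fin 3) (Fin 3) F) := into (Or.inr (Or.inl rfl))
    (by simp [yM, Matrix.det_fin_three]) fun u eu =>
    ⟨⟨_, by simpa using r0 2 1 0, by
      rw [eu]
      ext i j
      fin_cases i <;> fin_cases j <;> simp [xM, dg, yM, Matrix.mul_apply, Fin.sum_univ_three]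
      all_goals grind⟩, ⟨_, by simpa using r0 0 0 1, by rw [eu]⟩⟩
  have hFm : Mem M' (fM ω) := into (Or.inr (Or.inr (Or.inl rfl))) df fun u eu =>
    ⟨⟨_, by simpa using r0 0 0 2, by rw [eu, fx]⟩, ⟨_, by simpa using r0 0 1 0, by rw [eu, fy]⟩⟩
  have hQ : Mem M' (qM ω) := into (Or.inr (Or.inr (Or.inr rfl))) dq fun u eu =>
    ⟨⟨_, by simpa using r0 1 2 2, by rw [eu, qx]⟩, ⟨_, by simpa using r0 2 2 1, by rw [eu, qy]⟩⟩
  by_cases hT : NoTr M'
  · exfalso
    have hA : Amb M' q ω := ⟨hp, hF, hp3, hp11, hω, hle, hX, hY, hFm, hQ, hT⟩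
    refine hg ⟨?_, hMS hgM⟩
    have hgM' : c.symm g ∈ M' := by
      show c (c.symm g) ∈ M
      rwa [MulEquiv.apply_symm_apply]
    have hn : Nrm0 ω (c.symm g) := by
      by_cases h9 : q % 9 = 8
      · exact Nine.normalises hA h9 hin _ hgM'
      · exact normalises hA h9 _ hgM'
    have := nrmR _ hn
    rwa [MulEquiv.apply_symm_apply] at this
  · simp only [SL3.SympType.NoTr, not_forall, not_not] at hT
    obtain ⟨u, φ, hu, hφ, h0, t, ht, hx⟩ := hT
    have hall := le_of_tr hF hp (by omega) hp3 hω hle hX hY ht hu hφ h0 hx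
    intro x hx'
    have := hall ((cK (c.symm x)).1 (by rwa [MulEquiv.apply_symm_apply]))
    simpa [hM'] using this

end Cfsg.Agent.Forms.Max.SU3.SympType
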